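import Cfsg.Agent.Lib.FT.PF13.Side
import Cfsg.Agent.Lib.FT.Stmts
import Cfsg.Agent.Lib.FT.Maximal
import Cfsg.Agent.Lib.FT.BG15.General
import Cfsg.Agent.Lib.OddOrder.FittingHall
import Cfsg.Agent.Lib.Coprime.SchurZassenhaus
import Cfsg.Agent.S1387
import Cfsg.Agent.S1388

/-!
# Peterfalvi, section 13: the side data of a pair of maximal subgroups of type P

From the conclusion of (13.1) (the types, the order and exponent of the Fitting Hall subgroup) the
configuration `Side` is built.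
-/

set_option autoImplicit false
set_option linter.style.haveILetI false
set_option linter.unusedSectionVars false

namespace CfsgLib.FT.PF13

open _root_.Subgroup Cfsg CfsgLib.OddOrder CfsgLib.FT.BG15
open scoped Pointwise

universe u

variable {G : Type u} [Group G] [Finite G]

/-- The data of one maximal subgroup used in this section. -/
structure Facts (S W₁ U W₂ : Subgroup G) : Prop where
  minimal : IsMinSimpleOddOrder G
  coatom : IsCoatom S
  hP : IsTypePWith S W₁ U W₂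
  U_ne : U ≠ ⊥
  U_comm : ∀ a ∈ U, ∀ b ∈ U, a * b = b * a
  prime_p : (Nat.card W₂).Prime
  prime_q : (Nat.card W₁).Prime
  comm_H : ∀ a ∈ fittingHallOf S, ∀ b ∈ fittingHallOf S, a * b = b * a
  exp_H : ∀ a ∈ fittingHallOf S, a ^ Nat.card W₂ = 1
  card_H : Nat.card (fittingHallOf S) = Nat.card W₂ ^ Nat.card W₁
  ti : IsTISubset (fittingOf S : Set G)

theorem derived_sup {S W₁ U W₂ : Subgroup G} (hP : IsTypePWith S W₁ U W₂) :
    fittingHallOf S ⊔ U = ⁅S, S⁆ :=
  sup_eq_of_isComplIn hP.U_compl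

theorem U_le {S W₁ U W₂ : Subgroup G} (hP : IsTypePWith S W₁ U W₂) : U ≤ S :=
  hP.U_compl.2.1.trans (Subgroup.commutator_le_self S)

theorem coprime_U_H {S W₁ U W₂ : Subgroup G} (hP : IsTypePWith S W₁ U W₂) :
    (Nat.card U).Coprime (Nat.card (fittingHallOf S)) :=
  coprime_of_disjoint_fittingHallOf (U_le hP) hP.U_compl.2.2.1

theorem card_compl_eq {S W₁ W₁' U U' W₂ W₂' : Subgroup G} (h : IsTypePWith S W₁ U W₂)
    (h' : IsTypePWith S W₁' U' W₂') :
    Nat.card W₁ = Nat.card W₁' ∧ Nat.card U = Nat.card U' :=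
  ⟨Nat.eq_of_mul_eq_mul_left Nat.card_pos ((card_mul_card_of_isComplIn h.W₁_compl).trans
      (card_mul_card_of_isComplIn h'.W₁_compl).symm),
    Nat.eq_of_mul_eq_mul_left Nat.card_pos ((card_mul_card_of_isComplIn h.U_compl).trans
      (card_mul_card_of_isComplIn h'.U_compl).symm)⟩

/-- The complements `U` of any two sets of data are conjugate in `S`. -/
theorem exists_conj_U {S W₁ W₁' U U' W₂ W₂' : Subgroup G} (hG : IsMinSimpleOddOrder G)
    (hS : IsCoatom S) (h : IsTypePWith S W₁ U W₂) (h' : IsTypePWith S W₁' U' W₂') :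
    ∃ a ∈ S, ∀ x, x ∈ U' ↔ a⁻¹ * x * a ∈ U := by
  obtain ⟨a, ha, e⟩ := CfsgLib.Coprime.sz_conj_rel (N := fittingHallOf S) (H := U) (K := U')
    ((U_le h).trans (le_normalizer_fittingHallOf S)) ((U_le h').trans (le_normalizer_fittingHallOf S))
    (coprime_U_H h).symm (card_compl_eq h h').2.symm
    (by rw [derived_sup h]; exact h'.U_compl.2.1)
    (Or.inl (CfsgLib.Coprime.isSolvable_of_le (fittingHallOf_le S) (maximal_solvable hG hS)))
  exact ⟨a, fittingHallOf_le S ha, fun x => by rw [← e, CfsgLib.Coprime.mem_conj_smul]⟩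

/-- The facts follow from the conclusion of (13.1). -/
theorem facts_of {S W₁ U W₂ : Subgroup G} (hG : IsMinSimpleOddOrder G) (hS : IsCoatom S)
    (hP : IsTypePWith S W₁ U W₂) (htype : IsOfTypeII S ∨ IsOfTypeIII S)
    (hp : (Nat.card W₂).Prime) (hel : IsElementaryAbelian (Nat.card W₂) (fittingHallOf S))
    (hcard : Nat.card (fittingHallOf S) = Nat.card W₂ ^ Nat.card W₁) : Facts S W₁ U W₂ := by
  obtain ⟨W₁', U', W₂', hP', hU', hq', hti, hcomm⟩ : ∃ W₁' U' W₂', IsTypePWith S W₁' U' W₂' ∧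
      U' ≠ ⊥ ∧ (Nat.card W₁').Prime ∧ IsTISubset (fittingOf S : Set G) ∧ IsMulCommutative U' := by
    rcases htype with ⟨W₁', U', W₂', h1, h2, h3, h4, h5, -⟩ | ⟨W₁', U', W₂', h1, h2, h3, h4, h5, -⟩ <;>
      exact ⟨W₁', U', W₂', h1, h2, h3, h4, h5⟩
  obtain ⟨a, -, ha⟩ := exists_conj_U hG hS hP hP'
  refine
    { minimal := hG, coatom := hS, hP := hP, prime_p := hp, ti := hti, card_H := hcard
      prime_q := by rw [(card_compl_eq hP hP').1]; exact hq'
      comm_H := fun x hx y hy => congrArg Subtype.val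
        (hel.1.is_comm.comm (⟨x, hx⟩ : fittingHallOf S) ⟨y, hy⟩)
      exp_H := hel.2
      U_ne := fun e => hU' ?_
      U_comm := fun x hx y hy => ?_ }
  · rw [← Subgroup.card_eq_one, ← (card_compl_eq hP hP').2, e, Subgroup.card_bot]
  · have h1 : a * x * a⁻¹ ∈ U' := (ha _).mpr (by simpa [mul_assoc] using hx)
    have h2 : a * y * a⁻¹ ∈ U' := (ha _).mpr (by simpa [mul_assoc] using hy)
    have h := congrArg Subtype.val (hcomm.is_comm.comm (⟨_, h1⟩ : U') ⟨_, h2⟩)
    have h' : a * (x * y) * a⁻¹ = a * (y * x) * a⁻¹ := by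
      simpa [mul_assoc] using h
    exact mul_left_cancel (mul_right_cancel h')

namespace Facts

variable {S W₁ U W₂ : Subgroup G} (F : Facts S W₁ U W₂)
include F

theorem H_le : fittingHallOf S ≤ S := fittingHallOf_le S

theorem W₁_le : W₁ ≤ S := F.hP.W₁_compl.2.1

theorem W₂_le_H : W₂ ≤ fittingHallOf S := F.hP.W₂_le.trans inf_le_left

theorem derived : fittingHallOf S ⊔ U = ⁅S, S⁆ := derived_sup F.hP

theorem coprime_q : (Nat.card W₁).Coprime (Nat.card (⁅S, S⁆ : Subgroup G)) := by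
  have h := F.hP.W₁_hall
  have e : W₁.relIndex S * Nat.card W₁ = Nat.card S := relIndex_mul_card_of_le F.W₁_le
  have e' := card_mul_card_of_isComplIn F.hP.W₁_compl
  rw [← e'] at e
  rwa [Nat.eq_of_mul_eq_mul_right Nat.card_pos e] at h

theorem q_coprime_U : ¬ Nat.card W₁ ∣ Nat.card U :=
  F.prime_q.coprime_iff_not_dvd.mp
    (F.coprime_q.coprime_dvd_right (Subgroup.card_dvd_of_le F.hP.U_compl.2.1))

theorem p_coprime_U : ¬ Nat.card W₂ ∣ Nat.card U := by
  refine F.prime_p.coprime_iff_not_dvd.mp ((coprime_U_H F.hP).symm.coprime_dvd_left ?_)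
  rw [F.card_H]
  exact dvd_pow_self _ F.prime_q.ne_zero

theorem ne : Nat.card W₂ ≠ Nat.card W₁ := by
  intro e
  have h : (Nat.card W₁).Coprime (Nat.card W₂) := F.coprime_q.coprime_dvd_right
    (Subgroup.card_dvd_of_le (F.W₂_le_H.trans F.hP.U_compl.1))
  rw [e, Nat.coprime_self] at h
  exact F.prime_q.one_lt.ne' h

/-- The configuration inside `S`. -/
noncomputable def loc : LocalS S where
  P := (fittingHallOf S).subgroupOf S
  U := U.subgroupOf S
  W₁ := W₁.subgroupOf S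
  W₂ := W₂.subgroupOf S
  p := Nat.card W₂
  q := Nat.card W₁
  prime_p := F.prime_p
  prime_q := F.prime_q
  ne := F.ne
  odd := F.minimal.1.of_dvd_nat (Subgroup.card_subgroup_dvd_card S)
  normal_P := normal_subgroupOf_of_le_normalizer (le_normalizer_fittingHallOf S)
  comm_P a ha b hb := Subtype.ext (F.comm_H (a : G) ha b hb)
  exp_P a ha := Subtype.ext (by simpa using F.exp_H (a : G) ha)
  card_P := (Nat.card_congr (Subgroup.subgroupOfEquivOfLe F.H_le).toEquiv).trans F.card_H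
  card_W₁ := Nat.card_congr (Subgroup.subgroupOfEquivOfLe F.W₁_le).toEquiv
  card_W₂ := Nat.card_congr (Subgroup.subgroupOfEquivOfLe (F.W₂_le_H.trans F.H_le)).toEquiv
  W₂_le x hx := F.W₂_le_H hx
  comm_U a ha b hb := Subtype.ext (F.U_comm (a : G) ha b hb)
  W₁_norm x hx v hv := (mem_normalizer_iff.mp (F.hP.U_normal hx) (v : G)).mp hv
  disj_U := (Subgroup.eq_bot_iff_forall _).mpr fun x hx => by
    have h : (x : G) ∈ fittingHallOf S ⊓ U := ⟨hx.1, hx.2⟩
    rw [F.hP.U_compl.2.2.1, mem_bot] at h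
    exact Subtype.ext h
  normal_D := by
    rw [← subgroupOf_sup F.H_le (U_le F.hP), F.derived]
    exact normal_subgroupOf_of_le_normalizer
      (le_normalizer_commutator Subgroup.le_normalizer Subgroup.le_normalizer)
  disj_W₁ := by
    rw [← subgroupOf_sup F.H_le (U_le F.hP), F.derived]
    refine (Subgroup.eq_bot_iff_forall _).mpr fun x hx => ?_
    have h : (x : G) ∈ ⁅S, S⁆ ⊓ W₁ := ⟨hx.1, hx.2⟩
    rw [F.hP.W₁_compl.2.2.1, mem_bot] at h
    exact Subtype.ext h
  sup_W₁ := by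
    rw [← subgroupOf_sup F.H_le (U_le F.hP), F.derived,
      ← subgroupOf_sup (Subgroup.commutator_le_self S) F.W₁_le,
      sup_eq_of_isComplIn F.hP.W₁_compl, subgroupOf_self]
  fix x hx hx1 := by
    rw [← subgroupOf_sup F.H_le (U_le F.hP), F.derived]
    ext z
    rw [mem_inf, mem_subgroupOf, mem_subgroupOf,
      ← F.hP.W₂_centralizer (x : G) hx (fun e => hx1 (Subtype.ext e)), mem_inf,
      mem_centralizer_singleton_iff, mem_centralizer_singleton_iff, ← Subtype.val_inj]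
    rfl
  p_coprime := by
    rw [Nat.card_congr (Subgroup.subgroupOfEquivOfLe (U_le F.hP)).toEquiv]
    exact F.p_coprime_U
  q_coprime := by
    rw [Nat.card_congr (Subgroup.subgroupOfEquivOfLe (U_le F.hP)).toEquiv]
    exact F.q_coprime_U
  U_act h := (Cfsg.Agent.S1388.result S W₁ U W₂ F.hP).2 F.U_ne fun v hv =>
    mem_centralizer_iff.mpr fun a ha => congrArg Subtype.val
      (mem_centralizer_iff.mp (h (show (⟨v, U_le F.hP hv⟩ : S) ∈ U.subgroupOf S from hv))
        ⟨a, F.H_le ha⟩ ha)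

theorem mem_loc_C {v : S} :
    v ∈ F.loc.C ↔ (v : G) ∈ U ⊓ centralizer (fittingHallOf S : Set G) := by
  constructor
  · exact fun h => ⟨h.1, mem_centralizer_iff.mpr fun a ha => congrArg Subtype.val
      (mem_centralizer_iff.mp h.2 ⟨a, F.H_le ha⟩ ha)⟩
  · exact fun h => ⟨h.1, mem_centralizer_iff.mpr fun a ha =>
      Subtype.ext (mem_centralizer_iff.mp h.2 (a : G) ha)⟩

theorem fitting_ne_bot : fittingOf S ≠ ⊥ := fun e => F.prime_p.one_lt.ne' (by
  rw [← Subgroup.card_eq_one.mpr (le_bot_iff.mp (e ▸ (F.W₂_le_H.trans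
    (fittingHallOf_le_fittingOf S)) : W₂ ≤ ⊥))])

/-- An element moving a nontrivial element of `F(S)` into `F(S)` lies in `S`. -/
theorem mem_of_conj {g z : G} (hz : z ∈ fittingOf S) (hz1 : z ≠ 1)
    (hgz : g * z * g⁻¹ ∈ fittingOf S) : g ∈ S := by
  rw [← normalizer_eq_maximal F.minimal F.coatom (fittingOf_le S) F.fitting_ne_bot
    (le_normalizer_fittingOf S)]
  by_contra hg
  exact hz1 (F.ti g hg z hz hgz)

theorem mem_fittingOf_of_mem_loc_H {h : S} (hh : h ∈ F.loc.H) : (h : G) ∈ fittingOf S := by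
  obtain ⟨a, ha, z, hz, rfl⟩ := F.loc.mem_H_iff.mp hh
  rw [Cfsg.Agent.S1387.result S W₁ U W₂ F.hP]
  exact mul_mem_sup ha (F.mem_loc_C.mp hz)

/-- The side of `S`. -/
noncomputable def side : Side S W₁ W₂ where
  loc := F.loc
  map_W₁ := map_subgroupOf_eq_of_le F.W₁_le
  map_W₂ := map_subgroupOf_eq_of_le (F.W₂_le_H.trans F.H_le)
  ti g h hh h1 hm hh' := F.mem_of_conj (F.mem_fittingOf_of_mem_loc_H hh)
    (fun e => h1 (Subtype.ext e)) (F.mem_fittingOf_of_mem_loc_H hh')
  selfNorm := F.hP.selfNormalizing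

end Facts

/-- The two sides of a pair, given (13.1). -/
theorem facts_pair (h43 : StmtS1543.{u}) (hG : IsMinSimpleOddOrder G) (S T W₁ W₂ U V : Subgroup G)
    (hS : IsCoatom S) (hT : IsCoatom T) (hSP : IsTypePWith S W₁ U W₂) (hTP : IsTypePWith T W₂ V W₁)
    (hST : S ⊓ T = W₁ ⊔ W₂) (hII : IsOfTypeII S ∨ IsOfTypeII T)
    (hS25 : IsOfTypeII S ∨ IsOfTypeIII S ∨ IsOfTypeIV S ∨ IsOfTypeV S)
    (hT25 : IsOfTypeII T ∨ IsOfTypeIII T ∨ IsOfTypeIV T ∨ IsOfTypeV T) :
    Facts S W₁ U W₂ ∧ Facts T W₂ V W₁ ∧ (Nat.card W₁ < Nat.card W₂ → IsOfTypeII S) := by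
  obtain ⟨hS23, hlt, helS, hcS, -, -⟩ := h43 hG S T W₁ W₂ U V hS hT hSP hTP hST hII hS25 hT25
  obtain ⟨hT23, -, helT, hcT, -, -⟩ := h43 hG T S W₂ W₁ V U hT hS hTP hSP
    (by rw [inf_comm, hST, sup_comm]) hII.symm hT25 hS25
  have prime_of : ∀ {M A B C : Subgroup G}, IsTypePWith M A B C →
      IsOfTypeII M ∨ IsOfTypeIII M → (Nat.card A).Prime := by
    intro M A B C hP h
    rcases h with ⟨A', B', C', h1, -, h3, -⟩ | ⟨A', B', C', h1, -, h3, -⟩ <;>
      exact (card_compl_eq hP h1).1 ▸ h3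
  exact ⟨facts_of hG hS hSP hS23 (prime_of hTP hT23) helS hcS,
    facts_of hG hT hTP hT23 (prime_of hSP hS23) helT hcT, hlt⟩

end CfsgLib.FT.PF13
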