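import Mathlib

/-!
# Peterfalvi (13.10): the arithmetic behind `C_U(P) = 1`
-/

set_option autoImplicit false

namespace CfsgLib.FT.PF13

/-- A concave quadratic positive at both ends of an interval is positive inside. -/
theorem concave_pos {A B M lo hi v : ℝ} (hA : 0 ≤ A) (h1 : lo ≤ v) (h2 : v ≤ hi)
    (hlo : B * lo * M < A * ((lo - 1) * (M - lo - 1)))
    (hhi : B * hi * M < A * ((hi - 1) * (M - hi - 1))) :
    B * v * M < A * ((v - 1) * (M - v - 1)) := by
  rcases eq_or_lt_of_le (h1.trans h2) with h | h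
  · have : v = lo := le_antisymm (h ▸ h2) h1
    rw [this]
    exact hlo
  · set a := A * ((lo - 1) * (M - lo - 1)) - B * lo * M with ha
    set b := A * ((hi - 1) * (M - hi - 1)) - B * hi * M with hb
    have e : (hi - lo) * (A * ((v - 1) * (M - v - 1)) - B * v * M) =
        (hi - v) * a + (v - lo) * b + A * ((v - lo) * (hi - v) * (hi - lo)) := by
      rw [ha, hb]; ring
    have hpos : 0 < (hi - v) * a + (v - lo) * b + A * ((v - lo) * (hi - v) * (hi - lo)) := by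
      have hz : 0 ≤ A * ((v - lo) * (hi - v) * (hi - lo)) :=
        mul_nonneg hA (mul_nonneg (mul_nonneg (sub_nonneg.mpr h1) (sub_nonneg.mpr h2)) (by linarith))
      rcases eq_or_lt_of_le h1 with e1 | e1
      · nlinarith
      · nlinarith
    rw [← e] at hpos
    have := (mul_pos_iff_of_pos_left (sub_pos.mpr h)).mp hpos
    linarith

/-- The value at the upper end `(M - 1) / r`. -/
theorem high_end {A B M r : ℝ} (hr : 0 < r) (hM : 1 + r < M)
    (h : B * r * M < A * ((r - 1) * (M - 1 - r))) :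
    B * ((M - 1) / r) * M < A * (((M - 1) / r - 1) * (M - (M - 1) / r - 1)) := by
  have e : A * (((M - 1) / r - 1) * (M - (M - 1) / r - 1)) - B * ((M - 1) / r) * M =
      (M - 1) / r ^ 2 * (A * ((r - 1) * (M - 1 - r)) - B * r * M) := by
    field_simp
    ring
  have hpos : 0 < (M - 1) / r ^ 2 * (A * ((r - 1) * (M - 1 - r)) - B * r * M) :=
    mul_pos (div_pos (by linarith) (by positivity)) (sub_pos.mpr h)
  linarith

theorem four_sq_le_three_pow {p : ℕ} (hp : 5 ≤ p) : 4 * (p + 1) ^ 2 ≤ 3 ^ p := by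
  induction p, hp using Nat.le_induction with
  | base => norm_num
  | succ n hn ih =>
    calc 4 * (n + 1 + 1) ^ 2 ≤ 3 * (4 * (n + 1) ^ 2) := by nlinarith
      _ ≤ 3 * 3 ^ n := by linarith
      _ = 3 ^ (n + 1) := by rw [pow_succ]; ring

/-- Peterfalvi (13.10): the count leaves only `p = 5`, `q = 3`, `c = 7`, `u = 31`. -/
theorem arith {p q u v c M : ℕ} (hp : p.Prime) (hq : q.Prime) (hpq : p ≠ q) (hp2 : 2 < p)
    (hq2 : 2 < q) (hc1 : 1 < c) (hcodd : Odd c) (hcq : c % q = 1) (hcp : ¬ p ∣ c)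
    (huodd : Odd u) (huq : u % q = 1) (hu : u * (p - 1) ≤ p ^ q - 1)
    (hv1 : 1 < v) (hvodd : Odd v) (hvp : v % p = 1) (hv : v * (q - 1) ≤ M - 1)
    (hM : q ^ p ≤ M)
    (h : (p ^ q * c : ℤ) * (((v : ℤ) - 1) * ((M : ℤ) - v - 1)) ≤ ((u * q) * (M * v * p) : ℕ)) :
    q = 3 ∧ p = 5 ∧ c = 7 ∧ u = 31 := by
  have hp3 : 3 ≤ p := hp2
  have hq3 : 3 ≤ q := hq2
  have hqo : Odd q := hq.odd_of_ne_two (by omega)
  have hpo : Odd p := hp.odd_of_ne_two (by omega)
  have hc : 2 * q + 1 ≤ c := by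
    obtain ⟨k, hk⟩ : ∃ k, c = q * k + 1 := ⟨c / q, by rw [← hcq, Nat.div_add_mod]⟩
    have hk2 : 2 ≤ k := by
      rcases k with _ | _ | k
      · omega
      · exfalso
        rw [hk, zero_add, mul_one] at hcodd
        exact Nat.not_even_iff_odd.mpr hcodd (hqo.add_odd odd_one)
      · omega
    subst hk
    nlinarith
  have hv' : 2 * p + 1 ≤ v := by
    obtain ⟨k, hk⟩ : ∃ k, v = p * k + 1 := ⟨v / p, by rw [← hvp, Nat.div_add_mod]⟩
    have hk2 : 2 ≤ k := by
      rcases k with _ | _ | k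
      · omega
      · exfalso
        rw [hk, zero_add, mul_one] at hvodd
        exact Nat.not_even_iff_odd.mpr hvodd (hpo.add_odd odd_one)
      · omega
    subst hk
    nlinarith
  have hM4 : 4 * (p + 1) ^ 2 ≤ M := by
    rcases eq_or_ne p 3 with rfl | hp'
    · have hq5 : 5 ≤ q := by
        rcases eq_or_ne q 4 with rfl | h4
        · norm_num at hq
        · omega
      have := Nat.pow_le_pow_left hq5 3
      omega
    · have hp5 : 5 ≤ p := by
        rcases eq_or_ne p 4 with rfl | h4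
        · norm_num at hp
        · omega
      exact (four_sq_le_three_pow hp5).trans ((Nat.pow_le_pow_left hq3 p).trans hM)
  have hMq : q ^ 3 ≤ M := (Nat.pow_le_pow_right (by omega) hp3).trans hM
  have hP : 1 ≤ p ^ q := Nat.one_le_pow _ _ (by omega)
  have hM1 : 1 ≤ M := le_trans (Nat.one_le_pow _ _ (by omega)) hM
  -- over the reals
  set P : ℝ := ((p ^ q : ℕ) : ℝ) with hPdef
  have hR : P * c * (((v : ℝ) - 1) * ((M : ℝ) - v - 1)) ≤ (u : ℝ) * q * p * v * M := by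
    have h' : (((p ^ q : ℕ) : ℤ) * c) * (((v : ℤ) - 1) * ((M : ℤ) - v - 1)) ≤
        ((u * q * p * v * M : ℕ) : ℤ) := by
      push_cast
      push_cast at h
      linarith
    rw [hPdef]
    exact_mod_cast h'
  have hPr : (1 : ℝ) ≤ P := by rw [hPdef]; exact_mod_cast hP
  have hur : (u : ℝ) * ((p : ℝ) - 1) ≤ P - 1 := by
    have h' : ((u * (p - 1) : ℕ) : ℝ) ≤ ((p ^ q - 1 : ℕ) : ℝ) := by exact_mod_cast hu
    rw [Nat.cast_mul, Nat.cast_sub (by omega), Nat.cast_sub hP, Nat.cast_one] at h'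
    exact h'
  have hvr : (v : ℝ) ≤ ((M : ℝ) - 1) / ((q : ℝ) - 1) := by
    have h' : ((v * (q - 1) : ℕ) : ℝ) ≤ ((M - 1 : ℕ) : ℝ) := by exact_mod_cast hv
    rw [Nat.cast_mul, Nat.cast_sub (by omega), Nat.cast_sub hM1, Nat.cast_one] at h'
    rw [le_div_iff₀ (by have : (3 : ℝ) ≤ q := (by exact_mod_cast hq3); linarith)]
    exact h'
  have hvlo : (2 : ℝ) * p + 1 ≤ v := by exact_mod_cast hv'
  have hp3r : (3 : ℝ) ≤ p := by exact_mod_cast hp3
  have hq3r : (3 : ℝ) ≤ q := by exact_mod_cast hq3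
  have hMr : 4 * ((p : ℝ) + 1) ^ 2 ≤ M := by exact_mod_cast hM4
  have hMqr : (q : ℝ) ^ 3 ≤ M := by exact_mod_cast hMq
  have hvpos : (0 : ℝ) < v := by linarith
  have hMpos : (0 : ℝ) < M := by nlinarith
  have hlow : ∀ C : ℝ, 2 * (q : ℝ) + 1 ≤ C →
      (q : ℝ) * p * (2 * p + 1) * M <
        C * ((p : ℝ) - 1) * ((2 * (p : ℝ) + 1 - 1) * ((M : ℝ) - (2 * p + 1) - 1)) := by
    intro C hC
    have h0 : (0 : ℝ) < (M : ℝ) - (2 * p + 1) - 1 := by nlinarith
    have hco : (0 : ℝ) ≤ (q : ℝ) * (2 * p - 5) + 2 * p - 2 := by nlinarith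
    have key : (2 * (q : ℝ) + 1) * (2 * p - 2) * (2 * p + 2) <
        ((q : ℝ) * (2 * p - 5) + 2 * p - 2) * M := by
      refine lt_of_lt_of_le ?_ (mul_le_mul_of_nonneg_left hMr hco)
      nlinarith [mul_le_mul_of_nonneg_right (show (4 : ℝ) ≤ (2 * p - 5) * (p + 1) by nlinarith)
        (show (0 : ℝ) ≤ q by linarith)]
    calc (q : ℝ) * p * (2 * p + 1) * M
        < (p : ℝ) * ((2 * (q : ℝ) + 1) * (2 * p - 2) * ((M : ℝ) - (2 * p + 1) - 1)) := by
          nlinarith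
      _ = (2 * (q : ℝ) + 1) * ((p : ℝ) - 1) *
            ((2 * (p : ℝ) + 1 - 1) * ((M : ℝ) - (2 * p + 1) - 1)) := by ring
      _ ≤ _ := by
          refine mul_le_mul_of_nonneg_right (mul_le_mul_of_nonneg_right hC (by linarith)) ?_
          exact mul_nonneg (by linarith) h0.le
  -- the upper end decides
  have hqM : (q : ℝ) + 3 ≤ M := by
    have h9 : (9 : ℝ) ≤ (q : ℝ) ^ 2 := by nlinarith
    nlinarith [mul_le_mul_of_nonneg_right h9 (show (0 : ℝ) ≤ q by linarith)]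
  have hcr : 2 * (q : ℝ) + 1 ≤ c := by exact_mod_cast hc
  have hsmall : ¬ (q : ℝ) * p * ((q : ℝ) - 1) * M <
      (c : ℝ) * ((p : ℝ) - 1) * (((q : ℝ) - 1 - 1) * ((M : ℝ) - 1 - ((q : ℝ) - 1))) := by
    intro hhigh
    have hk := concave_pos (A := (c : ℝ) * ((p : ℝ) - 1)) (B := (q : ℝ) * p) (M := (M : ℝ))
      (lo := 2 * (p : ℝ) + 1) (hi := ((M : ℝ) - 1) / ((q : ℝ) - 1)) (v := v)
      (by nlinarith) hvlo hvr (hlow c hcr)
      (high_end (by linarith) (by linarith) hhigh)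
    have h1 := mul_lt_mul_of_pos_left hk (show (0 : ℝ) < P by linarith)
    have h2 := mul_le_mul_of_nonneg_left hR (show (0 : ℝ) ≤ (p : ℝ) - 1 by linarith)
    have h3 := mul_le_mul_of_nonneg_right hur
      (show (0 : ℝ) ≤ (q : ℝ) * p * v * M by positivity)
    have h4 : (0 : ℝ) < (q : ℝ) * p * v * M := by positivity
    nlinarith
  -- only `q = 3`
  have hq' : q = 3 := by
    by_contra hq'
    have hq5 : 5 ≤ q := by
      rcases eq_or_ne q 4 with rfl | h4
      · norm_num at hq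
      · omega
    refine hsmall ?_
    have hq5r : (5 : ℝ) ≤ q := by exact_mod_cast hq5
    have h0 : (0 : ℝ) < ((q : ℝ) - 1 - 1) * ((M : ℝ) - 1 - ((q : ℝ) - 1)) := by
      exact mul_pos (by linarith) (by linarith)
    refine lt_of_lt_of_le ?_ (mul_le_mul_of_nonneg_right (mul_le_mul_of_nonneg_right hcr
      (show (0 : ℝ) ≤ (p : ℝ) - 1 by linarith)) h0.le)
    have e : (2 * (q : ℝ) + 1) * ((p : ℝ) - 1) * (((q : ℝ) - 1 - 1) * ((M : ℝ) - 1 - ((q : ℝ) - 1)))
        = ((p : ℝ) - 1) * ((2 * (q : ℝ) ^ 2 - 3 * q - 2) * ((M : ℝ) - q)) := by ring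
    rw [e]
    have hW : (0 : ℝ) ≤ (2 * (q : ℝ) ^ 2 - 3 * q - 2) * ((M : ℝ) - q) :=
      mul_nonneg (by nlinarith) (by nlinarith)
    have key : 2 * (2 * (q : ℝ) ^ 2 - 3 * q - 2) * q < ((q : ℝ) ^ 2 - 3 * q - 4) * M := by
      refine lt_of_lt_of_le ?_ (mul_le_mul_of_nonneg_left hMqr (by nlinarith))
      have h6 : (6 : ℝ) ≤ (q : ℝ) ^ 2 - 3 * q - 4 := by nlinarith
      have hq0 : (0 : ℝ) < (q : ℝ) ^ 3 := by positivity
      nlinarith [mul_le_mul_of_nonneg_right h6 hq0.le,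
        mul_nonneg (show (0 : ℝ) ≤ 3 * (q : ℝ) + 2 by linarith) (show (0 : ℝ) ≤ (q : ℝ) by linarith)]
    have hM3 : 3 * ((q : ℝ) * ((q : ℝ) - 1) * M) < 2 * ((2 * (q : ℝ) ^ 2 - 3 * q - 2) * ((M : ℝ) - q)) := by
      linarith
    nlinarith [mul_le_mul_of_nonneg_right (show 2 * (p : ℝ) ≤ 3 * ((p : ℝ) - 1) by linarith) hW]
  subst hq'
  have hp5 : 5 ≤ p := by
    rcases eq_or_ne p 4 with rfl | h4
    · norm_num at hp
    · omega
  have hp5r : (5 : ℝ) ≤ p := by exact_mod_cast hp5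
  push_cast at hsmall
  have hc13 : c < 13 := by
    by_contra hc13
    refine hsmall ?_
    have hc13r : (13 : ℝ) ≤ c := by exact_mod_cast not_lt.mp hc13
    nlinarith [mul_le_mul_of_nonneg_right hc13r (show (0 : ℝ) ≤ ((p : ℝ) - 1) * ((M : ℝ) - 3) by
      nlinarith), mul_le_mul_of_nonneg_left hMr (show (0 : ℝ) ≤ 7 * (p : ℝ) - 13 by linarith)]
  have hc7 : c = 7 := by
    obtain ⟨k, hk⟩ := hcodd
    omega
  subst hc7
  have hp11 : p < 11 := by
    by_contra hp11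
    refine hsmall ?_
    have hp11r : (11 : ℝ) ≤ p := by exact_mod_cast not_lt.mp hp11
    push_cast
    nlinarith [mul_le_mul_of_nonneg_left hMr (show (0 : ℝ) ≤ (p : ℝ) - 7 by linarith)]
  have hp' : p = 5 := by
    have hp7 : p ≠ 7 := fun e => hcp (e ▸ dvd_rfl)
    interval_cases p
    all_goals first | rfl | exact absurd rfl hp7 | exact absurd hp (by norm_num)
  subst hp'
  refine ⟨rfl, rfl, rfl, ?_⟩
  have hu31 : u ≤ 31 := by norm_num at hu; omega
  have hu29 : 29 ≤ u := by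
    by_contra hlt
    have hu28 : (u : ℝ) ≤ 28 := by exact_mod_cast Nat.lt_succ_iff.mp (not_le.mp hlt)
    have hPv : P = 125 := by rw [hPdef]; norm_num
    have hM' : (144 : ℝ) ≤ M := by norm_num at hM4; exact_mod_cast hM4
    rw [hPv] at hR
    push_cast at hR hvr hvlo
    have hk := concave_pos (A := 875) (B := 420) (M := (M : ℝ)) (lo := 2 * (5 : ℝ) + 1)
      (hi := ((M : ℝ) - 1) / ((3 : ℝ) - 1)) (v := v) (by norm_num) hvlo hvr (by linarith)
      (high_end (by norm_num) (by linarith) (by linarith))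
    nlinarith [mul_le_mul_of_nonneg_right hu28 (show (0 : ℝ) ≤ 15 * v * M by positivity)]
  obtain ⟨k, hk⟩ := huodd
  omega

end CfsgLib.FT.PF13
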