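import Cfsg.Agent.Lib.FT.PF13.Local

/-!
# Peterfalvi, section 13: counting over the whole group

For the two sides `S`, `T` of a pair with `C_U(P) ≠ 1` on the side of `S`:
`m (v - 1) (m' - v - 1) ≤ u q * v p * m'`.
-/

set_option autoImplicit false
set_option linter.style.haveILetI false
set_option linter.unusedSectionVars false

namespace CfsgLib.FT.PF13

open _root_.Subgroup Cfsg CfsgLib.Chars CfsgLib.CharsMore
open scoped ComplexConjugate

universe u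

/-- In a group of prime exponent two nontrivial elements of a cyclic group differ by a power prime
to a given number. -/
theorem exists_coprime_pow {M : Type*} [Monoid M] {a a' : M} {q N : ℕ} (hq : q.Prime)
    (hord : orderOf a = q) (hN : N ≠ 0) {j : ℕ} (hj : a ^ j = a') (ha' : a' ≠ 1) :
    ∃ k : ℕ, k.Coprime N ∧ a ^ k = a' := by
  have hjq : q.Coprime j := hq.coprime_iff_not_dvd.mpr fun h => ha' (by
    rw [← hj, ← orderOf_dvd_iff_pow_eq_one, hord]; exact h)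
  obtain ⟨e, n, hn, hNn⟩ := Nat.exists_eq_pow_mul_and_not_dvd hN q hq.ne_one
  have hcop : (q ^ (e + 1)).Coprime n :=
    Nat.Coprime.pow_left _ (hq.coprime_iff_not_dvd.mpr hn)
  obtain ⟨k, hk1, hk2⟩ := Nat.chineseRemainder hcop j 1
  have hkq : k ≡ j [MOD q] := hk1.of_dvd (dvd_pow_self _ (Nat.succ_ne_zero e))
  refine ⟨k, ?_, ?_⟩
  · rw [hNn]
    refine Nat.Coprime.mul_right (Nat.Coprime.pow_right _ ?_) ?_
    · show Nat.gcd k q = 1
      rw [hkq.gcd_eq]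
      exact hjq.symm
    · show Nat.gcd k n = 1
      rw [hk2.gcd_eq, Nat.gcd_one_left]
  · rw [← hj, ← pow_mod_orderOf a k, ← pow_mod_orderOf a j, hord]
    exact congrArg (a ^ ·) hkq

/-- The final inequality between the sums of squares. -/
theorem count_arith {N SS TT m n₁ m' K f1 V cD cE G0 fD fE G0f RD G0R : ℝ}
    (hN : 0 < N) (hSS : SS = m * n₁) (hn₁ : 0 < n₁) (hm : 0 < m) (hTT : 0 < TT)
    (hf1 : 1 ≤ f1) (hpart : N = 1 + V + cD + cE + G0) (hf : f1 + V + fD + fE + G0f ≤ N)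
    (hR : RD + G0R ≤ N) (hG0 : G0 ≤ G0f + G0R) (hcD : SS * cD = N * (m - 1))
    (hfD : N * (m - 1) ≤ SS * fD) (hRD : N * (n₁ * (m - n₁)) ≤ SS * RD)
    (hcE : TT * cE = N * (m' - 1)) (hfE : N * (K + (m' - 1)) ≤ TT * fE) :
    m * K ≤ n₁ * TT := by
  have hS0 : 0 < SS := hSS ▸ mul_pos hm hn₁
  have h1 : cD ≤ fD := le_of_mul_le_mul_left (hcD ▸ hfD) hS0
  have h2 : (fE - cE) + RD ≤ N := by linarith
  have h3 := mul_le_mul_of_nonneg_left h2 (mul_pos hS0 hTT).le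
  have h4 : SS * (N * K) ≤ SS * (TT * (fE - cE)) :=
    mul_le_mul_of_nonneg_left (by rw [mul_sub, hcE]; linarith) hS0.le
  have h5 := mul_le_mul_of_nonneg_left hRD hTT.le
  have h6 : N * (SS * K + TT * (n₁ * (m - n₁))) ≤ N * (SS * TT) := by linarith
  have h7 := le_of_mul_le_mul_left h6 hN
  rw [hSS] at h7
  refine le_of_mul_le_mul_left (a := n₁) ?_ hn₁
  linarith

variable {G : Type u} [Group G] [Fintype G]

theorem sum_norm_sq_univ {f : G → ℂ} (h : classInner f f = 1) :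
    ∑ g : G, ‖f g‖ ^ 2 = (Nat.card G : ℝ) := by
  rw [inner_self_eq] at h
  have h' := congrArg Complex.re h
  rw [Complex.ofReal_re, Complex.one_re] at h'
  have hc : (Nat.card G : ℝ) ≠ 0 := Nat.cast_ne_zero.mpr Nat.card_pos.ne'
  field_simp at h'
  exact h'

theorem norm_sq_conj {f : G → ℂ} (hf : IsGeneralizedCharacter G f) (g x : G) :
    ‖f (x * g * x⁻¹)‖ ^ 2 = ‖f g‖ ^ 2 := by
  rw [isClassFunction_of_isGeneralized hf g x]

variable {S T W₁ W₂ : Subgroup G}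

namespace Side

variable (D : Side S W₁ W₂) (E : Side T W₂ W₁)

/-- The regular elements of `W₁ W₂`. -/
noncomputable def reg (D : Side S W₁ W₂) : Finset G := by
  classical
  exact Finset.univ.filter fun g => ∃ x ∈ W₁, x ≠ 1 ∧ ∃ y ∈ W₂, y ≠ 1 ∧ g = x * y

theorem mem_reg {g : G} : g ∈ D.reg ↔ ∃ x ∈ W₁, x ≠ 1 ∧ ∃ y ∈ W₂, y ≠ 1 ∧ g = x * y := by
  simp [reg]

variable [Fintype S] [Fintype T]

theorem notMem_reg_of_mem {g : G} (hg : g ∈ conjSet D.HG) : g ∉ conjSet D.reg := by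
  intro h
  obtain ⟨k, hk⟩ := mem_conjSet.mp h
  obtain ⟨x, hx, hx1, y, hy, -, e⟩ := D.mem_reg.mp hk
  refine D.regular_notMem_conjSet hx hy hx1 ?_
  rw [← e]
  obtain ⟨z, hz⟩ := mem_conjSet.mp hg
  exact mem_conjSet.mpr ⟨z * k⁻¹, by simpa [mul_assoc] using hz⟩

include D E in
theorem disjoint_HG : Disjoint (conjSet D.HG) (conjSet E.HG) := by
  rw [Finset.disjoint_left]
  intro g hD hE
  obtain ⟨a, ha⟩ := mem_conjSet.mp hD
  obtain ⟨b, hb⟩ := mem_conjSet.mp hE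
  obtain ⟨hS, hH, hne⟩ := D.mem_HG.mp ha
  obtain ⟨hT, hH', -⟩ := E.mem_HG.mp hb
  set z := a * g * a⁻¹ with hz
  set c := a * b⁻¹
  have key : ∀ k : T, k ∈ E.loc.P → c * (k : G) * c⁻¹ ∈ S := by
    intro k hk
    have hcomm : (k : G) * (b * g * b⁻¹) = b * g * b⁻¹ * k :=
      congrArg Subtype.val (E.loc.comm_H (E.loc.P_le_H hk) hH')
    have e : (c * (k : G) * c⁻¹) * z * (c * (k : G) * c⁻¹)⁻¹ = z := by
      calc (c * (k : G) * c⁻¹) * z * (c * (k : G) * c⁻¹)⁻¹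
          = c * ((k : G) * (b * g * b⁻¹) * (k : G)⁻¹) * c⁻¹ := by rw [hz]; simp [c, mul_assoc]
        _ = z := by rw [hcomm, hz]; simp [c, mul_assoc]
    refine D.ti _ ⟨z, hS⟩ hH (fun h => hne (congrArg Subtype.val h)) (by simp only; rwa [e]) ?_
    convert hH using 2
  let P' : Subgroup G := ((E.loc.P).map T.subtype).map (MulAut.conj c).toMonoidHom
  have hle : P' ≤ S := by
    rintro _ ⟨_, ⟨k, hk, rfl⟩, rfl⟩
    exact key k hk
  have hdvd := Subgroup.card_dvd_of_le hle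
  rw [show Nat.card P' = E.loc.p ^ E.loc.q by
      rw [Subgroup.card_map_of_injective (MulEquiv.injective _),
        Subgroup.card_map_of_injective T.subtype_injective, E.loc.card_P],
    D.loc.card_L, ← E.card_W₂, D.card_W₁, ← E.card_W₁, D.card_W₂] at hdvd
  have h2 : D.loc.q ^ 2 ∣ D.loc.p ^ D.loc.q * Nat.card D.loc.U * D.loc.q :=
    (pow_dvd_pow _ D.loc.prime_p.two_le).trans hdvd
  rw [sq] at h2
  have h3 := Nat.dvd_of_mul_dvd_mul_right D.loc.prime_q.pos h2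
  rcases D.loc.prime_q.dvd_mul.mp h3 with h | h
  · exact D.loc.ne ((Nat.prime_dvd_prime_iff_eq D.loc.prime_q D.loc.prime_p).mp
      (D.loc.prime_q.dvd_of_dvd_pow h)).symm
  · exact D.loc.q_coprime h

include D E in
/-- Peterfalvi (13.6), (13.7): the inequality behind `C = 1`. -/
theorem count (hC : D.loc.C ≠ ⊥) :
    ((Nat.card D.loc.H : ℤ) * (((E.loc.u : ℤ) - 1) * ((Nat.card E.loc.H : ℤ) - E.loc.u - 1)) ≤
      ((D.loc.u * D.loc.q) * (Nat.card E.loc.H * E.loc.u * E.loc.q) : ℕ)) := by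
  classical
  haveI : Fintype D.loc.H := Fintype.ofFinite _
  haveI : Fintype E.loc.H := Fintype.ofFinite _
  haveI : Fintype (W₁ →* ℂˣ) := Fintype.ofFinite _
  haveI : Fintype (W₂ →* ℂˣ) := Fintype.ofFinite _
  have hodd : Odd (Nat.card ↥(W₁ ⊔ W₂)) :=
    D.loc.odd.of_dvd_nat (Subgroup.card_dvd_of_le (sup_le D.W₁_le D.W₂_le))
  obtain ⟨η, hη⟩ := exists_grid D.selfNorm hodd
  have hη' : Grid W₂ W₁ fun b a => η a b := hη.swap D.selfNorm.2.2.2.1
  obtain ⟨a₀, ha₀⟩ : ∃ a : W₁ →* ℂˣ, a ≠ 1 :=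
    Fintype.exists_ne_of_one_lt_card (by rw [D.card_hom_W₁]; exact D.loc.prime_q.one_lt) 1
  obtain ⟨b₀, hb₀⟩ : ∃ b : W₂ →* ℂˣ, b ≠ 1 :=
    Fintype.exists_ne_of_one_lt_card (by rw [D.card_hom_W₂]; exact D.loc.prime_p.one_lt) 1
  obtain ⟨θ, hθ, hθ1⟩ := D.loc.exists_regular hC
  obtain ⟨c, hc, s, hs, R, hRgen, heq, horth, hR1, hΔR⟩ := D.exists_remainder hη hθ hθ1 hb₀
  set f := η a₀ 1 with hfdef
  have hfgen : IsGeneralizedCharacter G f := hη.gen a₀ 1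
  have hf1 : classInner f f = 1 := by rw [hfdef, hη.orth, if_pos ⟨rfl, rfl⟩]
  set V := conjSet D.reg
  set CD := conjSet D.HG
  set CE := conjSet E.HG
  have hE_V : ∀ g ∈ CE, g ∉ V := by
    intro g hg hgV
    refine E.notMem_reg_of_mem hg ?_
    obtain ⟨k, hk⟩ := mem_conjSet.mp hgV
    obtain ⟨x, hx, hx1, y, hy, hy1, e⟩ := D.mem_reg.mp hk
    exact mem_conjSet.mpr ⟨k, E.mem_reg.mpr
      ⟨y, hy, hy1, x, hx, hx1, by rw [e, D.selfNorm.2.2.2.1 x hx y hy]⟩⟩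
  have h1CD : (1 : G) ∉ CD := by
    intro h
    obtain ⟨x, hx⟩ := mem_conjSet.mp h
    obtain ⟨-, -, hne⟩ := D.mem_HG.mp hx
    exact hne (by simp)
  have h1CE : (1 : G) ∉ CE := by
    intro h
    obtain ⟨x, hx⟩ := mem_conjSet.mp h
    obtain ⟨-, -, hne⟩ := E.mem_HG.mp hx
    exact hne (by simp)
  have h1V : (1 : G) ∉ V := by
    intro h
    obtain ⟨k, hk⟩ := mem_conjSet.mp h
    obtain ⟨x, hx, hx1, y, hy, -, e⟩ := D.mem_reg.mp hk
    rw [mul_one, mul_inv_cancel, eq_comm, mul_eq_one_iff_eq_inv] at e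
    have h' : x ∈ W₁ ⊓ W₂ := ⟨hx, e ▸ W₂.inv_mem hy⟩
    rw [D.selfNorm.2.2.1, mem_bot] at h'
    exact hx1 h'
  set G0 := Finset.univ \ (insert 1 (V ∪ CD ∪ CE)) with hG0
  have hdVD : Disjoint V CD := Finset.disjoint_right.mpr fun g hg => D.notMem_reg_of_mem hg
  have hdE : Disjoint (V ∪ CD) CE := Finset.disjoint_union_left.mpr
    ⟨Finset.disjoint_right.mpr hE_V, D.disjoint_HG E⟩
  have hsplit : ∀ F : G → ℝ, ∑ g : G, F g =
      F 1 + ∑ g ∈ V, F g + ∑ g ∈ CD, F g + ∑ g ∈ CE, F g + ∑ g ∈ G0, F g := by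
    intro F
    rw [← Finset.sum_sdiff (Finset.subset_univ (insert 1 (V ∪ CD ∪ CE))), ← hG0,
      Finset.sum_insert (by simp [h1V, h1CD, h1CE]), Finset.sum_union hdE, Finset.sum_union hdVD]
    ring
  -- `G0` is closed under powers prime to `|G|`
  have hpowHG : ∀ {X : Subgroup G} {W W' : Subgroup G} (A : Side X W W') [Fintype X] (k : ℕ) (g : G),
      k.Coprime (Nat.card G) → g ^ k ∈ conjSet A.HG → g ∈ conjSet A.HG := by
    intro X W W' A _ k g hk hg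
    obtain ⟨x, hx⟩ := mem_conjSet.mp hg
    obtain ⟨hS, hH, hne⟩ := A.mem_HG.mp hx
    obtain ⟨i, hi⟩ := exists_pow_eq_self_of_coprime (x := g)
      (hk.coprime_dvd_right (orderOf_dvd_natCard g))
    have e : (x * g ^ k * x⁻¹) ^ i = x * g * x⁻¹ := by rw [conj_pow, hi]
    refine mem_conjSet.mpr ⟨x, A.mem_HG.mpr ⟨e ▸ X.pow_mem hS i, ?_, fun h => hne ?_⟩⟩
    · rw [show (⟨x * g * x⁻¹, e ▸ X.pow_mem hS i⟩ : X) = ⟨_, hS⟩ ^ i from
        Subtype.ext (by rw [SubmonoidClass.coe_pow]; exact e.symm)]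
      exact A.loc.H.pow_mem hH i
    · rw [← conj_pow, h, one_pow]
  have hpowV : ∀ (k : ℕ) (g : G), k.Coprime (Nat.card G) → g ^ k ∈ V → g ∈ V := by
    intro k g hk hg
    obtain ⟨z, hz⟩ := mem_conjSet.mp hg
    obtain ⟨x, hx, hx1, y, hy, hy1, e⟩ := D.mem_reg.mp hz
    obtain ⟨i, hi⟩ := exists_pow_eq_self_of_coprime (x := g)
      (hk.coprime_dvd_right (orderOf_dvd_natCard g))
    have hcomm : Commute x y := D.selfNorm.2.2.2.1 x hx y hy
    have e2 : z * g * z⁻¹ = x ^ i * y ^ i := by rw [← hcomm.mul_pow, ← e, conj_pow, hi]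
    have e3 : (x ^ i * y ^ i) ^ k = x * y := by rw [← e2, conj_pow, e]
    refine mem_conjSet.mpr ⟨z, D.mem_reg.mpr ⟨_, W₁.pow_mem hx i, fun h => hx1 ?_, _,
      W₂.pow_mem hy i, fun h => hy1 ?_, e2⟩⟩
    · rw [h, one_mul] at e3
      have hm : x * y ∈ W₂ := e3 ▸ W₂.pow_mem (W₂.pow_mem hy i) k
      have h' : x ∈ W₁ ⊓ W₂ :=
        ⟨hx, by rw [← mul_inv_cancel_right x y]; exact W₂.mul_mem hm (W₂.inv_mem hy)⟩
      rwa [D.selfNorm.2.2.1, mem_bot] at h'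
    · rw [h, mul_one] at e3
      have hm : x * y ∈ W₁ := e3 ▸ W₁.pow_mem (W₁.pow_mem hx i) k
      have h' : y ∈ W₁ ⊓ W₂ :=
        ⟨by rw [← inv_mul_cancel_left x y]; exact W₁.mul_mem (W₁.inv_mem hx) hm, hy⟩
      rwa [D.selfNorm.2.2.1, mem_bot] at h'
  have hG0pow : ∀ k : ℕ, k.Coprime (Nat.card G) → ∀ g ∈ G0, g ^ k ∈ G0 := by
    intro k hk g hg
    simp only [hG0, Finset.mem_sdiff, Finset.mem_univ, true_and, Finset.mem_insert,
      Finset.mem_union, not_or] at hg ⊢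
    refine ⟨fun h => hg.1 ?_, ⟨fun h => hg.2.1.1 (hpowV k g hk h),
      fun h => hg.2.1.2 (hpowHG D k g hk h)⟩, fun h => hg.2.2 (hpowHG E k g hk h)⟩
    obtain ⟨i, hi⟩ := exists_pow_eq_self_of_coprime (x := g)
      (hk.coprime_dvd_right (orderOf_dvd_natCard g))
    rw [← hi, h, one_pow]
  have hne0 : ∀ k : ℕ, k.Coprime (Nat.card G) → ∀ g, f (g ^ k) = 0 ↔ f g = 0 := by
    intro k hk g
    haveI : NeZero (Nat.card G) := ⟨Nat.card_pos.ne'⟩
    obtain ⟨σ, hσ⟩ := CharApps.exists_galois_pow (Nat.card G) hk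
    rw [← gen_galois_apply hfgen σ hσ g, map_eq_zero_iff σ σ.injective]
  have hA : ((G0.filter fun g => f g ≠ 0).card : ℝ) ≤
      ∑ g ∈ G0.filter (fun g => f g ≠ 0), ‖f g‖ ^ 2 :=
    card_le_sum_normSq hfgen _ (fun g hg => (Finset.mem_filter.mp hg).2) fun k hk g hg => by
      obtain ⟨h1, h2⟩ := Finset.mem_filter.mp hg
      exact Finset.mem_filter.mpr ⟨hG0pow k hk g h1, fun h => h2 ((hne0 k hk g).mp h)⟩
  have hRne : ∀ g ∈ G0.filter (fun g => f g = 0), R g ≠ 0 := by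
    intro g hg hR0
    obtain ⟨h1, h2⟩ := Finset.mem_filter.mp hg
    simp only [hG0, Finset.mem_sdiff, Finset.mem_univ, true_and, Finset.mem_insert,
      Finset.mem_union, not_or] at h1
    haveI : NeZero (Nat.card G) := ⟨Nat.card_pos.ne'⟩
    have hcard : Nat.card (W₁ →* ℂˣ) = D.loc.q := by rw [Nat.card_eq_fintype_card, D.card_hom_W₁]
    haveI : Fact D.loc.q.Prime := ⟨D.loc.prime_q⟩
    have hrow : ∀ a : W₁ →* ℂˣ, a ≠ 1 → η a 1 g = 0 := by
      intro a ha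
      have hord : orderOf a₀ = D.loc.q :=
        ((Nat.dvd_prime D.loc.prime_q).mp (hcard ▸ orderOf_dvd_natCard a₀)).resolve_left
          fun e => ha₀ (orderOf_eq_one_iff.mp e)
      obtain ⟨j, hj⟩ : ∃ j : ℕ, a₀ ^ j = a :=
        Submonoid.mem_powers_iff _ _ |>.mp (mem_powers_of_prime_card (g' := a) hcard ha₀)
      obtain ⟨k, hk, hak⟩ := exists_coprime_pow D.loc.prime_q hord
        (Nat.card_pos (α := G)).ne' hj ha
      obtain ⟨σ, hσ⟩ := CharApps.exists_galois_pow (Nat.card G) hk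
      have h := hη.galois k σ hk hσ a₀ 1 g
      rw [← hfdef, h2, map_zero, show ((1 : W₂ →* ℂˣ) ^ k) = 1 from
        MonoidHom.ext fun _ => one_pow k] at h
      rw [← hak]
      exact h.symm
    have hgV : ∀ k x y, x ∈ W₁ → y ∈ W₂ → x ≠ 1 → y ≠ 1 → k * g * k⁻¹ ≠ x * y :=
      fun k x y hx hy hx1 hy1 e => h1.2.1.1
        (mem_conjSet.mpr ⟨k, D.mem_reg.mpr ⟨x, hx, hx1, y, hy, hy1, e⟩⟩)
    have hcol : ∀ a : W₁ →* ℂˣ, η a c g = η 1 c g - if a = 1 then 0 else 1 := by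
      intro a
      by_cases ha : a = 1
      · rw [ha, if_pos rfl, sub_zero]
      · have h := hη.rel g hgV a c
        rw [hrow a ha] at h
        rw [if_neg ha]
        linear_combination h
    have he := congrFun heq g
    rw [D.dz_eq_zero _ _ h1.2.1.2, Pi.add_apply, hR0, zero_add, Pi.smul_apply, smul_eq_mul,
      Finset.sum_apply, Finset.sum_congr rfl fun a _ => hcol a, Finset.sum_sub_distrib,
      Finset.sum_const, Finset.card_univ, D.card_hom_W₁,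
      ← Finset.add_sum_erase _ _ (Finset.mem_univ (1 : W₁ →* ℂˣ)), if_pos rfl,
      Finset.sum_congr rfl fun a ha => if_neg (Finset.ne_of_mem_erase ha), Finset.sum_const,
      Finset.card_erase_of_mem (Finset.mem_univ _), Finset.card_univ, D.card_hom_W₁, zero_add,
      nsmul_eq_mul, nsmul_one, eq_comm, mul_eq_zero, Int.cast_eq_zero] at he
    have he' := he.resolve_left (by rcases hs with rfl | rfl <;> norm_num)
    obtain ⟨χ, ψ, hχ, hψ, hfe⟩ := hη.gen 1 c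
    have hint : IsIntegral ℤ (η 1 c g) := by
      rw [hfe, Pi.sub_apply]
      exact (char_isIntegral hχ g).sub (char_isIntegral hψ g)
    have hq0 : (D.loc.q : ℂ) ≠ 0 := Nat.cast_ne_zero.mpr D.loc.prime_q.ne_zero
    obtain ⟨z, hz⟩ := CharApps.exists_int_of_rat hint ⟨((D.loc.q - 1 : ℕ) : ℚ) / D.loc.q, by
      push_cast
      rw [div_eq_iff hq0]
      linear_combination -he'⟩
    rw [← hz] at he'
    have h4 : (D.loc.q : ℤ) * z = ((D.loc.q - 1 : ℕ) : ℤ) := by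
      have : ((D.loc.q : ℤ) * z : ℂ) = (((D.loc.q - 1 : ℕ) : ℤ) : ℂ) := by
        push_cast
        linear_combination he'
      exact_mod_cast this
    have h5 : D.loc.q ∣ D.loc.q - 1 := Int.natCast_dvd_natCast.mp ⟨z, h4.symm⟩
    have h6 := Nat.le_of_dvd (by have := D.loc.two_lt_q; omega) h5
    have := D.loc.two_lt_q
    omega
  have hB : ((G0.filter fun g => f g = 0).card : ℝ) ≤
      ∑ g ∈ G0.filter (fun g => f g = 0), ‖R g‖ ^ 2 :=
    card_le_sum_normSq hRgen _ hRne fun k hk g hg => by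
      obtain ⟨h1, h2⟩ := Finset.mem_filter.mp hg
      exact Finset.mem_filter.mpr ⟨hG0pow k hk g h1, (hne0 k hk g).mpr h2⟩
  have hSS : (Nat.card S : ℝ) = (Nat.card D.loc.H : ℝ) * ((D.loc.u * D.loc.q : ℕ) : ℝ) := by
    rw [D.loc.card_L']
    push_cast
    ring
  have hTT : Nat.card T = Nat.card E.loc.H * E.loc.u * E.loc.q := E.loc.card_L'
  have htiD : ∀ x : G, ∀ a ∈ D.HG, x * a * x⁻¹ ∈ D.HG → x ∈ S := by
    intro x a ha hxa
    obtain ⟨hS, hH, hne⟩ := D.mem_HG.mp ha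
    obtain ⟨hS', hH', -⟩ := D.mem_HG.mp hxa
    exact D.ti x ⟨a, hS⟩ hH (fun e => hne (congrArg Subtype.val e)) hS' hH'
  have hinvD : ∀ x ∈ S, ∀ a ∈ D.HG, x * a * x⁻¹ ∈ D.HG := by
    intro x hx a ha
    obtain ⟨hS, hH, hne⟩ := D.mem_HG.mp ha
    exact D.mem_HG.mpr ⟨S.mul_mem (S.mul_mem hx hS) (S.inv_mem hx),
      D.loc.normal_H.conj_mem _ hH ⟨x, hx⟩, fun e => hne (conj_eq_one_iff.mp e)⟩
  have htiE : ∀ x : G, ∀ a ∈ E.HG, x * a * x⁻¹ ∈ E.HG → x ∈ T := by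
    intro x a ha hxa
    obtain ⟨hS, hH, hne⟩ := E.mem_HG.mp ha
    obtain ⟨hS', hH', -⟩ := E.mem_HG.mp hxa
    exact E.ti x ⟨a, hS⟩ hH (fun e => hne (congrArg Subtype.val e)) hS' hH'
  have hinvE : ∀ x ∈ T, ∀ a ∈ E.HG, x * a * x⁻¹ ∈ E.HG := by
    intro x hx a ha
    obtain ⟨hS, hH, hne⟩ := E.mem_HG.mp ha
    exact E.mem_HG.mpr ⟨T.mul_mem (T.mul_mem hx hS) (T.inv_mem hx),
      E.loc.normal_H.conj_mem _ hH ⟨x, hx⟩, fun e => hne (conj_eq_one_iff.mp e)⟩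
  have hVnorm : ∑ g ∈ V, ‖f g‖ ^ 2 = (V.card : ℝ) := by
    rw [Finset.sum_congr rfl fun g hg => show ‖f g‖ ^ 2 = (1 : ℝ) from ?_, Finset.sum_const,
      nsmul_one]
    obtain ⟨k, hk⟩ := mem_conjSet.mp hg
    obtain ⟨x, hx, hx1, y, hy, hy1, e⟩ := D.mem_reg.mp hk
    rw [← norm_sq_conj hfgen g k, e, hfdef, hη.eq_on a₀ 1 x y hx hy hx1 hy1,
      MonoidHom.one_apply, Units.val_one, mul_one,
      Complex.norm_eq_one_of_pow_eq_one (n := Nat.card W₁) ?_ Nat.card_pos.ne', one_pow]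
    rw [← Units.val_pow_eq_pow_val, ← map_pow, pow_card_eq_one', map_one, Units.val_one]
  have hone : (1 : ℝ) ≤ ‖f 1‖ ^ 2 := by
    obtain ⟨z, hz⟩ := genChar_one_int (mem_genChar.mpr hfgen)
    have hne : f 1 ≠ 0 := gen_one_ne_zero_of_norm_one (mem_genChar.mpr hfgen) hf1
    rw [hz, Complex.norm_intCast, sq_abs]
    rw [hz, Int.cast_ne_zero] at hne
    exact_mod_cast Int.add_one_le_of_lt (pow_two_pos_of_ne_zero hne)
  have hpart := hsplit fun _ => 1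
  simp only [Finset.sum_const, nsmul_one, Finset.card_univ, ← Nat.card_eq_fintype_card] at hpart
  have hsumf := sum_norm_sq_univ hf1
  rw [hsplit fun g => ‖f g‖ ^ 2, hVnorm] at hsumf
  have hsumR := sum_norm_sq_univ hR1
  rw [hsplit fun g => ‖R g‖ ^ 2] at hsumR
  have hcD := sum_conjSet S D.HG hinvD htiD (fun _ => 1) fun _ _ => rfl
  have hcE := sum_conjSet T E.HG hinvE htiE (fun _ => 1) fun _ _ => rfl
  simp only [Finset.sum_const, nsmul_one, D.card_HG, E.card_HG] at hcD hcE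
  rw [Nat.cast_sub Nat.card_pos, Nat.cast_one] at hcD hcE
  have hN : (0 : ℝ) < Nat.card G := by exact_mod_cast Nat.card_pos
  have hfD := mul_le_mul_of_nonneg_left (D.sum_eta_row hη a₀) hN.le
  rw [← hfdef, ← sum_conjSet S D.HG hinvD htiD (fun g => ‖f g‖ ^ 2) (norm_sq_conj hfgen)] at hfD
  have hfE := mul_le_mul_of_nonneg_left (E.sum_eta_col hη' ha₀) hN.le
  rw [← hfdef, ← sum_conjSet T E.HG hinvE htiE (fun g => ‖f g‖ ^ 2) (norm_sq_conj hfgen)] at hfE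
  have hRD := mul_le_mul_of_nonneg_left
    (D.sum_remainder hη hθ hθ1 hb₀ hs hRgen heq horth hR1 hΔR) hN.le
  rw [← sum_conjSet S D.HG hinvD htiD (fun g => ‖R g‖ ^ 2) (norm_sq_conj hRgen)] at hRD
  have hG0le : (G0.card : ℝ) ≤ ∑ g ∈ G0, ‖f g‖ ^ 2 + ∑ g ∈ G0, ‖R g‖ ^ 2 := by
    rw [← Finset.card_filter_add_card_filter_not (s := G0) (fun g => f g = 0), Nat.cast_add,
      add_comm]
    exact add_le_add (hA.trans (Finset.sum_le_sum_of_subset_of_nonneg (Finset.filter_subset _ _)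
      fun _ _ _ => by positivity)) (hB.trans (Finset.sum_le_sum_of_subset_of_nonneg
      (Finset.filter_subset _ _) fun _ _ _ => by positivity))
  have hpos : ∀ X : Finset G, (0 : ℝ) ≤ ∑ g ∈ X, ‖R g‖ ^ 2 := fun X =>
    Finset.sum_nonneg fun _ _ => by positivity
  have hfin := count_arith (N := (Nat.card G : ℝ)) (K := ((E.loc.u : ℝ) - 1) *
      ((Nat.card E.loc.H : ℝ) - E.loc.u - 1)) (TT := (Nat.card T : ℝ))
    (n₁ := ((D.loc.u * D.loc.q : ℕ) : ℝ)) (m := (Nat.card D.loc.H : ℝ))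
    (m' := (Nat.card E.loc.H : ℝ)) (f1 := ‖f 1‖ ^ 2) (V := (V.card : ℝ))
    hN hSS (by exact_mod_cast Nat.mul_pos (by have := D.loc.one_lt_u; omega) D.loc.prime_q.pos)
    (by exact_mod_cast Nat.card_pos) (by exact_mod_cast Nat.card_pos) hone hpart hsumf.le
    (by linarith [hpos V, hpos CE, sq_nonneg ‖R 1‖] : (∑ g ∈ CD, ‖R g‖ ^ 2) +
      (∑ g ∈ G0, ‖R g‖ ^ 2) ≤ (Nat.card G : ℝ))
    hG0le hcD hfD hRD hcE (le_trans (le_of_eq (by ring)) hfE)
  rw [hTT] at hfin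
  exact_mod_cast hfin

end Side

end CfsgLib.FT.PF13
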