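import Cfsg.Agent.Lib.FT.PF13.Facts
import Cfsg.Agent.Lib.FT.PF13.Count
import Cfsg.Agent.Lib.FT.PF13.Arith

/-!
# Peterfalvi, section 13: `C_U(S_F) = 1` and `N(W₁) = C(W₁) = T_F W₂`
-/

set_option autoImplicit false
set_option linter.style.haveILetI false
set_option linter.unusedSectionVars false

namespace CfsgLib.FT.PF13

open _root_.Subgroup Cfsg CfsgLib.OddOrder CfsgLib.FT.BG15
open scoped Pointwise

universe u

namespace LocalS

variable {L : Type u} [Group L] [Finite L] (T : LocalS L)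

/-- An element of `U` normalising `W₂` centralises `P`. -/
theorem mem_C_of_norm_W₂ {v : L} (hv : v ∈ T.U) (h : ∀ y ∈ T.W₂, v * y * v⁻¹ ∈ T.W₂) :
    v ∈ T.C := by
  haveI := Fintype.ofFinite T.W₁
  haveI := T.isMulCommutative_P
  haveI := T.normal_P
  set V : Subgroup L := T.U ⊓ centralizer (T.W₂ : Set L) with hV
  have hVn : ∀ x ∈ T.W₁, ∀ g ∈ V, x * g * x⁻¹ ∈ V := by
    intro x hx g hg
    refine ⟨T.W₁_norm x hx g hg.1, mem_centralizer_iff.mpr fun y hy => ?_⟩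
    have hxy : x * y = y * x := T.commute_W₁_W₂ hx hy
    have hgy : y * g = g * y := mem_centralizer_iff.mp hg.2 y hy
    calc y * (x * g * x⁻¹) = (y * x) * g * x⁻¹ := by group
      _ = x * (y * g) * x⁻¹ := by rw [← hxy]; group
      _ = x * g * (y * x⁻¹) := by rw [hgy]; group
      _ = x * g * x⁻¹ * y := by
          rw [show y * x⁻¹ = x⁻¹ * y by rw [mul_inv_eq_iff_eq_mul, mul_assoc, ← hxy, inv_mul_cancel_left]]
          group
  obtain ⟨x₀, hx₀, hx₀1⟩ := T.exists_W₁_ne_one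
  -- `v` centralises `W₂`
  have hvV : v ∈ V := by
    let N : Subgroup L := T.U ⊓ normalizer (T.W₂ : Set L)
    have hvN : v ∈ N := by
      refine ⟨hv, mem_normalizer_iff.mpr fun y => ⟨h y, fun hy => ?_⟩⟩
      let f : T.W₂ → T.W₂ := fun z => ⟨v * z * v⁻¹, h z z.2⟩
      obtain ⟨z, hz⟩ := (Finite.injective_iff_surjective.mp (fun a b e =>
        Subtype.ext (by simpa [f] using congrArg Subtype.val e) : Function.Injective f)) ⟨_, hy⟩
      have e : v * (z : L) * v⁻¹ = v * y * v⁻¹ := congrArg Subtype.val hz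
      rw [← mul_left_cancel (mul_right_cancel e)]
      exact z.2
    have hxN : ∀ g ∈ N, x₀ * g * x₀⁻¹ ∈ N := by
      refine fun g hg => ⟨T.W₁_norm x₀ hx₀ g hg.1, ?_⟩
      have hxn : x₀ ∈ normalizer (T.W₂ : Set L) := centralizer_le_normalizer _
        (mem_centralizer_iff.mpr fun y hy => (T.commute_W₁_W₂ hx₀ hy).symm)
      exact Subgroup.mul_mem _ (Subgroup.mul_mem _ hxn hg.2) (Subgroup.inv_mem _ hxn)
    let f : N → N := fun g => ⟨(g : L)⁻¹ * (x₀ * g * x₀⁻¹),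
      N.mul_mem (N.inv_mem g.2) (hxN g g.2)⟩
    have hf : Function.Injective f := by
      intro a b e
      have e' : (a : L)⁻¹ * (x₀ * a * x₀⁻¹) = (b : L)⁻¹ * (x₀ * b * x₀⁻¹) := congrArg Subtype.val e
      refine Subtype.ext (mul_inv_eq_one.mp (T.fpf_U hx₀ hx₀1 (T.U.mul_mem a.2.1 (T.U.inv_mem b.2.1)) ?_))
      calc x₀ * ((a : L) * (b : L)⁻¹) * x₀⁻¹
          = (a : L) * ((a : L)⁻¹ * (x₀ * a * x₀⁻¹)) * (x₀ * b * x₀⁻¹)⁻¹ := by group
        _ = (a : L) * (b : L)⁻¹ := by rw [e']; group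
    obtain ⟨g, hg⟩ := (Finite.injective_iff_surjective.mp hf) ⟨v, hvN⟩
    refine ⟨hv, mem_centralizer_iff.mpr fun y hy => ?_⟩
    have e : (g : L)⁻¹ * (x₀ * g * x₀⁻¹) = v := congrArg Subtype.val hg
    have hy' : (g : L) * y * (g : L)⁻¹ ∈ T.W₂ := (mem_normalizer_iff.mp g.2.2 y).mp hy
    have h1 : x₀ * ((g : L) * y * (g : L)⁻¹) * x₀⁻¹ = (g : L) * y * (g : L)⁻¹ := by
      rw [T.commute_W₁_W₂ hx₀ hy', mul_inv_cancel_right]
    have h2 : x₀⁻¹ * y * x₀ = y := by
      rw [mul_assoc, ← T.commute_W₁_W₂ hx₀ hy, inv_mul_cancel_left]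
    rw [← e]
    calc y * ((g : L)⁻¹ * (x₀ * g * x₀⁻¹))
        = (g : L)⁻¹ * ((g : L) * y * (g : L)⁻¹) * (x₀ * g * x₀⁻¹) := by group
      _ = (g : L)⁻¹ * (x₀ * g * (x₀⁻¹ * x₀) * y * x₀⁻¹) := by
          conv_lhs => rw [← h1]
          group
      _ = (g : L)⁻¹ * (x₀ * g * x₀⁻¹) * (x₀ * y * x₀⁻¹) := by group
      _ = (g : L)⁻¹ * (x₀ * g * x₀⁻¹) * y := by
          rw [show x₀ * y * x₀⁻¹ = y by rw [T.commute_W₁_W₂ hx₀ hy, mul_inv_cancel_right]]
  refine ⟨hv, ?_⟩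
  -- `[P, V]` has no fixed points
  set M : Subgroup L := ⁅T.P, V⁆ with hM
  have hVU : V ≤ T.U := inf_le_left
  have hMP : M ≤ T.P := Subgroup.commutator_le_left T.P V
  have hVN : V ≤ normalizer (T.P : Set L) := hVU.trans T.U_le_normalizer_P
  have hcopV : (Nat.card V).Coprime (Nat.card T.P) := by
    rw [T.card_P]
    exact ((T.prime_p.coprime_iff_not_dvd.mpr T.p_coprime).symm.coprime_dvd_left
      (Subgroup.card_dvd_of_le hVU)).pow_right _
  by_cases hM1 : M = ⊥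
  · exact Subgroup.commutator_eq_bot_iff_le_centralizer.mp
      (by rw [Subgroup.commutator_comm]; exact hM1) hvV
  exfalso
  have hW₁ne : T.W₁ ≠ ⊥ := fun e => T.prime_q.one_lt.ne (by
    rw [← T.card_W₁, e, Subgroup.card_bot])
  have hMV : M ⊓ centralizer (V : Set L) = ⊥ := le_bot_iff.mp
    ((le_inf (inf_le_inf_right _ hMP) inf_le_left).trans
      (CfsgLib.Coprime.centralizer_inf_commutator_eq_bot hVN hcopV).le)
  have hW₁V : T.W₁ ≤ normalizer (V : Set L) := by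
    intro x hx
    refine mem_normalizer_iff.mpr fun g => ⟨hVn x hx g, fun hg => ?_⟩
    have := hVn x⁻¹ (T.W₁.inv_mem hx) _ hg
    simpa [mul_assoc] using this
  have hMn : V ⊔ T.W₁ ≤ normalizer (M : Set L) := sup_le
    (CfsgLib.OddOrder.le_normalizer_commutator hVN Subgroup.le_normalizer)
    (CfsgLib.OddOrder.le_normalizer_commutator (by rw [normalizer_eq_top]; exact le_top) hW₁V)
  have hcop : (Nat.card M).Coprime (Nat.card ↥(V ⊔ T.W₁)) := by
    have h1 : (Nat.card T.W₁ * Nat.card V).Coprime (Nat.card T.P) := by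
      refine Nat.Coprime.mul_left ?_ hcopV
      rw [T.card_W₁, T.card_P]
      exact ((Nat.coprime_primes T.prime_q T.prime_p).mpr T.ne.symm).pow_right _
    refine (h1.symm.coprime_dvd_left (Subgroup.card_dvd_of_le hMP)).coprime_dvd_right ?_
    rw [sup_comm]
    exact CfsgLib.Coprime.card_sup_dvd hW₁V
  have hsolv : Group.IsSolvable M := by
    haveI : IsMulCommutative M := ⟨⟨fun a b => Subtype.ext (T.comm_P a (hMP a.2) b (hMP b.2))⟩⟩
    exact Group.isSolvable_of_comm fun a b => mul_comm' a b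
  have hf := CfsgLib.FT.card_centralizer_formula hW₁ne hVn
    (fun x hx hx1 g hg e => T.fpf_U hx hx1 (hVU hg) (by rw [e, mul_inv_cancel_right]))
    M hMn hsolv hcop
  have hb : M ⊓ centralizer ((V ⊔ T.W₁ : Subgroup L) : Set L) = ⊥ := le_bot_iff.mp
    ((inf_le_inf_left M (Subgroup.centralizer_le
      (show (V : Set L) ⊆ ((V ⊔ T.W₁ : Subgroup L) : Set L) from
        SetLike.coe_subset_coe.mpr le_sup_left))).trans hMV.le)
  have hc : M ⊓ centralizer (T.W₁ : Set L) = ⊥ := by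
    refine le_bot_iff.mp fun y hy => ?_
    have hy2 : y ∈ T.W₂ := by
      rw [← T.fix x₀ hx₀ hx₀1]
      exact ⟨mem_sup_left (hMP hy.1),
        mem_centralizer_singleton_iff.mpr (mem_centralizer_iff.mp hy.2 x₀ hx₀).symm⟩
    rw [← hMV]
    exact ⟨hy.1, mem_centralizer_iff.mpr fun g hg => (mem_centralizer_iff.mp hg.2 y hy2).symm⟩
  rw [hb, hMV, hc, Subgroup.card_bot, one_pow, one_mul, mul_one] at hf
  exact hM1 (Subgroup.eq_bot_of_card_eq M hf)

end LocalS

variable {G : Type u} [Group G] [Finite G] {S T W₁ W₂ U V : Subgroup G}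

/-- Peterfalvi (13.10): `C_U(S_F) = 1`. -/
theorem centralizer_U_eq_bot (F : Facts S W₁ U W₂) (F' : Facts T W₂ V W₁)
    (hII : Nat.card W₁ < Nat.card W₂ → IsOfTypeII S) :
    U ⊓ centralizer (fittingHallOf S : Set G) = ⊥ := by
  by_contra hne
  haveI := Fintype.ofFinite G
  haveI := Fintype.ofFinite S
  haveI := Fintype.ofFinite T
  have hCne : F.loc.C ≠ ⊥ := by
    intro e
    refine hne ((Subgroup.eq_bot_iff_forall _).mpr fun z hz => ?_)
    have h : (⟨z, U_le F.hP hz.1⟩ : S) ∈ F.loc.C := F.mem_loc_C.mpr hz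
    rw [e, mem_bot] at h
    exact congrArg Subtype.val h
  have hcount := Side.count F.side F'.side hCne
  have hM : F'.loc.p ^ F'.loc.q ≤ Nat.card F'.loc.H :=
    le_of_eq_of_le F'.loc.card_P.symm
      (Nat.le_of_dvd Nat.card_pos (Subgroup.card_dvd_of_le F'.loc.P_le_H))
  have hcoddS : ∀ X : Subgroup S, Odd (Nat.card X) := fun X =>
    F.loc.odd.of_dvd_nat (Subgroup.card_subgroup_dvd_card X)
  have hv := F'.loc.u_mul_le
  have harith := arith (p := Nat.card W₂) (q := Nat.card W₁) (u := F.loc.u) (v := F'.loc.u)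
    (c := Nat.card F.loc.C) (M := Nat.card F'.loc.H) F.prime_p F.prime_q F.ne F.loc.two_lt_p
    F.loc.two_lt_q
    (by
      by_contra hle
      exact hCne (Subgroup.eq_bot_of_card_eq _ (le_antisymm (not_lt.mp hle) Nat.card_pos)))
    (hcoddS _) F.loc.card_C_mod
    (fun h => F.loc.p_coprime (h.trans (Subgroup.card_dvd_of_le F.loc.C_le_U)))
    F.loc.u_odd F.loc.u_mod F.loc.u_mul_le F'.loc.one_lt_u F'.loc.u_odd F'.loc.u_mod
    (hv.trans (Nat.sub_le_sub_right hM 1)) hM (by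
      have h := hcount
      rw [show Nat.card F.side.loc.H = F.loc.p ^ F.loc.q * Nat.card F.loc.C from F.loc.card_H] at h
      exact_mod_cast h)
  obtain ⟨hq, hp, hc, hu⟩ := harith
  obtain ⟨W₁', U', W₂', hP', -, -, -, -, hN, -⟩ := hII (by omega)
  obtain ⟨a, haS, ha⟩ := exists_conj_U F.minimal F.coatom F.hP hP'
  refine hN fun n hn => ?_
  set k := a⁻¹ * n * a
  suffices hk : k ∈ S by
    have h := S.mul_mem (S.mul_mem haS hk) (S.inv_mem haS)
    simpa [k, mul_assoc] using h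
  have hkU : ∀ z ∈ U, k * z * k⁻¹ ∈ U := by
    intro z hz
    have h1 : a * z * a⁻¹ ∈ U' := (ha _).mpr (by simpa [mul_assoc] using hz)
    simpa [k, mul_assoc] using (ha _).mp ((mem_normalizer_iff.mp hn _).mp h1)
  obtain ⟨z, hz, hz1⟩ := (Subgroup.bot_or_exists_ne_one _).resolve_left hne
  have hCU : F.loc.C ≤ F.loc.U := F.loc.C_le_U
  have hz' : (⟨z, U_le F.hP hz.1⟩ : S) ∈ F.loc.C := F.mem_loc_C.mpr hz
  have hkz : k * z * k⁻¹ ∈ U := hkU z hz.1
  have hUcard : Nat.card F.loc.U = 7 * 31 := by rw [← F.loc.u_mul_card_C, hc, hu]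
  set w : S := ⟨k * z * k⁻¹, U_le F.hP hkz⟩
  have hw7 : w ^ 7 = 1 := by
    have h7 : (⟨z, U_le F.hP hz.1⟩ : S) ^ 7 = 1 := by
      rw [← hc]
      exact congrArg Subtype.val (pow_card_eq_one' (x := (⟨_, hz'⟩ : F.loc.C)))
    have h7' : z ^ 7 = 1 := congrArg Subtype.val h7
    exact Subtype.ext (by simp [w, conj_pow, h7'])
  have hwC : w ∈ F.loc.C := by
    have hnorm : F.loc.C ≤ normalizer (zpowers w : Set S) := by
      intro c hcmem
      refine centralizer_le_normalizer _ (mem_centralizer_iff.mpr ?_)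
      rintro _ ⟨i, rfl⟩
      exact F.loc.comm_U _ (F.loc.U.zpow_mem (show w ∈ F.loc.U from hkz) i) c (hCU hcmem)
    have h1 := CfsgLib.Coprime.card_sup_dvd hnorm
    have h2 : Nat.card ↥(F.loc.C ⊔ zpowers w) ∣ 7 * 31 := hUcard ▸ Subgroup.card_dvd_of_le
      (sup_le hCU (zpowers_le.mpr (show w ∈ F.loc.U from hkz)))
    have h3 : Nat.card ↥(F.loc.C ⊔ zpowers w) ∣ 7 * 7 := by
      refine h1.trans (Nat.mul_dvd_mul (dvd_of_eq hc) ?_)
      rw [Nat.card_zpowers]
      exact orderOf_dvd_of_pow_eq_one hw7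
    have h4 : Nat.card ↥(F.loc.C ⊔ zpowers w) ∣ 7 := by
      simpa using Nat.dvd_gcd h3 h2
    have h5 : F.loc.C = F.loc.C ⊔ zpowers w := Subgroup.eq_of_le_of_card_ge le_sup_left
      (by rw [hc]; exact Nat.le_of_dvd (by norm_num) h4)
    rw [h5]
    exact mem_sup_right (mem_zpowers w)
  exact F.mem_of_conj (F.mem_fittingOf_of_mem_loc_H (F.loc.C_le_H hz')) hz1
    (F.mem_fittingOf_of_mem_loc_H (F.loc.C_le_H hwC))

/-- Peterfalvi (13.11): `N(W₁) = C(W₁) = T_F W₂`. -/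
theorem normalizer_W₁ (F : Facts S W₁ U W₂) (F' : Facts T W₂ V W₁)
    (hV : V ⊓ centralizer (fittingHallOf T : Set G) = ⊥) :
    normalizer (W₁ : Set G) = centralizer (W₁ : Set G) ∧
      centralizer (W₁ : Set G) = fittingHallOf T ⊔ W₂ := by
  have h1 : fittingHallOf T ⊔ W₂ ≤ centralizer (W₁ : Set G) :=
    sup_le (fun a ha => mem_centralizer_iff.mpr fun x hx => F'.comm_H x (F'.W₂_le_H hx) a ha)
      fun y hy => mem_centralizer_iff.mpr fun x hx => F.hP.selfNormalizing.2.2.2.1 x hx y hy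
  have h2 : centralizer (W₁ : Set G) ≤ normalizer (W₁ : Set G) := centralizer_le_normalizer _
  have h3 : normalizer (W₁ : Set G) ≤ fittingHallOf T ⊔ W₂ := by
    intro n hn
    obtain ⟨x, hx, hx1⟩ := (Subgroup.bot_or_exists_ne_one W₁).resolve_left fun e =>
      F.prime_q.one_lt.ne' (by rw [e, Subgroup.card_bot])
    have hW₁F : W₁ ≤ fittingOf T := F'.W₂_le_H.trans (fittingHallOf_le_fittingOf T)
    have hnT : n ∈ T := F'.mem_of_conj (hW₁F hx) hx1 (hW₁F ((mem_normalizer_iff.mp hn x).mp hx))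
    obtain ⟨d, hd, y, hy, e⟩ := F'.loc.exists_decomp ⟨n, hnT⟩
    obtain ⟨a, ha, v, hv, rfl⟩ := F'.loc.mem_D_iff.mp hd
    have e' : (a : G) * v * y = n := congrArg Subtype.val e
    have haN : (a : G) ∈ normalizer (W₁ : Set G) := h2 (h1 (mem_sup_left ha))
    have hyN : (y : G) ∈ normalizer (W₁ : Set G) := h2 (h1 (mem_sup_right hy))
    have hvN : (v : G) ∈ normalizer (W₁ : Set G) := by
      rw [show (v : G) = (a : G)⁻¹ * n * (y : G)⁻¹ by rw [← e']; group]
      exact mul_mem (mul_mem (inv_mem haN) hn) (inv_mem hyN)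
    have hvC : v ∈ F'.loc.C :=
      F'.loc.mem_C_of_norm_W₂ hv fun z hz => (mem_normalizer_iff.mp hvN (z : G)).mp hz
    have hv1 : (v : G) = 1 := by
      have := F'.mem_loc_C.mp hvC
      rwa [hV, mem_bot] at this
    rw [← e', hv1, mul_one]
    exact mul_mem_sup ha hy
  exact ⟨le_antisymm (h3.trans h1) h2, le_antisymm (h2.trans h3) h1⟩

theorem stmtS1547_of (h43 : StmtS1543.{u}) : StmtS1547.{u} := by
  intro G _ _ hG S T W₁ W₂ U V hS hT hSP hTP hST hII hS25 hT25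
  obtain ⟨F, F', hlt⟩ := facts_pair h43 hG S T W₁ W₂ U V hS hT hSP hTP hST hII hS25 hT25
  exact centralizer_U_eq_bot F F' hlt

theorem stmtS1548_of (h43 : StmtS1543.{u}) : StmtS1548.{u} := by
  intro G _ _ hG S T W₁ W₂ U V hS hT hSP hTP hST hII hS25 hT25
  obtain ⟨F, F', -⟩ := facts_pair h43 hG S T W₁ W₂ U V hS hT hSP hTP hST hII hS25 hT25
  exact normalizer_W₁ F F' (stmtS1547_of h43 hG T S W₂ W₁ V U hT hS hTP hSP
    (by rw [inf_comm, hST, sup_comm]) hII.symm hT25 hS25)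

end CfsgLib.FT.PF13
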