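import Cfsg.Agent.Lib.FT.PF13.Side

/-!
# Peterfalvi, section 13: the image of `ζ θ - ζ λ` for a regular `θ`

If `C_U(P) ≠ 1` and `θ` is regular, the image is `R + s ∑ η a c` with `R` of norm one orthogonal to
all `η a b`, and `R` is orthogonal to the image belonging to `θ⁻¹`.
-/

set_option autoImplicit false
set_option linter.style.haveILetI false
set_option linter.unusedSectionVars false

namespace CfsgLib.FT.PF13

open _root_.Subgroup Cfsg CfsgLib.Chars CfsgLib.CharsMore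
open scoped ComplexConjugate

universe u

namespace LocalS

variable {L : Type u} [Group L] [Fintype L] (T : LocalS L)

theorem conjH_lamB_ne_regular {θ φ : T.H →* ℂˣ} (hθ : T.Regular θ)
    (hφ : ∀ x ∈ T.W₁, T.conjH x φ = φ) (g : L) : T.conjH g φ ≠ θ := by
  intro h
  obtain ⟨x, hx, hx1⟩ := T.exists_W₁_ne_one
  have h1 : T.conjH (g * x * g⁻¹) θ = θ := by
    rw [← h, ← T.conjH_mul, inv_mul_cancel_right, T.conjH_mul, hφ x hx]
  exact hx1 (T.disj_W₂_W₁ hx (T.H_le_D (by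
    simpa [mul_assoc] using T.normal_H.conj_mem _ (hθ _ h1) g⁻¹)))

theorem inner_zeta_one {θ : T.H →* ℂˣ} (hθ : θ ≠ 1) :
    classInner (T.zeta θ) (fun _ => (1 : ℂ)) = 0 := by
  classical
  haveI : Fintype T.H := Fintype.ofFinite _
  have hone : IsClassFunction L fun _ => (1 : ℂ) := fun _ _ => rfl
  rw [zeta, inner_indFun T.H _ hone]
  have h := inner_lin θ 1
  rw [show (fun k : T.H => ((1 : T.H →* ℂˣ) k : ℂ)) = fun _ => 1 from rfl] at h
  rw [h, if_neg hθ]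

theorem Regular.inner_zeta_inv {θ : T.H →* ℂˣ} (hθ : T.Regular θ) (h1 : θ ≠ 1) :
    classInner (T.zeta θ) (T.zeta θ⁻¹) = 0 :=
  T.inner_zeta_of_not_conj θ θ⁻¹ fun g h => hθ.conjH_ne_inv T h1 g⁻¹ (by
    have h' := congrArg (T.conjH g⁻¹) h
    rw [← T.conjH_mul, inv_mul_cancel, T.conjH_one] at h'
    exact h'.symm)

end LocalS

/-- Norm count: the solutions of `‖Δ‖² ≤ q + 1`. -/
theorem column_arith {p q : ℕ} (hp : 3 ≤ p) (hq : 3 ≤ q) {X Y : ℤ}
    (h : ((q : ℤ) - 1) * (X ^ 2 + ((p : ℤ) - 2) * (X + Y) ^ 2 + (X + Y - 1) ^ 2) +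
      (((p : ℤ) - 2) * Y ^ 2 + (Y - 1) ^ 2) ≤ (q : ℤ) + 1) :
    X = 0 ∧ (Y = 0 ∨ Y = 1 ∧ p = 3) := by
  have hp' : (1 : ℤ) ≤ (p : ℤ) - 2 := by omega
  have hq' : (2 : ℤ) ≤ (q : ℤ) - 1 := by omega
  have h2 : ∀ Z : ℤ, 1 ≤ ((p : ℤ) - 2) * Z ^ 2 + (Z - 1) ^ 2 := by
    intro Z
    rcases eq_or_ne Z 0 with rfl | hZ
    · norm_num
    · nlinarith [Int.add_one_le_of_lt (pow_two_pos_of_ne_zero hZ), sq_nonneg (Z - 1)]
  have hX : X = 0 := by
    by_contra hX
    have hX2 : 1 ≤ X ^ 2 := Int.add_one_le_of_lt (pow_two_pos_of_ne_zero hX)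
    nlinarith [h2 Y, h2 (X + Y), mul_le_mul_of_nonneg_left
      (show 2 ≤ X ^ 2 + ((p : ℤ) - 2) * (X + Y) ^ 2 + (X + Y - 1) ^ 2 by linarith [h2 (X + Y)])
      (show (0 : ℤ) ≤ (q : ℤ) - 1 by linarith)]
  subst hX
  refine ⟨rfl, ?_⟩
  simp only [zero_add, ne_eq, OfNat.ofNat_ne_zero, not_false_eq_true, zero_pow] at h
  rcases eq_or_ne Y 0 with hY | hY
  · exact Or.inl hY
  refine Or.inr ?_
  have hY2 : 1 ≤ Y ^ 2 := Int.add_one_le_of_lt (pow_two_pos_of_ne_zero hY)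
  have hT : ((p : ℤ) - 2) * Y ^ 2 + (Y - 1) ^ 2 ≤ 1 := by
    by_contra hT
    have hT' : 2 ≤ ((p : ℤ) - 2) * Y ^ 2 + (Y - 1) ^ 2 := by omega
    nlinarith
  have hle : ((p : ℤ) - 2) ≤ ((p : ℤ) - 2) * Y ^ 2 := le_mul_of_one_le_right (by linarith) hY2
  have h0 := sq_nonneg (Y - 1)
  have hp3 : p = 3 := by omega
  subst hp3
  refine ⟨?_, rfl⟩
  have : (Y - 1) ^ 2 = 0 := le_antisymm (by push_cast at hT; linarith) h0
  exact sub_eq_zero.mp (pow_eq_zero_iff two_ne_zero |>.mp this)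

namespace Side

variable {G : Type u} [Group G] [Fintype G] {S W₁ W₂ : Subgroup G} (D : Side S W₁ W₂) [Fintype S]

/-- `H` without the identity, inside `G`. -/
noncomputable def HG : Finset G := by
  classical
  exact Finset.univ.filter fun g => ∃ hg : g ∈ S, (⟨g, hg⟩ : S) ∈ D.loc.H ∧ g ≠ 1

theorem mem_HG {g : G} : g ∈ D.HG ↔ ∃ hg : g ∈ S, (⟨g, hg⟩ : S) ∈ D.loc.H ∧ g ≠ 1 := by
  simp [HG]

theorem HG_subset_A {g : G} (hg : g ∈ D.HG) : g ∈ D.A := by
  obtain ⟨hS, h⟩ := D.mem_HG.mp hg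
  exact ⟨hS, Or.inl h⟩

/-- `ζ φ - ζ ψ` induced to `G`. -/
noncomputable def dz (φ ψ : D.loc.H →* ℂˣ) : G → ℂ := indFun S (D.loc.zeta φ - D.loc.zeta ψ)

theorem gen_zeta_sub (φ ψ : D.loc.H →* ℂˣ) :
    IsGeneralizedCharacter S (D.loc.zeta φ - D.loc.zeta ψ) :=
  isGeneralized_sub (mem_genChar.mp (genChar_of_isCharacter (D.loc.isCharacter_zeta φ)))
    (mem_genChar.mp (genChar_of_isCharacter (D.loc.isCharacter_zeta ψ)))

theorem gen_dz (φ ψ : D.loc.H →* ℂˣ) : IsGeneralizedCharacter G (D.dz φ ψ) :=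
  isGeneralized_indFun S (D.gen_zeta_sub φ ψ)

theorem zeta_sub_vanish (φ ψ : D.loc.H →* ℂˣ) (s : S) (hs : (s : G) ∉ D.A) :
    (D.loc.zeta φ - D.loc.zeta ψ) s = 0 := by
  by_contra h
  obtain ⟨h1, h2⟩ := D.loc.zeta_sub_support φ ψ h
  exact hs ⟨s.2, Or.inl ⟨h1, fun e => h2 (Subtype.ext e)⟩⟩

theorem inner_dz (φ ψ φ' ψ' : D.loc.H →* ℂˣ) :
    classInner (D.dz φ ψ) (D.dz φ' ψ') =
      classInner (D.loc.zeta φ - D.loc.zeta ψ) (D.loc.zeta φ' - D.loc.zeta ψ') :=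
  D.inner_ind (isClassFunction_of_isGeneralized (D.gen_zeta_sub φ' ψ')) (D.zeta_sub_vanish φ ψ)
    (D.zeta_sub_vanish φ' ψ')

/-- Off the conjugates of `H` without the identity the image vanishes. -/
theorem dz_eq_zero (φ ψ : D.loc.H →* ℂˣ) {g : G} (hg : g ∉ conjSet D.HG) : D.dz φ ψ g = 0 := by
  rw [dz, indFun_apply, Finset.sum_eq_zero fun x _ => ?_, mul_zero]
  by_cases hx : x⁻¹ * g * x ∈ S
  · rw [extendByZero_of_mem _ _ hx]
    by_contra h
    obtain ⟨h1, h2⟩ := D.loc.zeta_sub_support φ ψ h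
    exact hg (mem_conjSet.mpr ⟨x⁻¹, D.mem_HG.mpr
      ⟨by simpa using hx, by simpa using h1, fun e => h2 (Subtype.ext (by simpa using e))⟩⟩)
  · rw [extendByZero_of_not_mem _ _ hx]

theorem regular_notMem_conjSet {x y : G} (hx : x ∈ W₁) (hy : y ∈ W₂) (hx1 : x ≠ 1) :
    x * y ∉ conjSet D.HG := by
  intro h
  obtain ⟨z, hz⟩ := mem_conjSet.mp h
  obtain ⟨hS, hH, -⟩ := D.mem_HG.mp hz
  have hm : z⁻¹ * (z * (x * y) * z⁻¹) * z⁻¹⁻¹ ∈ S := by
    simpa [mul_assoc] using S.mul_mem (D.W₁_le hx) (D.W₂_le hy)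
  refine D.conj_H_ne_regular z⁻¹ hH (D.mem_W₁_loc hx (D.W₁_le hx))
    (fun e => hx1 (congrArg Subtype.val e)) (D.mem_W₂_loc hy (D.W₂_le hy)) hm (k := 1) ?_
  exact Subtype.ext (by simp [mul_assoc])

theorem pow_card_H_eq_one {g : G} (hg : g ∈ conjSet D.HG) : g ^ Nat.card D.loc.H = 1 := by
  obtain ⟨x, hx⟩ := mem_conjSet.mp hg
  obtain ⟨hS, hH, -⟩ := D.mem_HG.mp hx
  have h : (x * g * x⁻¹) ^ Nat.card D.loc.H = 1 := congrArg (fun z : D.loc.H => ((z : S) : G))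
    (pow_card_eq_one' (x := (⟨⟨_, hS⟩, hH⟩ : D.loc.H)))
  rwa [conj_pow, conj_eq_one_iff] at h

theorem card_hom_W₂ [Fintype (W₂ →* ℂˣ)] : Fintype.card (W₂ →* ℂˣ) = D.loc.p := by
  classical
  haveI : Fintype W₂ := Fintype.ofFinite _
  haveI := Fact.mk D.loc.prime_p
  haveI := isCyclic_of_prime_card D.card_W₂
  rw [card_hom_of_comm fun a b => mul_comm' a b, ← Nat.card_eq_fintype_card, D.card_W₂]

variable {η : (W₁ →* ℂˣ) → (W₂ →* ℂˣ) → G → ℂ}

theorem zeta_lam_eq_sum [Fintype (W₁ →* ℂˣ)] {b : W₂ →* ℂˣ} (hb : b ≠ 1) :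
    D.loc.zeta (D.lam b) = ∑ a : W₁ →* ℂˣ, D.nu a b := by
  classical
  haveI : Fintype (D.loc.W₁ →* ℂˣ) := Fintype.ofFinite _
  rw [← D.loc.sum_nu (D.lam_fixed hb)]
  exact (Fintype.sum_bijective D.res₁ D.res₁_bijective _ _ fun _ => rfl).symm

theorem inner_nu [Fintype (W₁ →* ℂˣ)] (a a' : W₁ →* ℂˣ) {b b' : W₂ →* ℂˣ} (hb : b ≠ 1)
    (hb' : b' ≠ 1) [Decidable (b = b')] [Decidable (a = a')] :
    classInner (D.nu a b) (D.nu a' b') = if b = b' ∧ a = a' then 1 else 0 := by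
  classical
  rw [nu, nu, D.loc.inner_nu (D.lam_fixed hb) _ (D.lam_fixed hb')]
  exact if_congr ⟨fun h => ⟨D.res₂_inj (D.loc.lamB_inj h.1), D.res₁_bijective.1 h.2⟩,
    fun h => ⟨by rw [h.1], by rw [h.2]⟩⟩ rfl rfl

theorem inner_zeta_lam {b : W₂ →* ℂˣ} (hb : b ≠ 1) :
    classInner (D.loc.zeta (D.lam b)) (D.loc.zeta (D.lam b)) = (D.loc.q : ℂ) := by
  classical
  haveI : Fintype (W₁ →* ℂˣ) := Fintype.ofFinite _
  rw [D.zeta_lam_eq_sum hb, inner_sum_left, Finset.sum_congr rfl fun a _ => show _ = (1 : ℂ) from ?_,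
    Finset.sum_const, Finset.card_univ, D.card_hom_W₁, nsmul_one]
  rw [inner_sum_right, Finset.sum_eq_single a (fun a' _ h => by
    rw [D.inner_nu a a' hb hb, if_neg fun e => h e.2.symm]) (by simp), D.inner_nu a a hb hb,
    if_pos ⟨rfl, rfl⟩]

theorem inner_nu_zeta_lam [Fintype (W₁ →* ℂˣ)] (a : W₁ →* ℂˣ) {b y : W₂ →* ℂˣ} (hb : b ≠ 1)
    (hy : y ≠ 1) [Decidable (b = y)] :
    classInner (D.loc.zeta (D.lam b)) (D.nu a y) = if b = y then 1 else 0 := by
  classical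
  rw [D.zeta_lam_eq_sum hb, inner_sum_left, Finset.sum_eq_single a (fun a' _ h => by
    rw [D.inner_nu a' a hb hy, if_neg fun e => h e.2]) (by simp), D.inner_nu a a hb hy]
  simp

theorem inner_dz_one {θ : D.loc.H →* ℂˣ} (hθ : θ ≠ 1) {b : W₂ →* ℂˣ} (hb : b ≠ 1) :
    classInner (D.dz θ (D.lam b)) (fun _ => (1 : ℂ)) = 0 := by
  classical
  have hone : IsClassFunction G fun _ => (1 : ℂ) := fun _ _ => rfl
  rw [dz, inner_indFun S _ hone, Chars.inner_sub_left, D.loc.inner_zeta_one hθ,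
    D.loc.inner_zeta_one fun e => ?_, sub_zero]
  obtain ⟨a, ha, h⟩ := (D.lam_fixed hb).2
  exact h (by rw [e]; rfl)

theorem inner_dz_eta_sub (hη : Grid W₁ W₂ η) {θ : D.loc.H →* ℂˣ} (hθ : D.loc.Regular θ)
    {b y y' : W₂ →* ℂˣ} (hb : b ≠ 1) (hy : y ≠ 1) (hy' : y' ≠ 1) (hne : y ≠ y') (a : W₁ →* ℂˣ)
    [Decidable (b = y)] [Decidable (b = y')] :
    classInner (D.dz θ (D.lam b)) (η a y - η a y') =
      -(if b = y then 1 else 0) + if b = y' then 1 else 0 := by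
  classical
  haveI : Fintype (W₁ →* ℂˣ) := Fintype.ofFinite _
  have hz : ∀ {c : W₂ →* ℂˣ}, c ≠ 1 → classInner (D.loc.zeta θ) (D.nu a c) = 0 := fun hc =>
    D.loc.inner_zeta_nu (D.lam_fixed hc) _ fun g =>
      D.loc.conjH_lamB_ne_regular hθ (D.lam_fixed hc).1 g
  rw [← D.ind_nu_sub hη a hy hy' hne, dz,
    D.inner_ind (isClassFunction_of_isGeneralized (isGeneralized_sub (D.gen_nu a hy) (D.gen_nu a hy')))
      (D.zeta_sub_vanish _ _) (D.nu_sub_vanish a hy hy'),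
    Chars.inner_sub_left, Chars.inner_sub_right, Chars.inner_sub_right, hz hy, hz hy',
    D.inner_nu_zeta_lam a hb hy, D.inner_nu_zeta_lam a hb hy']
  ring

/-- The rows `η a 1`, `a ≠ 1`, are Galois conjugate over the image. -/
theorem inner_dz_galois (hη : Grid W₁ W₂ η) (φ ψ : D.loc.H →* ℂˣ) {a a' : W₁ →* ℂˣ} (ha : a ≠ 1)
    (ha' : a' ≠ 1) : classInner (D.dz φ ψ) (η a' 1) = classInner (D.dz φ ψ) (η a 1) := by
  classical
  haveI : NeZero (Nat.card G) := ⟨Nat.card_pos.ne'⟩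
  haveI : Fact D.loc.q.Prime := ⟨D.loc.prime_q⟩
  haveI : Fintype (W₁ →* ℂˣ) := Fintype.ofFinite _
  have hcard : Nat.card (W₁ →* ℂˣ) = D.loc.q := by rw [Nat.card_eq_fintype_card, D.card_hom_W₁]
  obtain ⟨j, hj⟩ : ∃ j : ℕ, a ^ j = a' :=
    Submonoid.mem_powers_iff _ _ |>.mp (mem_powers_of_prime_card (g' := a') hcard ha)
  have hord : orderOf a = D.loc.q :=
    ((Nat.dvd_prime D.loc.prime_q).mp (hcard ▸ orderOf_dvd_natCard a)).resolve_left
      fun e => ha (orderOf_eq_one_iff.mp e)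
  have hq : ∀ j : ℕ, a ^ j = 1 ↔ D.loc.q ∣ j := fun j => by
    rw [← hord]
    exact (orderOf_dvd_iff_pow_eq_one (x := a) (n := j)).symm
  have hjq : D.loc.q.Coprime j :=
    D.loc.prime_q.coprime_iff_not_dvd.mpr fun h => ha' (by rw [← hj, (hq j).mpr h])
  obtain ⟨e, n, hn, hGn⟩ :=
    Nat.exists_eq_pow_mul_and_not_dvd (Nat.card_pos (α := G)).ne' D.loc.q D.loc.prime_q.ne_one
  have hcop : (D.loc.q ^ e).Coprime n :=
    Nat.Coprime.pow_left _ (D.loc.prime_q.coprime_iff_not_dvd.mpr hn)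
  have he : 1 ≤ e := by
    by_contra he
    rw [Nat.lt_one_iff.mp (not_le.mp he), pow_zero, one_mul] at hGn
    exact hn (hGn ▸ D.card_W₁ ▸ Subgroup.card_subgroup_dvd_card W₁)
  obtain ⟨k, hk1, hk2⟩ := Nat.chineseRemainder hcop j 1
  have hkq : k ≡ j [MOD D.loc.q] := hk1.of_dvd (dvd_pow_self _ (by omega))
  have hk : k.Coprime (Nat.card G) := by
    rw [hGn]
    refine Nat.Coprime.mul_right (Nat.Coprime.pow_right _ ?_) ?_
    · show Nat.gcd k D.loc.q = 1
      rw [hkq.gcd_eq]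
      exact hjq.symm
    · show Nat.gcd k n = 1
      rw [hk2.gcd_eq, Nat.gcd_one_left]
  have hak : a ^ k = a' := by
    rw [← hj]
    exact (pow_eq_pow_iff_modEq (x := a) (n := k) (m := j)).mpr (by rwa [hord])
  obtain ⟨σ, hσ⟩ := CharApps.exists_galois_pow (Nat.card G) hk
  set Δ := D.dz φ ψ
  have hgΔ : IsGeneralizedCharacter G Δ := D.gen_dz φ ψ
  have hfix : ∀ g : G, σ (Δ g) = Δ g := by
    intro g
    rw [gen_galois_apply hgΔ σ hσ]
    by_cases hg : g ∈ conjSet D.HG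
    · congr 1
      conv_rhs => rw [← pow_one g]
      refine pow_eq_pow_iff_modEq.mpr (hk2.of_dvd ?_)
      refine (orderOf_dvd_of_pow_eq_one (D.pow_card_H_eq_one hg)).trans ?_
      have h1 : Nat.card D.loc.H ∣ Nat.card G :=
        (Subgroup.card_subgroup_dvd_card _).trans (Subgroup.card_subgroup_dvd_card S)
      rw [hGn] at h1
      exact (Nat.Coprime.pow_right _ D.loc.q_coprime_H.symm).dvd_of_dvd_mul_left h1
    · rw [show Δ g = 0 from D.dz_eq_zero φ ψ hg]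
      refine D.dz_eq_zero φ ψ fun hgk => ?_
      obtain ⟨x, hx⟩ := mem_conjSet.mp hgk
      obtain ⟨hS, hH, hne⟩ := D.mem_HG.mp hx
      obtain ⟨i, hi⟩ := exists_pow_eq_self_of_coprime (x := g)
        (hk.coprime_dvd_right (orderOf_dvd_natCard g))
      refine hg (mem_conjSet.mpr ⟨x, D.mem_HG.mpr ?_⟩)
      have e : (x * g ^ k * x⁻¹) ^ i = x * g * x⁻¹ := by rw [conj_pow, hi]
      refine ⟨e ▸ S.pow_mem hS i, ?_, fun h => hne ?_⟩
      · rw [show (⟨x * g * x⁻¹, e ▸ S.pow_mem hS i⟩ : S) = ⟨_, hS⟩ ^ i from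
          Subtype.ext (by rw [SubmonoidClass.coe_pow]; exact e.symm)]
        exact D.loc.H.pow_mem hH i
      · rw [← conj_pow, h, one_pow]
  obtain ⟨z, hz⟩ := inner_int hgΔ (hη.gen a 1)
  have key : σ (classInner Δ (η a 1)) = classInner Δ (η a' 1) := by
    simp only [Chars.inner_def, map_mul, map_inv₀, map_natCast, map_sum, hfix,
      ← gen_inv_apply (hη.gen a 1), ← gen_inv_apply (hη.gen a' 1),
      hη.galois k σ hk hσ a 1, hak,
      show ((1 : W₂ →* ℂˣ) ^ k) = 1 from MonoidHom.ext fun _ => one_pow k]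
  rw [← key, hz, map_intCast]

/-- Peterfalvi (13.5): the multiplicities in the image of `ζ θ - ζ λ`. -/
theorem inner_dz_eta (hη : Grid W₁ W₂ η) {θ : D.loc.H →* ℂˣ} (hθ : D.loc.Regular θ) (hθ1 : θ ≠ 1)
    {b : W₂ →* ℂˣ} (hb : b ≠ 1) [DecidableEq (W₂ →* ℂˣ)] :
    ∃ c, c ≠ 1 ∧ ∃ s : ℤ, (s = 1 ∨ s = -1) ∧
      ∀ a y, classInner (D.dz θ (D.lam b)) (η a y) = if y = c then (s : ℂ) else 0 := by
  classical
  haveI : Fintype (W₁ →* ℂˣ) := Fintype.ofFinite _
  haveI : Fintype (W₂ →* ℂˣ) := Fintype.ofFinite _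
  set Δ := D.dz θ (D.lam b) with hΔ
  have hgΔ : IsGeneralizedCharacter G Δ := D.gen_dz _ _
  choose B hB using fun i j => inner_int hgΔ (hη.gen i j)
  have hadd : ∀ i j, B i j + B 1 1 = B i 1 + B 1 j := by
    intro i j
    have h := hη.additive Δ (isClassFunction_of_isGeneralized hgΔ) (fun x y hx hy hx1 _ =>
      D.dz_eq_zero _ _ (D.regular_notMem_conjSet hx hy hx1)) i j
    rw [hB, hB, hB, hB] at h
    exact_mod_cast h
  have h11 : B 1 1 = 0 := by
    have h := hB 1 1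
    rw [hη.map_one, hΔ, D.inner_dz_one hθ1 hb] at h
    exact_mod_cast h.symm
  obtain ⟨a₀, ha₀⟩ : ∃ a : W₁ →* ℂˣ, a ≠ 1 :=
    Fintype.exists_ne_of_one_lt_card (by rw [D.card_hom_W₁]; exact D.loc.prime_q.one_lt) 1
  obtain ⟨X, hX⟩ : ∃ X, X = B a₀ 1 := ⟨_, rfl⟩
  have hrow : ∀ a, a ≠ 1 → B a 1 = X := fun a ha => by
    have h := D.inner_dz_galois hη θ (D.lam b) ha₀ ha
    rw [← hΔ, hB, hB] at h
    rw [hX]
    exact_mod_cast h
  obtain ⟨Y, hY⟩ : ∃ Y, Y = B 1 b + 1 := ⟨_, rfl⟩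
  have hcol : ∀ y, y ≠ 1 → B 1 y = Y - if b = y then 1 else 0 := by
    intro y hy
    by_cases hby : b = y
    · rw [if_pos hby, ← hby, hY, add_sub_cancel_right]
    · have h := D.inner_dz_eta_sub hη hθ hb hb hy hby 1
      rw [← hΔ, Chars.inner_sub_right, hB, hB, if_pos rfl, if_neg hby, add_zero] at h
      have h' : B 1 b - B 1 y = -1 := by exact_mod_cast h
      rw [if_neg hby, hY]
      omega
  have hcard2 : ((Finset.univ : Finset (W₂ →* ℂˣ)).erase 1).card = D.loc.p - 1 := by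
    rw [Finset.card_erase_of_mem (Finset.mem_univ _), Finset.card_univ, D.card_hom_W₂]
  have hbmem : b ∈ (Finset.univ : Finset (W₂ →* ℂˣ)).erase 1 :=
    Finset.mem_erase.mpr ⟨hb, Finset.mem_univ _⟩
  have hnorm : classInner Δ Δ = (((D.loc.q : ℤ) + 1 : ℤ) : ℂ) := by
    rw [hΔ, D.inner_dz, Chars.inner_sub_left, Chars.inner_sub_right, Chars.inner_sub_right,
      D.loc.inner_zeta_regular hθ, D.inner_zeta_lam hb,
      D.loc.inner_zeta_of_not_conj θ _ fun g => D.loc.conjH_lamB_ne_regular hθ (D.lam_fixed hb).1 g,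
      ← inner_conj (φ := D.loc.zeta θ), D.loc.inner_zeta_of_not_conj θ _ fun g =>
        D.loc.conjH_lamB_ne_regular hθ (D.lam_fixed hb).1 g]
    push_cast
    simp
    ring
  have hle := (bessel (Finset.univ : Finset ((W₁ →* ℂˣ) × (W₂ →* ℂˣ))) (fun i => η i.1 i.2)
    (fun i _ j _ => by rw [hη.orth]; exact if_congr Prod.ext_iff.symm rfl rfl) Δ
    (fun i => B i.1 i.2) (fun i _ => hB i.1 i.2) hnorm).1
  have hcols : ∀ Z : ℤ, ∑ y ∈ (Finset.univ : Finset (W₂ →* ℂˣ)).erase 1,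
      (Z - if b = y then 1 else 0) ^ 2 = ((D.loc.p : ℤ) - 2) * Z ^ 2 + (Z - 1) ^ 2 := by
    intro Z
    rw [← Finset.sum_erase_add _ _ hbmem, if_pos rfl,
      Finset.sum_congr rfl fun y hy => by rw [if_neg (Ne.symm (Finset.ne_of_mem_erase hy)), sub_zero],
      Finset.sum_const, Finset.card_erase_of_mem hbmem, hcard2, nsmul_eq_mul]
    have := D.loc.two_lt_p
    push_cast [show 1 ≤ D.loc.p - 1 by omega, show 1 ≤ D.loc.p by omega]
    ring
  have hrowsum : ∀ a, ∑ y, B a y ^ 2 =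
      B a 1 ^ 2 + (((D.loc.p : ℤ) - 2) * (B a 1 + Y) ^ 2 + (B a 1 + Y - 1) ^ 2) := by
    intro a
    rw [← hcols (B a 1 + Y), ← Finset.add_sum_erase _ _ (Finset.mem_univ (1 : W₂ →* ℂˣ))]
    refine congrArg _ (Finset.sum_congr rfl fun y hy => ?_)
    have h := hadd a y
    rw [h11, hcol y (Finset.ne_of_mem_erase hy), add_zero] at h
    rw [h, add_sub_assoc]
  rw [Fintype.sum_prod_type, Finset.sum_congr rfl fun a _ => hrowsum a,
    ← Finset.add_sum_erase _ _ (Finset.mem_univ (1 : W₁ →* ℂˣ)),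
    Finset.sum_congr rfl fun a ha => by rw [hrow a (Finset.ne_of_mem_erase ha)], Finset.sum_const,
    Finset.card_erase_of_mem (Finset.mem_univ _), Finset.card_univ, D.card_hom_W₁, nsmul_eq_mul,
    h11] at hle
  have hp2 := D.loc.two_lt_p
  have hq2 := D.loc.two_lt_q
  push_cast [show 1 ≤ D.loc.q by omega] at hle
  simp only [zero_add, ne_eq, OfNat.ofNat_ne_zero, not_false_eq_true, zero_pow] at hle
  obtain ⟨hX0, hY0⟩ := column_arith (p := D.loc.p) (q := D.loc.q) (X := X) (Y := Y) (by omega)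
    (by omega) (by linarith)
  have hval : ∀ a y, B a y = if y = 1 then 0 else Y - if b = y then 1 else 0 := by
    intro a y
    have ha : B a 1 = 0 := by
      by_cases ha : a = 1
      · rw [ha, h11]
      · rw [hrow a ha, hX0]
    by_cases hy : y = 1
    · rw [if_pos hy, hy, ha]
    · have h := hadd a y
      rw [h11, ha, add_zero, zero_add, hcol y hy] at h
      rw [if_neg hy, h]
  rcases hY0 with hY0 | ⟨hY1, hp3⟩
  · refine ⟨b, hb, -1, Or.inr rfl, fun a y => ?_⟩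
    rw [hB, hval, hY0]
    by_cases hy : y = b
    · subst hy
      simp [hb]
    · by_cases hy1 : y = 1
      · simp [hy1, Ne.symm hb]
      · simp [hy, hy1, Ne.symm hy]
  · obtain ⟨c, hc⟩ : ∃ c, ((Finset.univ : Finset (W₂ →* ℂˣ)).erase 1).erase b = {c} :=
      Finset.card_eq_one.mp (by rw [Finset.card_erase_of_mem hbmem, hcard2, hp3])
    have hcm : c ∈ ((Finset.univ : Finset (W₂ →* ℂˣ)).erase 1).erase b := hc ▸ Finset.mem_singleton_self c
    have hc1 : c ≠ 1 := Finset.ne_of_mem_erase (Finset.mem_of_mem_erase hcm)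
    refine ⟨c, hc1, 1, Or.inl rfl, fun a y => ?_⟩
    rw [hB, hval, hY1]
    by_cases hy1 : y = 1
    · simp [hy1, Ne.symm hc1]
    by_cases hby : b = y
    · have : y ≠ c := fun e => Finset.ne_of_mem_erase hcm (by rw [← e, hby])
      simp [hy1, hby, this]
    · have : y = c := Finset.mem_singleton.mp (hc ▸ Finset.mem_erase.mpr
        ⟨Ne.symm hby, Finset.mem_erase.mpr ⟨hy1, Finset.mem_univ _⟩⟩)
      simp [hy1, hby, this, hc1]
      intro e
      exact absurd (e.trans this.symm) hby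

/-- The remainder `R` of the image after removing the column of the grid. -/
theorem exists_remainder (hη : Grid W₁ W₂ η) {θ : D.loc.H →* ℂˣ} (hθ : D.loc.Regular θ)
    (hθ1 : θ ≠ 1) {b : W₂ →* ℂˣ} (hb : b ≠ 1) [Fintype (W₁ →* ℂˣ)] :
    ∃ c, c ≠ 1 ∧ ∃ s : ℤ, (s = 1 ∨ s = -1) ∧ ∃ R : G → ℂ, IsGeneralizedCharacter G R ∧
      D.dz θ (D.lam b) = R + (s : ℂ) • ∑ a : W₁ →* ℂˣ, η a c ∧
      (∀ a y, classInner R (η a y) = 0) ∧ classInner R R = 1 ∧
      classInner (D.dz θ (D.lam b)) R = 1 := by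
  classical
  obtain ⟨c, hc, s, hs, hval⟩ := D.inner_dz_eta hη hθ hθ1 hb
  set Δ := D.dz θ (D.lam b) with hΔ
  set E : G → ℂ := ∑ a : W₁ →* ℂˣ, η a c with hE
  have hEη : ∀ a y, classInner E (η a y) = if y = c then 1 else 0 := by
    intro a y
    rw [hE, inner_sum_left, Finset.sum_eq_single a (fun a' _ h => by
      rw [hη.orth, if_neg fun e => h e.1]) (by simp), hη.orth]
    exact if_congr ⟨fun h => h.2.symm, fun h => ⟨rfl, h.symm⟩⟩ rfl rfl
  have hgenE : IsGeneralizedCharacter G E :=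
    mem_genChar.mp (Submodule.sum_mem _ fun a _ => mem_genChar.mpr (hη.gen a c))
  refine ⟨c, hc, s, hs, Δ - (s : ℂ) • E, ?_, by abel, fun a y => ?_, ?_⟩
  · rcases hs with rfl | rfl
    · simpa using isGeneralized_sub (D.gen_dz θ (D.lam b)) hgenE
    · simpa [← hΔ] using mem_genChar.mp ((genChar G).add_mem (mem_genChar.mpr (D.gen_dz θ (D.lam b)))
        (mem_genChar.mpr hgenE))
  · rw [Chars.inner_sub_left, Chars.inner_smul_left, hval, hEη]
    split_ifs <;> simp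
  have hΔE : classInner Δ E = (s : ℂ) * D.loc.q := by
    rw [hE, inner_sum_right, Finset.sum_congr rfl fun a _ => by rw [hval, if_pos rfl], Finset.sum_const,
      Finset.card_univ, D.card_hom_W₁, nsmul_eq_mul, mul_comm]
  have hEΔ : classInner E Δ = (s : ℂ) * D.loc.q := by
    rw [← inner_conj, hΔE, map_mul, map_intCast, map_natCast]
  have hEE : classInner E E = D.loc.q := by
    conv_lhs => arg 2; rw [hE]
    rw [inner_sum_right, Finset.sum_congr rfl fun a _ => by rw [hEη, if_pos rfl], Finset.sum_const,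
      Finset.card_univ, D.card_hom_W₁, nsmul_one]
  have hnorm : classInner Δ Δ = (D.loc.q : ℂ) + 1 := by
    rw [hΔ, D.inner_dz, Chars.inner_sub_left, Chars.inner_sub_right, Chars.inner_sub_right,
      D.loc.inner_zeta_regular hθ, D.inner_zeta_lam hb,
      D.loc.inner_zeta_of_not_conj θ _ fun g => D.loc.conjH_lamB_ne_regular hθ (D.lam_fixed hb).1 g,
      ← inner_conj (φ := D.loc.zeta θ), D.loc.inner_zeta_of_not_conj θ _ fun g =>
        D.loc.conjH_lamB_ne_regular hθ (D.lam_fixed hb).1 g]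
    simp
    ring
  have hs2 : (s : ℂ) * s = 1 := by rcases hs with rfl | rfl <;> simp
  constructor
  · rw [Chars.inner_sub_left, Chars.inner_sub_right, Chars.inner_sub_right, Chars.inner_smul_left,
      Chars.inner_smul_right, Chars.inner_smul_right, Chars.inner_smul_left, hnorm, hΔE, hEΔ, hEE,
      map_intCast]
    linear_combination (-(D.loc.q : ℂ)) * hs2
  · rw [Chars.inner_sub_right, Chars.inner_smul_right, hnorm, hΔE, map_intCast]
    linear_combination (-(D.loc.q : ℂ)) * hs2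

/-- `R` is orthogonal to the image belonging to `θ⁻¹`. -/
theorem inner_remainder_inv (hη : Grid W₁ W₂ η) {θ : D.loc.H →* ℂˣ} (hθ : D.loc.Regular θ)
    (hθ1 : θ ≠ 1) {b : W₂ →* ℂˣ} (hb : b ≠ 1) [Fintype (W₁ →* ℂˣ)] {c : W₂ →* ℂˣ} {s : ℤ}
    (hs : s = 1 ∨ s = -1) {R : G → ℂ} (hRgen : IsGeneralizedCharacter G R)
    (heq : D.dz θ (D.lam b) = R + (s : ℂ) • ∑ a : W₁ →* ℂˣ, η a c)
    (horth : ∀ a y, classInner R (η a y) = 0) (hR : classInner R R = 1) :
    classInner R (D.dz θ⁻¹ (D.lam b)) = 0 := by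
  classical
  have hθi : D.loc.Regular θ⁻¹ := hθ.inv D.loc
  have hθi1 : θ⁻¹ ≠ 1 := fun e => hθ1 (MonoidHom.ext fun x => inv_eq_one.mp (DFunLike.congr_fun e x))
  obtain ⟨c', hc', s', hs', R', hR'gen, heq', horth', hR'1, -⟩ := D.exists_remainder hη hθi hθi1 hb
  obtain ⟨z, hz⟩ := inner_int hRgen hR'gen
  have hzle : z ^ 2 ≤ 1 := by
    simpa using (bessel {()} (fun _ => R') (fun i _ j _ => by simp [hR'1]) R (fun _ => z)
      (fun _ _ => hz) (n := 1) (by rw [hR, Int.cast_one])).1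
  have hRE : ∀ y, classInner R (∑ a : W₁ →* ℂˣ, η a y) = 0 := fun y => by
    rw [inner_sum_right]
    exact Finset.sum_eq_zero fun a _ => horth a y
  have hER : classInner (∑ a : W₁ →* ℂˣ, η a c) R' = 0 := by
    rw [← inner_conj, inner_sum_right, Finset.sum_eq_zero fun a _ => horth' a c, map_zero]
  have hEE : classInner (∑ a : W₁ →* ℂˣ, η a c) (∑ a : W₁ →* ℂˣ, η a c') =
      if c = c' then (D.loc.q : ℂ) else 0 := by
    rw [inner_sum_left, Finset.sum_congr rfl fun a _ =>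
      show _ = (if c = c' then (1 : ℂ) else 0) from ?_, Finset.sum_const, Finset.card_univ,
      D.card_hom_W₁, nsmul_eq_mul, mul_ite, mul_one, mul_zero]
    rw [inner_sum_right, Finset.sum_eq_single a (fun a' _ h => by
      rw [hη.orth, if_neg fun e => h e.1.symm]) (by simp), hη.orth]
    simp
  have h := D.inner_dz θ (D.lam b) θ⁻¹ (D.lam b)
  rw [Chars.inner_sub_left, Chars.inner_sub_right, Chars.inner_sub_right, hθ.inner_zeta_inv D.loc hθ1,
    D.inner_zeta_lam hb,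
    D.loc.inner_zeta_of_not_conj θ _ fun g => D.loc.conjH_lamB_ne_regular hθ (D.lam_fixed hb).1 g,
    ← inner_conj (φ := D.loc.zeta θ⁻¹), D.loc.inner_zeta_of_not_conj θ⁻¹ _ fun g =>
      D.loc.conjH_lamB_ne_regular hθi (D.lam_fixed hb).1 g,
    heq, heq', Chars.inner_add_left, Chars.inner_add_right, Chars.inner_add_right,
    Chars.inner_smul_left, Chars.inner_smul_left, Chars.inner_smul_right, Chars.inner_smul_right,
    hz, hRE, hER, hEE] at h
  have hz0 : z = 0 := by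
    have hz' : (z : ℤ) = (D.loc.q : ℤ) * (1 - if c = c' then s * s' else 0) := by
      split_ifs at h ⊢ with hcc
      · have h' : (z : ℂ) = (((D.loc.q : ℤ) * (1 - s * s') : ℤ) : ℂ) := by
          push_cast
          simp only [map_intCast, map_zero, mul_zero, add_zero, zero_sub, sub_neg_eq_add,
            zero_add, sub_zero] at h
          linear_combination h
        exact_mod_cast h'
      · have h' : (z : ℂ) = (((D.loc.q : ℤ) * (1 - 0) : ℤ) : ℂ) := by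
          push_cast
          simp only [map_zero, mul_zero, add_zero, zero_sub, sub_neg_eq_add, zero_add,
            sub_zero] at h
          linear_combination h
        exact_mod_cast h'
    have hq3 := D.loc.two_lt_q
    set t : ℤ := 1 - if c = c' then s * s' else 0
    rcases eq_or_ne t 0 with ht | ht
    · rw [hz', ht, mul_zero]
    · have ht2 : 1 ≤ t ^ 2 := Int.add_one_le_of_lt (pow_two_pos_of_ne_zero ht)
      have : (9 : ℤ) ≤ (D.loc.q : ℤ) ^ 2 := by nlinarith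
      rw [hz', mul_pow] at hzle
      nlinarith
  rw [heq', Chars.inner_add_right, Chars.inner_smul_right, hz, hRE, hz0]
  simp

end Side

end CfsgLib.FT.PF13
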