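import Cfsg.Agent.Lib.CharsMore.CyclicTIUnique
import Cfsg.Agent.Lib.Chars.Induction
import Cfsg.Agent.S1506

/-!
# The cyclic TI family as a grid indexed by the two factors
-/

set_option autoImplicit false
set_option linter.style.haveILetI false
set_option linter.unusedSectionVars false

namespace CfsgLib.FT.PF13

open _root_.Subgroup Cfsg CfsgLib.Chars CfsgLib.CharsMore
open scoped ComplexConjugate

universe u

variable {G : Type u} [Group G] [Fintype G] {W₁ W₂ : Subgroup G}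

/-- The characters `η a b` attached to a self-normalising cyclic subgroup `W₁ W₂`. -/
structure Grid (W₁ W₂ : Subgroup G) (η : (W₁ →* ℂˣ) → (W₂ →* ℂˣ) → G → ℂ) : Prop where
  gen : ∀ a b, IsGeneralizedCharacter G (η a b)
  orth : ∀ a b a' b', [Decidable (a = a')] → [Decidable (b = b')] →
    classInner (η a b) (η a' b') = if a = a' ∧ b = b' then 1 else 0
  map_one : η 1 1 = fun _ => 1
  eq_on : ∀ a b x y, ∀ hx : x ∈ W₁, ∀ hy : y ∈ W₂, x ≠ 1 → y ≠ 1 →
    η a b (x * y) = (a ⟨x, hx⟩ : ℂ) * (b ⟨y, hy⟩ : ℂ)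
  rel : ∀ g, (∀ k x y, x ∈ W₁ → y ∈ W₂ → x ≠ 1 → y ≠ 1 → k * g * k⁻¹ ≠ x * y) →
    ∀ a b, 1 - η a 1 g - η 1 b g + η a b g = 0
  additive : ∀ θ, IsClassFunction G θ →
    (∀ x y, x ∈ W₁ → y ∈ W₂ → x ≠ 1 → y ≠ 1 → θ (x * y) = 0) →
    ∀ a b, classInner θ (η a b) + classInner θ (η 1 1) =
      classInner θ (η a 1) + classInner θ (η 1 b)
  galois : ∀ (k : ℕ) (σ : ℂ ≃+* ℂ), k.Coprime (Nat.card G) →
    (∀ z : ℂ, z ^ Nat.card G = 1 → σ z = z ^ k) → ∀ a b g, σ (η a b g) = η (a ^ k) (b ^ k) g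

/-- The Galois automorphisms permute a cyclic TI family as they permute the linear characters. -/
theorem family_galois (hW : IsSelfNormalizingCyclic W₁ W₂) (hodd : Odd (Nat.card ↥(W₁ ⊔ W₂)))
    {χ : (↥(W₁ ⊔ W₂) →* ℂˣ) → (G → ℂ)} (h : IsCyclicTIFamily W₁ W₂ χ) (σ : ℂ ≃+* ℂ)
    (ω : ↥(W₁ ⊔ W₂) →* ℂˣ) (g : G) :
    σ (χ ω g) = χ ((Units.map σ.toRingHom.toMonoidHom).comp ω) g := by
  classical
  let s : ℂˣ →* ℂˣ := Units.map σ.symm.toRingHom.toMonoidHom
  have hsv : ∀ u : ℂˣ, σ (s u : ℂ) = (u : ℂ) := fun u => σ.apply_symm_apply _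
  have hsi : Function.Injective s := fun u v huv => Units.ext (by
    have := congrArg (fun z : ℂˣ => σ (z : ℂ)) huv
    simpa [hsv] using this)
  let t : (↥(W₁ ⊔ W₂) →* ℂˣ) → (↥(W₁ ⊔ W₂) →* ℂˣ) := fun a => s.comp a
  have ht : Function.Injective t := fun a b hab =>
    MonoidHom.ext fun w => hsi (DFunLike.congr_fun hab w)
  let χ' : (↥(W₁ ⊔ W₂) →* ℂˣ) → (G → ℂ) := fun a x => σ (χ (t a) x)
  have hirr : ∀ {f : G → ℂ}, IsIrrCharacter G f → IsIrrCharacter G (fun x => σ (f x)) := fun hf =>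
    CharApps.isIrr_galois ⟨_, hf⟩ σ
  have hsig : ∀ a, IsIrrCharacter G (χ' a) ∨ IsIrrCharacter G (-χ' a) := fun a => by
    rcases h.irr_or_neg (t a) with hh | hh
    · exact Or.inl (hirr hh)
    · exact Or.inr (by convert hirr hh using 1; funext x; simp [χ'])
  have h1 : t 1 = 1 := MonoidHom.ext fun w => map_one s
  have htm : ∀ a b, t (a * b) = t a * t b := fun a b => MonoidHom.ext fun w => map_mul s _ _
  have h' : IsCyclicTIFamily W₁ W₂ χ' := by
    refine ⟨hsig, fun a b => ?_, ?_, fun a w hw1 hw2 => ?_, fun φ ψ hφ hψ hφ2 hψ1 => ?_⟩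
    · have e : classInner (χ' a) (χ' b) = σ (classInner (χ (t a)) (χ (t b))) := by
        have hinv : ∀ (f : G → ℂ), (IsIrrCharacter G f ∨ IsIrrCharacter G (-f)) →
            ∀ x, conj (f x) = f x⁻¹ := by
          rintro f (hf | hf) x
          · exact (Chars.char_inv (Chars.isCharacter_of_irr hf) x).symm
          · have := Chars.char_inv (Chars.isCharacter_of_irr hf) x
            simp only [Pi.neg_apply, map_neg, neg_inj] at this
            exact this.symm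
        simp only [Chars.inner_def, hinv _ (hsig b), hinv _ (h.irr_or_neg (t b)), map_mul, map_inv₀,
          map_natCast, map_sum]
        rfl
      rw [e, h.orthonormal]
      rcases eq_or_ne a b with rfl | hne
      · simp
      · rw [if_neg (ht.ne hne), if_neg hne, map_zero]
    · funext x; simp [χ', h1, h.map_one]
    · show σ (χ (t a) w) = _
      rw [h.eq_on (t a) w hw1 hw2]
      exact hsv _
    · have hne : ∀ a, a ≠ 1 → t a ≠ 1 := fun a ha e => ha (ht (e.trans h1.symm))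
      have e := h.induced_eq (t φ) (t ψ) (hne φ hφ) (hne ψ hψ)
        (fun w hw => by show s (φ w) = 1; rw [hφ2 w hw, map_one])
        (fun w hw => by show s (ψ w) = 1; rw [hψ1 w hw, map_one])
      funext x
      have ex := congrArg σ (congrFun e x)
      simp only [map_sub, map_add, map_one] at ex
      simp only [χ', htm]
      rw [← ex]
      simp only [indFun, map_mul, map_inv₀, map_natCast, map_sum]
      congr 1
      refine Finset.sum_congr rfl fun y _ => ?_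
      by_cases hy : y⁻¹ * x * y ∈ W₁ ⊔ W₂
      · rw [Chars.extendByZero_of_mem _ _ hy, Chars.extendByZero_of_mem _ _ hy]
        simp only [map_add, map_sub, map_mul, map_one]
        rw [show σ (t φ ⟨_, hy⟩ : ℂ) = _ from hsv _, show σ (t ψ ⟨_, hy⟩ : ℂ) = _ from hsv _]
      · rw [Chars.extendByZero_of_not_mem _ _ hy, Chars.extendByZero_of_not_mem _ _ hy, map_zero]
  have hu := cyclicTI_unique hW hodd h h'
  conv_rhs => rw [hu]
  show σ (χ ω g) = σ (χ (t ((Units.map σ.toRingHom.toMonoidHom).comp ω)) g)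
  congr 3
  exact MonoidHom.ext fun w => Units.ext (σ.symm_apply_apply _).symm

/-- A self-normalising cyclic subgroup of odd order has a grid. -/
theorem exists_grid (hW : IsSelfNormalizingCyclic W₁ W₂) (hodd : Odd (Nat.card ↥(W₁ ⊔ W₂))) :
    ∃ η, Grid W₁ W₂ η := by
  classical
  obtain ⟨χ, hχ⟩ := exists_cyclicTIFamily hW hodd
  obtain ⟨p₁, p₂, hp1, hp2, hp, hpf1, hpf2⟩ := exists_proj_sup hW.2.2.1 hW.2.2.2.1
  let r₁ : ↥(W₁ ⊔ W₂) →* W₁ := p₁.codRestrict (W₁.subgroupOf _) hp1 |> fun f =>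
    (Subgroup.subgroupOfEquivOfLe le_sup_left).toMonoidHom.comp f
  let r₂ : ↥(W₁ ⊔ W₂) →* W₂ := p₂.codRestrict (W₂.subgroupOf _) hp2 |> fun f =>
    (Subgroup.subgroupOfEquivOfLe le_sup_right).toMonoidHom.comp f
  have hr₁ : ∀ w, (r₁ w : G) = (p₁ w : G) := fun w => rfl
  have hr₂ : ∀ w, (r₂ w : G) = (p₂ w : G) := fun w => rfl
  let Φ : (W₁ →* ℂˣ) → (W₂ →* ℂˣ) → (↥(W₁ ⊔ W₂) →* ℂˣ) := fun a b => a.comp r₁ * b.comp r₂
  have hΦx : ∀ a b x, ∀ hx : x ∈ W₁, Φ a b ⟨x, mem_sup_left hx⟩ = a ⟨x, hx⟩ := by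
    intro a b x hx
    obtain ⟨e1, e2⟩ := hpf1 ⟨x, mem_sup_left hx⟩ hx
    show a (r₁ _) * b (r₂ _) = _
    rw [show r₁ ⟨x, mem_sup_left hx⟩ = ⟨x, hx⟩ from Subtype.ext (by rw [hr₁, e1]),
      show r₂ ⟨x, mem_sup_left hx⟩ = 1 from Subtype.ext (by rw [hr₂, e2]; rfl), _root_.map_one,
      mul_one]
  have hΦy : ∀ a b y, ∀ hy : y ∈ W₂, Φ a b ⟨y, mem_sup_right hy⟩ = b ⟨y, hy⟩ := by
    intro a b y hy
    obtain ⟨e1, e2⟩ := hpf2 ⟨y, mem_sup_right hy⟩ hy
    show a (r₁ _) * b (r₂ _) = _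
    rw [show r₂ ⟨y, mem_sup_right hy⟩ = ⟨y, hy⟩ from Subtype.ext (by rw [hr₂, e2]),
      show r₁ ⟨y, mem_sup_right hy⟩ = 1 from Subtype.ext (by rw [hr₁, e1]; rfl), _root_.map_one,
      one_mul]
  have hinj : ∀ a b a' b', Φ a b = Φ a' b' → a = a' ∧ b = b' := fun a b a' b' e =>
    ⟨MonoidHom.ext fun x => by rw [← hΦx a b x x.2, e, hΦx a' b' x x.2],
      MonoidHom.ext fun y => by rw [← hΦy a b y y.2, e, hΦy a' b' y y.2]⟩
  have h11 : Φ 1 1 = 1 := MonoidHom.ext fun w => one_mul 1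
  have hmul : ∀ a b, Φ a 1 * Φ 1 b = Φ a b := fun a b => MonoidHom.ext fun w => by
    show (a (r₁ w) * 1) * (1 * b (r₂ w)) = a (r₁ w) * b (r₂ w)
    rw [mul_one, one_mul]
  refine ⟨fun a b => χ (Φ a b),
    { gen := fun a b => ?_
      orth := fun a b a' b' => ?_
      map_one := by simp only [h11, hχ.map_one]
      eq_on := fun a b x y hx hy hx1 hy1 => ?_
      rel := fun g hg a b => ?_
      additive := fun θ hθ hv a b => ?_
      galois := fun k σ hk hσ a b g => ?_ }⟩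
  · rcases hχ.irr_or_neg (Φ a b) with h | h
    · exact ⟨_, 0, isCharacter_of_irr h, isCharacter_zero, (sub_zero _).symm⟩
    · exact ⟨0, _, isCharacter_zero, isCharacter_of_irr h, by rw [zero_sub, neg_neg]⟩
  · intro _ _
    show classInner (χ (Φ a b)) (χ (Φ a' b')) = _
    rw [hχ.orthonormal]
    by_cases h : a = a' ∧ b = b'
    · rw [if_pos h, if_pos (by rw [h.1, h.2])]
    · rw [if_neg h, if_neg fun e => h (hinj a b a' b' e)]
  · have hn : x * y ∉ W₁ ∧ x * y ∉ W₂ := by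
      refine ⟨fun h => hy1 ?_, fun h => hx1 ?_⟩
      · have : y ∈ W₁ ⊓ W₂ := ⟨by simpa using W₁.mul_mem (W₁.inv_mem hx) h, hy⟩
        rwa [hW.2.2.1, mem_bot] at this
      · have : x ∈ W₁ ⊓ W₂ := ⟨hx, by simpa using W₂.mul_mem h (W₂.inv_mem hy)⟩
        rwa [hW.2.2.1, mem_bot] at this
    show χ (Φ a b) (x * y) = _
    rw [show χ (Φ a b) (x * y) = (Φ a b ⟨x * y, mul_mem_sup hx hy⟩ : ℂ) from
      hχ.eq_on (Φ a b) ⟨x * y, mul_mem_sup hx hy⟩ hn.1 hn.2, ← hΦx a b x hx, ← hΦy a b y hy,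
      ← Units.val_mul, ← _root_.map_mul]
    rfl
  · by_cases ha : a = 1
    · subst ha; simp [h11, hχ.map_one]
    by_cases hb : b = 1
    · subst hb; simp [h11, hχ.map_one]
    have hne : ∀ a' b', (a' ≠ 1 ∨ b' ≠ 1) → Φ a' b' ≠ 1 := fun a' b' hh e => by
      obtain ⟨e1, e2⟩ := hinj a' b' 1 1 (e.trans h11.symm)
      rcases hh with hh | hh <;> contradiction
    have e := congrFun (hχ.induced_eq (Φ a 1) (Φ 1 b) (hne a 1 (Or.inl ha)) (hne 1 b (Or.inr hb))
      (fun w hw => (hΦy a 1 w hw).trans rfl) (fun w hw => (hΦx 1 b w hw).trans rfl)) g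
    rw [hmul, indFun_apply, Finset.sum_eq_zero fun z _ => ?_, mul_zero] at e
    · exact e.symm
    by_cases hz : z⁻¹ * g * z ∈ W₁ ⊔ W₂
    · rw [extendByZero_of_mem _ _ hz]
      refine alphaFn_support (φ := Φ a 1) (ψ := Φ 1 b) (fun w hw => (hΦy a 1 w hw).trans rfl)
        (fun w hw => (hΦx 1 b w hw).trans rfl) ⟨_, hz⟩ fun hreg => ?_
      obtain ⟨hm, hn⟩ := hreg
      refine hg z⁻¹ _ _ (hp1 ⟨_, hz⟩) (hp2 ⟨_, hz⟩) (fun e1 => hn (Or.inr ?_))
        (fun e2 => hn (Or.inl ?_)) ?_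
      · have := congrArg Subtype.val (hp ⟨_, hz⟩)
        rw [Subgroup.coe_mul, e1, one_mul] at this
        exact Eq.mp (congrArg (· ∈ W₂) this) (hp2 ⟨_, hz⟩)
      · have := congrArg Subtype.val (hp ⟨_, hz⟩)
        rw [Subgroup.coe_mul, e2, mul_one] at this
        exact Eq.mp (congrArg (· ∈ W₁) this) (hp1 ⟨_, hz⟩)
      · rw [inv_inv]
        exact (congrArg Subtype.val (hp ⟨_, hz⟩)).symm
    · rw [extendByZero_of_not_mem _ _ hz]
  · have hθV : ∀ w : ↥(W₁ ⊔ W₂), (w : G) ∉ W₁ → (w : G) ∉ W₂ → θ w = 0 := by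
      intro w hw1 hw2
      have e := congrArg Subtype.val (hp w)
      rw [Subgroup.coe_mul] at e
      rw [← e]
      refine hv _ _ (hp1 w) (hp2 w) (fun h => hw2 ?_) (fun h => hw1 ?_)
      · rw [← e, h, one_mul]; exact hp2 w
      · rw [← e, h, mul_one]; exact hp1 w
    have h := Cfsg.Agent.S1506.result W₁ W₂ hW χ hχ θ hθ hθV (Φ a 1) 1 (Φ 1 b) 1
      (fun w hw => ⟨(hΦy a 1 w hw).trans rfl, rfl⟩) (fun w hw => ⟨(hΦx 1 b w hw).trans rfl, rfl⟩)
    rw [hmul,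
      show ((1 : ↥(W₁ ⊔ W₂) →* ℂˣ) * 1) = 1 from MonoidHom.ext fun w => one_mul _,
      show Φ a 1 * (1 : ↥(W₁ ⊔ W₂) →* ℂˣ) = Φ a 1 from MonoidHom.ext fun w => mul_one _,
      show (1 : ↥(W₁ ⊔ W₂) →* ℂˣ) * Φ 1 b = Φ 1 b from MonoidHom.ext fun w => one_mul _] at h
    show classInner θ (χ (Φ a b)) + classInner θ (χ (Φ 1 1)) =
      classInner θ (χ (Φ a 1)) + classInner θ (χ (Φ 1 b))
    rw [h11]
    exact h
  · show σ (χ (Φ a b) g) = χ (Φ (a ^ k) (b ^ k)) g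
    rw [family_galois hW hodd hχ σ]
    refine congrFun (congrArg χ (MonoidHom.ext fun w => Units.ext ?_)) g
    show σ (Φ a b w : ℂ) = ((a (r₁ w) ^ k * b (r₂ w) ^ k : ℂˣ) : ℂ)
    rw [← mul_pow, Units.val_pow_eq_pow_val]
    refine hσ _ ?_
    rw [← Units.val_pow_eq_pow_val, ← _root_.map_pow,
      show w ^ Nat.card G = 1 from Subtype.ext (by simp [pow_card_eq_one']), _root_.map_one,
      Units.val_one]

/-- The roles of `W₁` and `W₂` can be exchanged. -/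
theorem Grid.swap {η : (W₁ →* ℂˣ) → (W₂ →* ℂˣ) → G → ℂ} (h : Grid W₁ W₂ η)
    (hcomm : ∀ a ∈ W₁, ∀ b ∈ W₂, a * b = b * a) : Grid W₂ W₁ fun b a => η a b where
  gen b a := h.gen a b
  orth b a b' a' := by
    intro _ _
    rw [h.orth]
    exact if_congr and_comm rfl rfl
  map_one := h.map_one
  eq_on b a y x hy hx hy1 hx1 := by
    show η a b (y * x) = _
    rw [← hcomm x hx y hy, h.eq_on a b x y hx hy hx1 hy1, mul_comm]
  rel g hg b a := by
    have := h.rel g (fun k x y hx hy hx1 hy1 e =>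
      hg k y x hy hx hy1 hx1 (e.trans (hcomm x hx y hy))) a b
    linear_combination this
  additive θ hθ hv b a := by
    rw [h.additive θ hθ (fun x y hx hy hx1 hy1 => by
      rw [hcomm x hx y hy]; exact hv y x hy hx hy1 hx1) a b, add_comm]
  galois k σ hk hσ b a g := h.galois k σ hk hσ a b g

end CfsgLib.FT.PF13
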