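import Cfsg.Agent.Lib.FT.PF13.Column
import Cfsg.Agent.Lib.CharsMore.CoherenceIrr

/-!
# Peterfalvi, section 13: lower bounds for sums of squares over `H` without the identity
-/

set_option autoImplicit false
set_option linter.style.haveILetI false
set_option linter.unusedSectionVars false

namespace CfsgLib.FT.PF13

open _root_.Subgroup Cfsg CfsgLib.Chars CfsgLib.CharsMore
open scoped ComplexConjugate

universe u

namespace Side

variable {G : Type u} [Group G] [Fintype G] {S W₁ W₂ : Subgroup G} (D : Side S W₁ W₂) [Fintype S]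

theorem coe_mem_HG {h : D.loc.H} (hh : h ≠ 1) : ((h : S) : G) ∈ D.HG :=
  D.mem_HG.mpr ⟨(h : S).2, h.2, fun e => hh (Subtype.ext (Subtype.ext e))⟩

theorem card_HG : D.HG.card = Nat.card D.loc.H - 1 := by
  classical
  haveI : Fintype D.loc.H := Fintype.ofFinite _
  rw [Nat.card_eq_fintype_card, ← Finset.card_univ,
    ← Finset.card_erase_of_mem (Finset.mem_univ (1 : D.loc.H))]
  refine (Finset.card_bij (fun (h : D.loc.H) _ => ((h : S) : G))
    (fun h hh => D.coe_mem_HG (Finset.ne_of_mem_erase hh))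
    (fun a _ b _ e => Subtype.ext (Subtype.ext e)) fun g hg => ?_).symm
  obtain ⟨hS, hH, hne⟩ := D.mem_HG.mp hg
  exact ⟨⟨⟨g, hS⟩, hH⟩, Finset.mem_erase.mpr ⟨fun e => hne
    (congrArg (fun z : D.loc.H => ((z : S) : G)) e), Finset.mem_univ _⟩, rfl⟩

variable [Fintype D.loc.H] {f : G → ℂ}

/-- The restriction of `f` to `H`. -/
def resH (f : G → ℂ) (h : D.loc.H) : ℂ := f ((h : S) : G)

theorem gen_resH (hf : IsGeneralizedCharacter G f) :
    IsGeneralizedCharacter D.loc.H (D.resH f) := by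
  obtain ⟨a, b, ha, hb, rfl⟩ := hf
  exact ⟨_, _, isCharacter_restrict D.loc.H (isCharacter_restrict S ha),
    isCharacter_restrict D.loc.H (isCharacter_restrict S hb), rfl⟩

theorem inner_dz_eq (hf : IsGeneralizedCharacter G f) (φ ψ : D.loc.H →* ℂˣ) :
    classInner (D.dz φ ψ) f = classInner (fun h => (φ h : ℂ)) (D.resH f) -
      classInner (fun h => (ψ h : ℂ)) (D.resH f) := by
  have hcf := isClassFunction_of_isGeneralized hf
  rw [dz, inner_indFun S _ hcf, Chars.inner_sub_left, LocalS.zeta, LocalS.zeta,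
    inner_indFun D.loc.H _ (isClassFunction_restrict (H := S) hcf),
    inner_indFun D.loc.H _ (isClassFunction_restrict (H := S) hcf)]
  rfl

theorem inner_resH_conjH (hf : IsGeneralizedCharacter G f) (g : S) (φ : D.loc.H →* ℂˣ) :
    classInner (D.resH f) (fun h => (D.loc.conjH g φ h : ℂ)) =
      classInner (D.resH f) (fun h => (φ h : ℂ)) := by
  rw [Chars.inner_def, Chars.inner_def]
  refine congrArg _ ?_
  let e : D.loc.H ≃ D.loc.H :=
    { toFun := fun h => ⟨g⁻¹ * h * g, by simpa using D.loc.normal_H.conj_mem (h : S) h.2 g⁻¹⟩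
      invFun := fun h => ⟨g * h * g⁻¹, D.loc.normal_H.conj_mem (h : S) h.2 g⟩
      left_inv := fun h => Subtype.ext (by simp [mul_assoc])
      right_inv := fun h => Subtype.ext (by simp [mul_assoc]) }
  refine Fintype.sum_equiv e _ _ fun h => ?_
  have : D.resH f (e h) = D.resH f h := by
    have h' := isClassFunction_of_isGeneralized hf (((h : S)) : G) (g : G)⁻¹
    simpa [resH, e] using h'
  rw [this]
  rfl

/-- The Fourier coefficients of `f` on `H`, with all their properties. -/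
theorem exists_coeff (hf : IsGeneralizedCharacter G f) [Fintype (D.loc.H →* ℂˣ)] :
    ∃ F : (D.loc.H →* ℂˣ) → ℤ,
      (∀ φ ψ, classInner (D.dz φ ψ) f = ((F φ - F ψ : ℤ) : ℂ)) ∧
      (∀ φ₀, ∀ φ ∈ D.loc.orbit φ₀, F φ = F φ₀) ∧
      ((∀ φ ψ, F φ = F ψ) → ∀ g ∈ D.HG, f g = 0) ∧
      ∑ g ∈ D.HG, ‖f g‖ ^ 2 =
        (((Nat.card D.loc.H : ℤ) * ∑ φ, F φ ^ 2 - (∑ φ, F φ) ^ 2 : ℤ) : ℝ) := by
  classical
  have hcomm : ∀ a b : D.loc.H, a * b = b * a := fun a b =>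
    Subtype.ext (D.loc.comm_H a.2 b.2)
  obtain ⟨F, hF, hsum⟩ := exists_fourier_int hcomm (D.gen_resH hf)
  refine ⟨F, fun φ ψ => ?_, fun φ₀ φ hφ => ?_, fun hc g hg => ?_, ?_⟩
  · rw [D.inner_dz_eq hf, ← inner_conj, hF, ← inner_conj (φ := D.resH f), hF, map_intCast,
      map_intCast, Int.cast_sub]
  · obtain ⟨g, rfl⟩ := D.loc.mem_orbit.mp hφ
    have h := D.inner_resH_conjH hf g φ₀
    rw [hF, hF] at h
    exact_mod_cast h
  · obtain ⟨hS, hH, hne⟩ := D.mem_HG.mp hg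
    set x : D.loc.H := ⟨⟨g, hS⟩, hH⟩
    have hx : x ≠ 1 := fun e => hne (congrArg (fun z : D.loc.H => ((z : S) : G)) e)
    haveI : IsMulCommutative D.loc.H := ⟨⟨hcomm⟩⟩
    show D.resH f x = 0
    rw [fourier hcomm (D.resH f) x, Finset.sum_congr rfl fun φ _ => by rw [hF, hc φ 1],
      ← Finset.mul_sum]
    open scoped IsMulCommutative in
    rw [sum_hom_apply hx, mul_zero]
  · rw [Nat.card_eq_fintype_card (α := D.loc.H), ← hsum]
    refine (Finset.sum_bij (fun (h : D.loc.H) _ => ((h : S) : G))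
      (fun h hh => D.coe_mem_HG (Finset.ne_of_mem_erase hh))
      (fun a _ b _ e => Subtype.ext (Subtype.ext e)) (fun g hg => ?_) fun h _ => rfl).symm
    obtain ⟨hS, hH, hne⟩ := D.mem_HG.mp hg
    exact ⟨⟨⟨g, hS⟩, hH⟩, Finset.mem_erase.mpr ⟨fun e => hne
      (congrArg (fun z : D.loc.H => ((z : S) : G)) e), Finset.mem_univ _⟩, rfl⟩

theorem card_hom_H [Fintype (D.loc.H →* ℂˣ)] :
    Fintype.card (D.loc.H →* ℂˣ) = Nat.card D.loc.H := by
  rw [card_hom_of_comm fun a b => Subtype.ext (D.loc.comm_H a.2 b.2), Nat.card_eq_fintype_card]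

/-- The bound from two sets of coefficients with different values. -/
theorem le_sum_sq [Fintype (D.loc.H →* ℂˣ)] {F : (D.loc.H →* ℂˣ) → ℤ}
    (hsum : ∑ g ∈ D.HG, ‖f g‖ ^ 2 =
      (((Nat.card D.loc.H : ℤ) * ∑ φ, F φ ^ 2 - (∑ φ, F φ) ^ 2 : ℤ) : ℝ))
    (A B : Finset (D.loc.H →* ℂˣ)) (hAB : Disjoint A B) (hcard : A.card ≤ B.card) {s t : ℤ}
    (hA : ∀ i ∈ A, F i = s) (hB : ∀ i ∈ B, F i = t) (hst : s ≠ t) :
    (A.card : ℝ) * ((Nat.card D.loc.H : ℝ) - A.card) ≤ ∑ g ∈ D.HG, ‖f g‖ ^ 2 := by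
  have h := variance_le F A B hAB hcard hA hB hst
  rw [D.card_hom_H] at h
  rw [hsum]
  exact_mod_cast h

variable {η : (W₁ →* ℂˣ) → (W₂ →* ℂˣ) → G → ℂ}

include D in
/-- `η a 1` does not vanish on the nontrivial elements of `W₂`. -/
theorem eta_ne_zero (hη : Grid W₁ W₂ η) (a : W₁ →* ℂˣ) {y : G} (hy : y ∈ W₂) (hy1 : y ≠ 1) :
    η a 1 y ≠ 0 := by
  classical
  haveI : Fact D.loc.q.Prime := ⟨D.loc.prime_q⟩
  obtain ⟨x, hx, hx1⟩ := D.loc.exists_W₁_ne_one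
  have hx' : (x : G) ∈ W₁ := D.coe_mem_W₁ hx
  have hx1' : (x : G) ≠ 1 := fun e => hx1 (Subtype.ext e)
  have hord : orderOf (x : G) = D.loc.q := by rw [Subgroup.orderOf_coe, D.loc.orderOf_W₁ hx hx1]
  refine value_ne_zero_of_congr (ℓ := D.loc.q) (x := (x : G)) (hη.gen a 1)
    (D.selfNorm.2.2.2.1 _ hx' y hy) ⟨1, by rw [pow_one]; exact hord⟩ (fun h => ?_)
    D.loc.prime_q.ne_zero ?_
  · have h2 := h.trans (W₂.orderOf_dvd_natCard hy)
    rw [D.card_W₂] at h2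
    exact D.loc.ne ((Nat.prime_dvd_prime_iff_eq D.loc.prime_q D.loc.prime_p).mp h2).symm
  · rw [hη.eq_on a 1 _ y hx' hy hx1' hy1, MonoidHom.one_apply, Units.val_one, mul_one,
      ← Units.val_pow_eq_pow_val, ← map_pow, show (⟨(x : G), hx'⟩ : W₁) ^ D.loc.q = 1 from
        Subtype.ext (by rw [SubmonoidClass.coe_pow, ← hord, pow_orderOf_eq_one]; rfl), map_one,
      Units.val_one]

/-- On this side: `∑ |η a 1| ^ 2 ≥ m - 1`. -/
theorem sum_eta_row (hη : Grid W₁ W₂ η) (a : W₁ →* ℂˣ) :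
    (Nat.card D.loc.H : ℝ) - 1 ≤ ∑ g ∈ D.HG, ‖η a 1 g‖ ^ 2 := by
  classical
  haveI : Fintype (D.loc.H →* ℂˣ) := Fintype.ofFinite _
  obtain ⟨F, -, -, hconst, hsum⟩ := D.exists_coeff (hη.gen a 1)
  obtain ⟨φ, ψ, hne⟩ : ∃ φ ψ, F φ ≠ F ψ := by
    by_contra! hcon
    obtain ⟨y, hy, hy1⟩ := (Subgroup.bot_or_exists_ne_one W₂).resolve_left D.selfNorm.2.1
    refine D.eta_ne_zero hη a hy hy1 (hconst hcon y ?_)
    exact D.mem_HG.mpr ⟨D.W₂_le hy,
      D.loc.P_le_H (D.loc.W₂_le (D.mem_W₂_loc hy (D.W₂_le hy))), hy1⟩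
  have h := D.le_sum_sq hsum {φ} {ψ} (by simpa using fun e => hne (congrArg F e)) (by simp)
    (fun i hi => congrArg F (Finset.mem_singleton.mp hi))
    (fun i hi => congrArg F (Finset.mem_singleton.mp hi)) hne
  simpa using h

/-- On this side: `∑ |η 1 b| ^ 2 ≥ u (m - u)`. -/
theorem sum_eta_col (hη : Grid W₁ W₂ η) {b : W₂ →* ℂˣ} (hb : b ≠ 1) :
    (D.loc.u : ℝ) * ((Nat.card D.loc.H : ℝ) - D.loc.u) ≤ ∑ g ∈ D.HG, ‖η 1 b g‖ ^ 2 := by
  classical
  haveI : Fintype (D.loc.H →* ℂˣ) := Fintype.ofFinite _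
  haveI : Fintype (W₁ →* ℂˣ) := Fintype.ofFinite _
  haveI : Fintype (W₂ →* ℂˣ) := Fintype.ofFinite _
  obtain ⟨b', hb'⟩ : ∃ b', b' ∈ ((Finset.univ : Finset (W₂ →* ℂˣ)).erase 1).erase b := by
    refine Finset.card_pos.mp ?_
    rw [Finset.card_erase_of_mem (Finset.mem_erase.mpr ⟨hb, Finset.mem_univ _⟩),
      Finset.card_erase_of_mem (Finset.mem_univ _), Finset.card_univ, D.card_hom_W₂]
    have := D.loc.two_lt_p
    omega
  have hb'1 : b' ≠ 1 := Finset.ne_of_mem_erase (Finset.mem_of_mem_erase hb')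
  have hne : b ≠ b' := (Finset.ne_of_mem_erase hb').symm
  obtain ⟨F, hdiff, horb, -, hsum⟩ := D.exists_coeff (hη.gen 1 b)
  have hd : ((F (D.lam b) - F (D.lam b') : ℤ) : ℂ) = 1 := by
    rw [← hdiff, dz, D.ind_zeta_sub hη hb hb'1 hne, inner_sum_left,
      Finset.sum_eq_single 1 (fun a _ ha => by
        rw [Chars.inner_sub_left, hη.orth, hη.orth, if_neg fun e => ha e.1, if_neg fun e => ha e.1,
          sub_self]) (by simp),
      Chars.inner_sub_left, hη.orth, hη.orth, if_pos ⟨rfl, rfl⟩, if_neg fun e => hne e.2.symm,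
      sub_zero]
  have hd' : F (D.lam b) - F (D.lam b') = 1 := by exact_mod_cast hd
  have hc := (D.lam_fixed hb).card_orbit D.loc
  have hc' := (D.lam_fixed hb'1).card_orbit D.loc
  have h := D.le_sum_sq hsum (D.loc.orbit (D.lam b)) (D.loc.orbit (D.lam b'))
    ((D.lam_fixed hb).disjoint_orbit D.loc (D.lam_fixed hb'1) (D.lam_ne hne)) (by rw [hc, hc'])
    (horb _) (horb _) (by omega)
  rwa [hc] at h

/-- On this side: `∑ |R| ^ 2 ≥ u q (m - u q)` for the remainder `R`. -/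
theorem sum_remainder (hη : Grid W₁ W₂ η) {θ : D.loc.H →* ℂˣ} (hθ : D.loc.Regular θ) (hθ1 : θ ≠ 1)
    {b : W₂ →* ℂˣ} (hb : b ≠ 1) [Fintype (W₁ →* ℂˣ)] {c : W₂ →* ℂˣ} {s : ℤ}
    (hs : s = 1 ∨ s = -1) {R : G → ℂ} (hRgen : IsGeneralizedCharacter G R)
    (heq : D.dz θ (D.lam b) = R + (s : ℂ) • ∑ a : W₁ →* ℂˣ, η a c)
    (horth : ∀ a y, classInner R (η a y) = 0) (hR : classInner R R = 1)
    (hΔR : classInner (D.dz θ (D.lam b)) R = 1) :
    ((D.loc.u * D.loc.q : ℕ) : ℝ) * ((Nat.card D.loc.H : ℝ) - (D.loc.u * D.loc.q : ℕ)) ≤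
      ∑ g ∈ D.HG, ‖R g‖ ^ 2 := by
  classical
  haveI : Fintype (D.loc.H →* ℂˣ) := Fintype.ofFinite _
  obtain ⟨F, hdiff, horb, -, hsum⟩ := D.exists_coeff hRgen
  have h1 : F θ - F (D.lam b) = 1 := by
    rw [hdiff] at hΔR
    exact_mod_cast hΔR
  have h2 : F θ⁻¹ - F (D.lam b) = 0 := by
    have h := D.inner_remainder_inv hη hθ hθ1 hb hs hRgen heq horth hR
    rw [← inner_conj, hdiff, map_intCast] at h
    exact_mod_cast h
  have hc := hθ.card_orbit D.loc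
  have hc' := (hθ.inv D.loc).card_orbit D.loc
  have hdis : Disjoint (D.loc.orbit θ) (D.loc.orbit θ⁻¹) := by
    rw [Finset.disjoint_left]
    intro φ h h'
    obtain ⟨g, rfl⟩ := D.loc.mem_orbit.mp h
    obtain ⟨k, hk⟩ := D.loc.mem_orbit.mp h'
    refine hθ.conjH_ne_inv D.loc hθ1 (k⁻¹ * g) ?_
    rw [D.loc.conjH_mul, ← hk, ← D.loc.conjH_mul, inv_mul_cancel, D.loc.conjH_one]
  have h := D.le_sum_sq hsum (D.loc.orbit θ) (D.loc.orbit θ⁻¹) hdis (by rw [hc, hc'])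
    (horb _) (horb _) (by omega)
  rwa [hc] at h

end Side

end CfsgLib.FT.PF13
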