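import Cfsg.Agent.Lib.FT.PF13.LocalSetup
import Cfsg.Agent.Lib.Chars.Induction
import Cfsg.Agent.Lib.Chars.Char
import Cfsg.Agent.Lib.Chars.Linear
import Cfsg.Agent.Lib.Coprime.Action2
import Cfsg.Agent.Lib.OddOrder.FixedPoints
import Cfsg.Agent.Lib.FT.FrobeniusFormula

/-!
# Peterfalvi, section 13: the characters induced from `H = P C_U(P)`

Linear characters of the abelian group `H`, those fixed by `W₁`, and the characters of `L` induced
from `H` and from `K = H W₁`.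
-/

set_option autoImplicit false
set_option linter.style.haveILetI false
set_option linter.unusedSectionVars false

namespace CfsgLib.FT.PF13

open _root_.Subgroup Cfsg CfsgLib.Chars
open scoped ComplexConjugate

universe u

/-- Orthogonality of linear characters. -/
theorem inner_lin {X : Type*} [Group X] [Fintype X] (f g : X →* ℂˣ) [Decidable (f = g)] :
    classInner (fun x => (f x : ℂ)) (fun x => (g x : ℂ)) = if f = g then 1 else 0 := by
  classical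
  rw [inner_irr_of_isIrr (isIrrCharacter_linear f) (isIrrCharacter_linear g)]
  exact if_congr ⟨fun h => MonoidHom.ext fun x => Units.ext (congrFun h x), fun h => by rw [h]⟩
    rfl rfl

/-- A sum of linear characters is `0` off the identity. -/
theorem sum_hom_apply {X : Type*} [CommGroup X] [Finite X] [Fintype (X →* ℂˣ)] {x : X}
    (hx : x ≠ 1) : ∑ f : X →* ℂˣ, (f x : ℂ) = 0 := by
  haveI : NeZero (Monoid.exponent X : ℂ) :=
    ⟨Nat.cast_ne_zero.mpr Monoid.exponent_ne_zero_of_finite⟩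
  obtain ⟨f₀, hf₀⟩ := CommGroup.exists_apply_ne_one_of_hasEnoughRootsOfUnity X ℂ hx
  have h : (f₀ x : ℂ) * ∑ f : X →* ℂˣ, (f x : ℂ) = ∑ f : X →* ℂˣ, (f x : ℂ) := by
    rw [Finset.mul_sum]
    exact Fintype.sum_equiv (Equiv.mulLeft f₀) _ _ fun f => by simp
  have h1 : ((f₀ x : ℂ) - 1) * ∑ f : X →* ℂˣ, (f x : ℂ) = 0 := by rw [sub_mul, h, one_mul, sub_self]
  exact (mul_eq_zero.mp h1).resolve_left (sub_ne_zero.mpr fun e => hf₀ (Units.ext e))

namespace LocalS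

variable {L : Type u} [Group L] (T : LocalS L)

/-- The conjugate `h ↦ θ (g⁻¹ h g)` of a linear character of `H`. -/
def conjH (g : L) (θ : T.H →* ℂˣ) : T.H →* ℂˣ where
  toFun h := θ ⟨g⁻¹ * h * g, by simpa using T.normal_H.conj_mem (h : L) h.2 g⁻¹⟩
  map_one' := by
    rw [← map_one θ]
    congr 1
    exact Subtype.ext (by simp)
  map_mul' a b := by
    rw [← map_mul]
    congr 1
    exact Subtype.ext (by simp [mul_assoc])

theorem conjH_apply (g : L) (θ : T.H →* ℂˣ) (h : T.H) (hm : g⁻¹ * (h : L) * g ∈ T.H) :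
    T.conjH g θ h = θ ⟨g⁻¹ * (h : L) * g, hm⟩ := rfl

theorem conjH_mul (g k : L) (θ : T.H →* ℂˣ) : T.conjH (g * k) θ = T.conjH g (T.conjH k θ) :=
  MonoidHom.ext fun h => congrArg θ (Subtype.ext (by simp [mul_assoc]))

theorem conjH_one (θ : T.H →* ℂˣ) : T.conjH 1 θ = θ :=
  MonoidHom.ext fun h => congrArg θ (Subtype.ext (by simp))

theorem conjH_inv_hom (g : L) (θ : T.H →* ℂˣ) : T.conjH g θ⁻¹ = (T.conjH g θ)⁻¹ :=
  MonoidHom.ext fun _ => rfl

theorem conjH_of_mem {g : L} (hg : g ∈ T.H) (θ : T.H →* ℂˣ) : T.conjH g θ = θ :=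
  MonoidHom.ext fun h => congrArg θ (Subtype.ext (by
    show g⁻¹ * (h : L) * g = h
    rw [mul_assoc, T.comm_H h.2 hg, inv_mul_cancel_left]))

theorem conjH_eq_of_conjH_eq {g k : L} {θ : T.H →* ℂˣ} (h : T.conjH g θ = T.conjH k θ) :
    T.conjH (k⁻¹ * g) θ = θ := by
  rw [T.conjH_mul, h, ← T.conjH_mul, inv_mul_cancel, T.conjH_one]

/-- The stabiliser is `H`. -/
def Regular (θ : T.H →* ℂˣ) : Prop := ∀ g, T.conjH g θ = θ → g ∈ T.H

/-- Fixed by `W₁` and not trivial on `P`. -/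
def Fixed (θ : T.H →* ℂˣ) : Prop :=
  (∀ x ∈ T.W₁, T.conjH x θ = θ) ∧ ∃ a, ∃ ha : a ∈ T.P, θ ⟨a, T.P_le_H ha⟩ ≠ 1

section Norm

variable [Finite L] [Fintype T.W₁]

open scoped IsMulCommutative

theorem isMulCommutative_P : IsMulCommutative T.P :=
  ⟨⟨fun a b => Subtype.ext (T.comm_P a a.2 b b.2)⟩⟩

/-- Conjugation of `P`. -/
def conjP (x : L) : T.P →* T.P where
  toFun a := ⟨x * a * x⁻¹, T.normal_P.conj_mem a a.2 x⟩
  map_one' := Subtype.ext (by simp)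
  map_mul' a b := Subtype.ext (by simp [mul_assoc])

/-- The norm `a ↦ ∏ a ^ x` from `P` to `W₂`. -/
def nm : T.P →* T.P :=
  haveI := T.isMulCommutative_P
  ∏ x : T.W₁, T.conjP x

theorem nm_mem (a : T.P) : (T.nm a : L) ∈ T.W₂ := by
  haveI := T.isMulCommutative_P
  obtain ⟨x₀, hx₀, hx1⟩ := (Subgroup.bot_or_exists_ne_one T.W₁).resolve_left fun e =>
    T.prime_q.one_lt.ne (by rw [← T.card_W₁, e, Subgroup.card_bot])
  rw [← T.fix x₀ hx₀ hx1]
  refine ⟨mem_sup_left (T.nm a).2, mem_centralizer_singleton_iff.mpr ?_⟩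
  have h : T.conjP x₀ (T.nm a) = T.nm a := by
    simp only [nm, MonoidHom.finsetProd_apply, map_prod]
    exact Fintype.prod_equiv (Equiv.mulLeft (⟨x₀, hx₀⟩ : T.W₁)) _ _ fun x => Subtype.ext (by
      simp [conjP, mul_assoc])
  have h2 : x₀ * (T.nm a : L) * x₀⁻¹ = (T.nm a : L) := congrArg Subtype.val h
  calc (T.nm a : L) * x₀ = x₀ * (T.nm a : L) * x₀⁻¹ * x₀ := by rw [h2]
    _ = x₀ * (T.nm a : L) := by group

theorem nm_of_mem_W₂ {y : L} (hy : y ∈ T.W₂) :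
    T.nm ⟨y, T.W₂_le hy⟩ = (⟨y, T.W₂_le hy⟩ : T.P) ^ T.q := by
  haveI := T.isMulCommutative_P
  simp only [nm, MonoidHom.finsetProd_apply]
  rw [Fintype.prod_congr (fun x : T.W₁ => T.conjP (x : L) ⟨y, T.W₂_le hy⟩)
    (fun _ => (⟨y, T.W₂_le hy⟩ : T.P)) fun x => Subtype.ext (by
      show (x : L) * y * (x : L)⁻¹ = y
      rw [T.commute_W₁_W₂ x.2 hy, mul_inv_cancel_right]), Finset.prod_const, Finset.card_univ, ← Nat.card_eq_fintype_card, T.card_W₁]

theorem nm_conjP {x : L} (hx : x ∈ T.W₁) (a : T.P) : T.nm (T.conjP x a) = T.nm a := by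
  haveI := T.isMulCommutative_P
  simp only [nm, MonoidHom.finsetProd_apply]
  exact Fintype.prod_equiv (Equiv.mulRight (⟨x, hx⟩ : T.W₁)) _ _ fun z => Subtype.ext (by
    simp [conjP, mul_assoc])

theorem eq_one_on_P {θ : T.H →* ℂˣ} (hW : ∀ x ∈ T.W₁, T.conjH x θ = θ)
    (h : ∀ y, ∀ hy : y ∈ T.W₂, θ ⟨y, T.P_le_H (T.W₂_le hy)⟩ = 1) (a : L) (ha : a ∈ T.P) :
    θ ⟨a, T.P_le_H ha⟩ = 1 := by
  haveI := T.isMulCommutative_P
  set ι : T.P →* ℂˣ := θ.comp (Subgroup.inclusion T.P_le_H) with hι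
  have h1 : ι (T.nm ⟨a, ha⟩) = ι ⟨a, ha⟩ ^ T.q := by
    simp only [nm, MonoidHom.finsetProd_apply, map_prod]
    rw [Fintype.prod_congr (fun x : T.W₁ => ι (T.conjP (x : L) ⟨a, ha⟩))
      (fun _ => ι ⟨a, ha⟩) fun x => ?_, Finset.prod_const, Finset.card_univ, ← Nat.card_eq_fintype_card, T.card_W₁]
    have := DFunLike.congr_fun (hW (x : L)⁻¹ (T.W₁.inv_mem x.2)) ⟨a, T.P_le_H ha⟩
    rw [T.conjH_apply _ _ _ (by simpa using T.normal_H.conj_mem a (T.P_le_H ha) (x : L))] at this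
    refine Eq.trans (congrArg θ (Subtype.ext ?_)) this
    simp [conjP, Subgroup.coe_inclusion]
  rw [show ι (T.nm ⟨a, ha⟩) = 1 from h _ (T.nm_mem _)] at h1
  have h2 : ι ⟨a, ha⟩ ^ T.p = 1 := by
    rw [← map_pow, show (⟨a, ha⟩ : T.P) ^ T.p = 1 from Subtype.ext (T.exp_P a ha), map_one]
  have := pow_gcd_eq_one.mpr ⟨h1.symm, h2⟩
  rwa [(Nat.coprime_primes T.prime_q T.prime_p).mpr T.ne.symm, pow_one] at this

end Norm

/-- A `W₁`-fixed linear character is trivial on `C`. -/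
theorem eq_one_on_C [Finite L] {θ : T.H →* ℂˣ} {x : L} (hx : x ∈ T.W₁) (hx1 : x ≠ 1)
    (hfix : ∀ z, ∀ hz : z ∈ T.C,
      θ ⟨x * z * x⁻¹, T.C_le_H (T.W₁_conj_mem_C hx hz)⟩ = θ ⟨z, T.C_le_H hz⟩)
    (z : L) (hz : z ∈ T.C) : θ ⟨z, T.C_le_H hz⟩ = 1 := by
  let f : T.C → T.C := fun w => ⟨x * w * x⁻¹ * (w : L)⁻¹,
    T.C.mul_mem (T.W₁_conj_mem_C hx w.2) (T.C.inv_mem w.2)⟩
  have hinj : Function.Injective f := by
    intro a b e
    have e' : x * a * x⁻¹ * (a : L)⁻¹ = x * b * x⁻¹ * (b : L)⁻¹ := congrArg Subtype.val e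
    refine Subtype.ext (inv_mul_eq_one.mp (T.fpf_U hx hx1 (T.C.mul_mem (T.C.inv_mem a.2) b.2).1 ?_))
    have e2 : x * b * x⁻¹ = x * a * x⁻¹ * ((a : L)⁻¹ * b) := by
      rw [← mul_assoc (x * (a : L) * x⁻¹), e', inv_mul_cancel_right]
    calc x * ((a : L)⁻¹ * b) * x⁻¹ = (x * a * x⁻¹)⁻¹ * (x * b * x⁻¹) := by group
      _ = (a : L)⁻¹ * b := by rw [e2, inv_mul_cancel_left]
  obtain ⟨w, hw⟩ := (Finite.injective_iff_surjective.mp hinj) ⟨z, hz⟩
  rw [show (⟨z, T.C_le_H hz⟩ : T.H) = ⟨x * w * x⁻¹, T.C_le_H (T.W₁_conj_mem_C hx w.2)⟩ *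
    (⟨w, T.C_le_H w.2⟩ : T.H)⁻¹ from Subtype.ext (congrArg Subtype.val hw).symm,
    map_mul, map_inv, hfix _ w.2, mul_inv_cancel]

theorem Fixed.eq_one_on_C [Finite L] {θ : T.H →* ℂˣ} (hθ : T.Fixed θ) (z : L) (hz : z ∈ T.C) :
    θ ⟨z, T.C_le_H hz⟩ = 1 := by
  obtain ⟨x, hx, hx1⟩ := (Subgroup.bot_or_exists_ne_one T.W₁).resolve_left fun e =>
    T.prime_q.one_lt.ne (by rw [← T.card_W₁, e, Subgroup.card_bot])
  refine T.eq_one_on_C hx hx1 (fun w hw => ?_) z hz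
  have := DFunLike.congr_fun (hθ.1 x⁻¹ (T.W₁.inv_mem hx)) ⟨w, T.C_le_H hw⟩
  rw [← this]
  exact congrArg θ (Subtype.ext (by simp))

/-- An element of `U` fixing a `W₁`-fixed character nontrivial on `P` centralises `P`. -/
theorem Fixed.mem_C_of_fix [Finite L] {θ : T.H →* ℂˣ} (hθ : T.Fixed θ) {v : L} (hv : v ∈ T.U)
    (h : T.conjH v θ = θ) : v ∈ T.C := by
  classical
  haveI := Fintype.ofFinite T.W₁
  haveI := T.isMulCommutative_P
  haveI := T.normal_P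
  let V : Subgroup L :=
    { carrier := {g | g ∈ T.U ∧ T.conjH g θ = θ}
      mul_mem' := fun {a b} ha hb => ⟨T.U.mul_mem ha.1 hb.1, by rw [T.conjH_mul, hb.2, ha.2]⟩
      one_mem' := ⟨T.U.one_mem, T.conjH_one θ⟩
      inv_mem' := fun {a} ha => ⟨T.U.inv_mem ha.1, by
        conv_lhs => rw [← ha.2]
        rw [← T.conjH_mul, inv_mul_cancel, T.conjH_one]⟩ }
  have hVU : V ≤ T.U := fun g hg => hg.1
  have hVn : ∀ x ∈ T.W₁, ∀ g ∈ V, x * g * x⁻¹ ∈ V := fun x hx g hg => ⟨T.W₁_norm x hx g hg.1, by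
    rw [T.conjH_mul, T.conjH_mul, hθ.1 _ (T.W₁.inv_mem hx), hg.2, hθ.1 x hx]⟩
  set M : Subgroup L := ⁅T.P, V⁆ with hM
  have hMP : M ≤ T.P := Subgroup.commutator_le_left T.P V
  have hker : ∀ a, ∀ ha : a ∈ M, θ ⟨a, T.P_le_H (hMP ha)⟩ = 1 := by
    have hle : M ≤ (θ.ker.map T.H.subtype) := by
      rw [hM, Subgroup.commutator_le]
      intro a ha g hg
      have hm : g * a⁻¹ * g⁻¹ ∈ T.H := T.P_le_H (T.normal_P.conj_mem _ (T.P.inv_mem ha) g)
      refine ⟨⟨a, T.P_le_H ha⟩ * ⟨_, hm⟩, ?_, by simp [commutatorElement_def, mul_assoc]⟩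
      have e : T.conjH g θ ⟨g * a⁻¹ * g⁻¹, hm⟩ = θ ⟨a⁻¹, T.P_le_H (T.P.inv_mem ha)⟩ :=
        congrArg θ (Subtype.ext (by simp [mul_assoc]))
      rw [hg.2] at e
      rw [SetLike.mem_coe, MonoidHom.mem_ker, map_mul, e,
        show (⟨a⁻¹, T.P_le_H (T.P.inv_mem ha)⟩ : T.H) = ⟨a, T.P_le_H ha⟩⁻¹ from rfl, map_inv,
        mul_inv_cancel]
    intro a ha
    obtain ⟨b, hb, e⟩ := hle ha
    rw [show (⟨a, T.P_le_H (hMP ha)⟩ : T.H) = b from Subtype.ext e.symm]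
    exact hb
  have hVN : V ≤ normalizer (T.P : Set L) := hVU.trans T.U_le_normalizer_P
  have hcopV : (Nat.card V).Coprime (Nat.card T.P) := by
    rw [T.card_P]
    exact ((T.prime_p.coprime_iff_not_dvd.mpr T.p_coprime).symm.coprime_dvd_left
      (Subgroup.card_dvd_of_le hVU)).pow_right _
  by_cases hM1 : M = ⊥
  · refine ⟨hv, ?_⟩
    exact Subgroup.commutator_eq_bot_iff_le_centralizer.mp (by rw [Subgroup.commutator_comm]; exact hM1)
      (show v ∈ V from ⟨hv, h⟩)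
  exfalso
  have hW₁ne : T.W₁ ≠ ⊥ := fun e => T.prime_q.one_lt.ne (by
    rw [← T.card_W₁, e, Subgroup.card_bot])
  have hMV : M ⊓ centralizer (V : Set L) = ⊥ := le_bot_iff.mp
    ((le_inf (inf_le_inf_right _ hMP) inf_le_left).trans
      (CfsgLib.Coprime.centralizer_inf_commutator_eq_bot hVN hcopV).le)
  have hW₁V : T.W₁ ≤ normalizer (V : Set L) := by
    intro x hx
    refine mem_normalizer_iff.mpr fun g => ⟨hVn x hx g, fun hg => ?_⟩
    have := hVn x⁻¹ (T.W₁.inv_mem hx) _ hg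
    simpa [mul_assoc] using this
  have hMn : V ⊔ T.W₁ ≤ normalizer (M : Set L) := sup_le
    (CfsgLib.OddOrder.le_normalizer_commutator hVN Subgroup.le_normalizer)
    (CfsgLib.OddOrder.le_normalizer_commutator (by rw [normalizer_eq_top]; exact le_top) hW₁V)
  have hcop : (Nat.card M).Coprime (Nat.card ↥(V ⊔ T.W₁)) := by
    have h1 : (Nat.card T.W₁ * Nat.card V).Coprime (Nat.card T.P) := by
      refine Nat.Coprime.mul_left ?_ hcopV
      rw [T.card_W₁, T.card_P]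
      exact ((Nat.coprime_primes T.prime_q T.prime_p).mpr T.ne.symm).pow_right _
    refine (h1.symm.coprime_dvd_left (Subgroup.card_dvd_of_le hMP)).coprime_dvd_right ?_
    rw [sup_comm]
    exact CfsgLib.Coprime.card_sup_dvd hW₁V
  have hsolv : Group.IsSolvable M := by
    haveI : IsMulCommutative M := ⟨⟨fun a b => Subtype.ext (T.comm_P a (hMP a.2) b (hMP b.2))⟩⟩
    exact Group.isSolvable_of_comm fun a b => mul_comm' a b
  have hf := CfsgLib.FT.card_centralizer_formula hW₁ne hVn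
    (fun x hx hx1 g hg e => T.fpf_U hx hx1 (hVU hg) (by rw [e, mul_inv_cancel_right]))
    M hMn hsolv hcop
  have hb : M ⊓ centralizer ((V ⊔ T.W₁ : Subgroup L) : Set L) = ⊥ := le_bot_iff.mp
    ((inf_le_inf_left M (Subgroup.centralizer_le
      (show (V : Set L) ⊆ ((V ⊔ T.W₁ : Subgroup L) : Set L) from
        SetLike.coe_subset_coe.mpr le_sup_left))).trans hMV.le)
  rw [hb, hMV, Subgroup.card_bot, one_pow, one_mul, mul_one] at hf
  have hne : M ⊓ centralizer (T.W₁ : Set L) ≠ ⊥ := by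
    intro e
    rw [e, Subgroup.card_bot, one_pow] at hf
    exact hM1 (Subgroup.eq_bot_of_card_eq M hf)
  obtain ⟨y, hy, hy1⟩ := (Subgroup.bot_or_exists_ne_one _).resolve_left hne
  obtain ⟨x, hx, hx1⟩ := (Subgroup.bot_or_exists_ne_one T.W₁).resolve_left hW₁ne
  have hy2 : y ∈ T.W₂ := by
    rw [← T.fix x hx hx1]
    exact ⟨mem_sup_left (hMP hy.1),
      mem_centralizer_singleton_iff.mpr (mem_centralizer_iff.mp hy.2 x hx).symm⟩
  haveI := Fact.mk T.prime_p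
  have hW₂M : T.W₂ ≤ M := by
    intro w hw
    have h1 : (⟨y, hy2⟩ : T.W₂) ≠ 1 := fun e => hy1 (congrArg Subtype.val e)
    obtain ⟨k, hk⟩ := Subgroup.mem_zpowers_iff.mp
      (mem_zpowers_of_prime_card (g' := (⟨w, hw⟩ : T.W₂)) T.card_W₂ h1)
    rw [← show y ^ k = w from congrArg Subtype.val hk]
    exact M.zpow_mem hy.1 k
  obtain ⟨a, ha, hane⟩ := hθ.2
  exact hane (T.eq_one_on_P hθ.1 (fun w hw => hker w (hW₂M hw)) a ha)

end LocalS

end CfsgLib.FT.PF13
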