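import Cfsg.Agent.Lib.FT.PF13.LocalOrbits

/-!
# Peterfalvi, section 13: the irreducible constituents of the fixed induced characters
-/

set_option autoImplicit false
set_option linter.style.haveILetI false
set_option linter.unusedSectionVars false

namespace CfsgLib.FT.PF13

open _root_.Subgroup Cfsg CfsgLib.Chars
open scoped ComplexConjugate

universe u

namespace LocalS

variable {L : Type u} [Group L] [Fintype L] (T : LocalS L)

/-- The character induced from a linear character of `H`. -/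
noncomputable def zeta (θ : T.H →* ℂˣ) : L → ℂ := indFun T.H fun h => (θ h : ℂ)

theorem isCharacter_zeta (θ : T.H →* ℂˣ) : IsCharacter L (T.zeta θ) :=
  isCharacter_indFun T.H (isCharacter_of_irr (isIrrCharacter_linear θ))

theorem zeta_apply (θ : T.H →* ℂˣ) (h : T.H) :
    T.zeta θ (h : L) = (Nat.card T.H : ℂ)⁻¹ * ∑ g : L, (T.conjH g θ h : ℂ) := by
  rw [zeta, indFun_apply]
  refine congrArg _ (Finset.sum_congr rfl fun g _ => ?_)
  have hm : g⁻¹ * (h : L) * g ∈ T.H := by simpa using T.normal_H.conj_mem (h : L) h.2 g⁻¹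
  rw [extendByZero_of_mem _ _ hm]
  rfl

theorem zeta_of_notMem (θ : T.H →* ℂˣ) {g : L} (hg : g ∉ T.H) : T.zeta θ g = 0 := by
  rw [zeta, indFun_apply, Finset.sum_eq_zero fun x _ => extendByZero_of_not_mem _ _ ?_, mul_zero]
  intro hm
  exact hg (by simpa [mul_assoc] using T.normal_H.conj_mem _ hm x)

theorem zeta_one (θ : T.H →* ℂˣ) : T.zeta θ 1 = (T.u * T.q : ℕ) := by
  rw [zeta, indFun_one_apply, map_one, Units.val_one, mul_one]
  congr 1
  have h := T.H.index_mul_card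
  rw [T.card_L', mul_assoc, mul_comm (Nat.card T.H)] at h
  exact Nat.eq_of_mul_eq_mul_right Nat.card_pos h

theorem inner_restrict_zeta [Fintype T.H] (φ θ : T.H →* ℂˣ)
    [DecidablePred fun g => T.conjH g θ = φ] :
    classInner (fun h => (φ h : ℂ)) (fun h : T.H => T.zeta θ h) =
      (Nat.card T.H : ℂ)⁻¹ * (Finset.univ.filter fun g => T.conjH g θ = φ).card := by
  classical
  have e : (fun h : T.H => T.zeta θ h) =
      (Nat.card T.H : ℂ)⁻¹ • ∑ g : L, fun h => (T.conjH g θ h : ℂ) := by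
    funext h
    rw [Pi.smul_apply, Finset.sum_apply, smul_eq_mul, T.zeta_apply]
  rw [e, Chars.inner_smul_right, inner_sum_right, map_inv₀, Complex.conj_natCast]
  simp only [inner_lin, eq_comm (a := φ), Finset.sum_boole]

theorem inner_zeta [Fintype T.H] (φ θ : T.H →* ℂˣ) [DecidablePred fun g => T.conjH g θ = φ] :
    classInner (T.zeta φ) (T.zeta θ) =
      (Nat.card T.H : ℂ)⁻¹ * (Finset.univ.filter fun g => T.conjH g θ = φ).card := by
  rw [← T.inner_restrict_zeta φ θ]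
  exact inner_indFun T.H _ (isClassFunction_of_isCharacter (T.isCharacter_zeta θ))

theorem inner_zeta_of_not_conj (φ θ : T.H →* ℂˣ) (h : ∀ g, T.conjH g θ ≠ φ) :
    classInner (T.zeta φ) (T.zeta θ) = 0 := by
  classical
  haveI := Fintype.ofFinite T.H
  rw [T.inner_zeta, Finset.filter_false_of_mem fun g _ => h g]
  simp

theorem inner_zeta_regular {θ : T.H →* ℂˣ} (hθ : T.Regular θ) :
    classInner (T.zeta θ) (T.zeta θ) = 1 := by
  classical
  haveI := Fintype.ofFinite T.H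
  rw [T.inner_zeta, show (Finset.univ.filter fun g => T.conjH g θ = θ).card = Nat.card T.H from ?_,
    inv_mul_cancel₀ (Nat.cast_ne_zero.mpr Nat.card_pos.ne')]
  rw [Nat.card_eq_fintype_card]
  exact (Fintype.card_of_subtype _ fun g => by
    simp only [Finset.mem_filter, Finset.mem_univ, true_and]
    exact ⟨hθ g, fun hg => T.conjH_of_mem hg θ⟩).symm

/-- The extension of a fixed character to `K` through a character of `W₁`. -/
theorem exists_ext (a : T.W₁ →* ℂˣ) {θ : T.H →* ℂˣ} (hθ : ∀ x ∈ T.W₁, T.conjH x θ = θ) :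
    ∃ e : T.K →* ℂˣ, ∀ h, ∀ hh : h ∈ T.H, ∀ x, ∀ hx : x ∈ T.W₁, ∀ hk : h * x ∈ T.K,
      e ⟨h * x, hk⟩ = θ ⟨h, hh⟩ * a ⟨x, hx⟩ :=
  exists_hom_sup (A := T.H) (B := T.W₁) T.normalizer_H_W₁ T.disj_H_W₁ θ a fun x hx h hh hm => by
    have := DFunLike.congr_fun (hθ x hx) ⟨x * h * x⁻¹, hm⟩
    rw [← this]
    exact congrArg θ (Subtype.ext (by simp [mul_assoc]))

open Classical in
/-- The constituent of `zeta θ` over `a`, for a fixed character `θ`. -/
noncomputable def nu (a : T.W₁ →* ℂˣ) (θ : T.H →* ℂˣ) : L → ℂ :=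
  if hθ : ∀ x ∈ T.W₁, T.conjH x θ = θ then indFun T.K fun k => ((T.exists_ext a hθ).choose k : ℂ)
  else 0

variable {θ : T.H →* ℂˣ} (hθ : T.Fixed θ) (a : T.W₁ →* ℂˣ)

include hθ

theorem isCharacter_nu : IsCharacter L (T.nu a θ) := by
  rw [nu, dif_pos hθ.1]
  exact isCharacter_indFun T.K (isCharacter_of_irr (isIrrCharacter_linear _))

theorem nu_apply_K {h x : L} (hh : h ∈ T.H) (hx : x ∈ T.W₁) (hx1 : x ≠ 1) :
    T.nu a θ (h * x) = (θ ⟨h, hh⟩ : ℂ) * (a ⟨x, hx⟩ : ℂ) := by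
  classical
  haveI : Fintype T.K := Fintype.ofFinite _
  rw [nu, dif_pos hθ.1, indFun_apply]
  set e := (T.exists_ext a hθ.1).choose
  have hk : h * x ∈ T.K := T.mem_K_iff.mpr ⟨h, hh, x, hx, rfl⟩
  have hkH : h * x ∉ T.H := fun hm => hx1 (T.disj_W₂_W₁ hx (T.H_le_D (by
    have := T.H.mul_mem (T.H.inv_mem hh) hm
    rwa [inv_mul_cancel_left] at this)))
  have hterm : ∀ g : L, extendByZero T.K (fun k => (e k : ℂ)) (g⁻¹ * (h * x) * g) =
      if g ∈ T.K then (e ⟨h * x, hk⟩ : ℂ) else 0 := by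
    intro g
    by_cases hg : g ∈ T.K
    · have hm : g⁻¹ * (h * x) * g ∈ T.K := T.K.mul_mem (T.K.mul_mem (T.K.inv_mem hg) hk) hg
      rw [if_pos hg, extendByZero_of_mem _ _ hm, show (⟨g⁻¹ * (h * x) * g, hm⟩ : T.K) =
        (⟨g, hg⟩ : T.K)⁻¹ * ⟨h * x, hk⟩ * ⟨g, hg⟩ from rfl, map_mul, map_mul, map_inv,
        inv_mul_cancel_comm]
    · rw [if_neg hg, extendByZero_of_not_mem]
      intro hm
      exact hg (by simpa using T.K.inv_mem (T.mem_K_of_conj (g := g⁻¹) hk hkH (by simpa using hm)))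
  rw [Finset.sum_congr rfl fun g _ => hterm g, Finset.sum_ite, Finset.sum_const, Finset.sum_const_zero,
    add_zero, nsmul_eq_mul, show (Finset.univ.filter fun g => g ∈ T.K).card = Nat.card T.K by
      rw [Nat.card_eq_fintype_card, Fintype.card_subtype],
    inv_mul_cancel_left₀ (Nat.cast_ne_zero.mpr Nat.card_pos.ne'),
    (T.exists_ext a hθ.1).choose_spec h hh x hx hk, Units.val_mul]

theorem nu_apply_H (h : T.H) : T.nu a θ (h : L) = (T.q : ℂ)⁻¹ * T.zeta θ (h : L) := by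
  classical
  rw [nu, dif_pos hθ.1, indFun_apply, T.zeta_apply, T.card_K, Nat.cast_mul, mul_inv, mul_assoc,
    mul_left_comm]
  refine congrArg _ (congrArg _ (Finset.sum_congr rfl fun g _ => ?_))
  have hm : g⁻¹ * (h : L) * g ∈ T.H := by simpa using T.normal_H.conj_mem (h : L) h.2 g⁻¹
  have hk : g⁻¹ * (h : L) * g * 1 ∈ T.K := by rw [mul_one]; exact mem_sup_left hm
  rw [extendByZero_of_mem _ _ (show g⁻¹ * (h : L) * g ∈ T.K from mem_sup_left hm),
    show (⟨g⁻¹ * (h : L) * g, mem_sup_left hm⟩ : T.K) = ⟨g⁻¹ * (h : L) * g * 1, hk⟩ from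
      Subtype.ext (mul_one _).symm, (T.exists_ext a hθ.1).choose_spec _ hm 1 T.W₁.one_mem hk,
    show a ⟨1, T.W₁.one_mem⟩ = 1 from map_one a, mul_one]
  rfl

theorem nu_apply_D {g : L} (hg : g ∈ T.P ⊔ T.U) (hgH : g ∉ T.H) : T.nu a θ g = 0 := by
  classical
  rw [nu, dif_pos hθ.1, indFun_apply,
    Finset.sum_eq_zero fun x _ => extendByZero_of_not_mem _ _ ?_, mul_zero]
  intro hm
  have hd : x⁻¹ * g * x ∈ T.P ⊔ T.U := by simpa using T.normal_D.conj_mem g hg x⁻¹
  have hH : x⁻¹ * g * x ∈ T.H := T.K_inf_D ▸ ⟨hm, hd⟩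
  exact hgH (by simpa [mul_assoc] using T.normal_H.conj_mem _ hH x)

theorem nu_regular {x y : L} (hx : x ∈ T.W₁) (hx1 : x ≠ 1) (hy : y ∈ T.W₂) :
    T.nu a θ (x * y) = (a ⟨x, hx⟩ : ℂ) * (θ ⟨y, T.P_le_H (T.W₂_le hy)⟩ : ℂ) := by
  rw [T.commute_W₁_W₂ hx hy, T.nu_apply_K hθ a (T.P_le_H (T.W₂_le hy)) hx hx1, mul_comm]

theorem inner_nu {θ' : T.H →* ℂˣ} (hθ' : T.Fixed θ') (a' : T.W₁ →* ℂˣ)
    [Decidable (θ = θ')] [Decidable (a = a')] :
    classInner (T.nu a θ) (T.nu a' θ') = if θ = θ' ∧ a = a' then 1 else 0 := by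
  classical
  haveI : Fintype T.H := Fintype.ofFinite _
  haveI : Fintype T.K := Fintype.ofFinite _
  haveI : Fintype T.W₁ := Fintype.ofFinite _
  set e := (T.exists_ext a hθ.1).choose with he
  have h0 : classInner (T.nu a θ) (T.nu a' θ') =
      classInner (fun k => (e k : ℂ)) (fun k : T.K => T.nu a' θ' k) := by
    conv_lhs => rw [nu, dif_pos hθ.1, ← he]
    exact inner_indFun T.K _ (isClassFunction_of_isCharacter (T.isCharacter_nu hθ' a'))
  rw [h0, Chars.inner_def]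
  let f : T.H × T.W₁ → T.K := fun z => ⟨z.1 * z.2, T.mem_K_iff.mpr ⟨_, z.1.2, _, z.2.2, rfl⟩⟩
  have hf : Function.Bijective f := by
    refine ⟨fun z w h => ?_, fun k => ?_⟩
    · have e' : (z.1 : L) * z.2 = w.1 * w.2 := congrArg Subtype.val h
      have h2 : (w.1 : L)⁻¹ * z.1 = w.2 * (z.2 : L)⁻¹ := by
        rw [inv_mul_eq_iff_eq_mul, ← mul_assoc, ← e', mul_inv_cancel_right]
      have h3 : (w.1 : L)⁻¹ * z.1 ∈ T.H ⊓ T.W₁ := ⟨T.H.mul_mem (T.H.inv_mem w.1.2) z.1.2,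
        h2 ▸ T.W₁.mul_mem w.2.2 (T.W₁.inv_mem z.2.2)⟩
      rw [T.disj_H_W₁, mem_bot, inv_mul_eq_one] at h3
      refine Prod.ext (Subtype.ext h3.symm) (Subtype.ext ?_)
      rw [h3] at e'
      exact mul_left_cancel e'
    · obtain ⟨h, hh, x, hx, e'⟩ := T.mem_K_iff.mp k.2
      exact ⟨(⟨h, hh⟩, ⟨x, hx⟩), Subtype.ext e'⟩
  rw [← Fintype.sum_bijective f hf _ _ fun _ => rfl, Fintype.sum_prod_type, Finset.sum_comm,
    ← Finset.add_sum_erase _ _ (Finset.mem_univ (1 : T.W₁))]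
  have hδ : ((Finset.univ.filter (fun g : L => T.conjH g θ' = θ)).card : ℂ) =
      if θ = θ' then (Nat.card T.K : ℂ) else 0 := by
    split_ifs with h
    · subst h
      rw [Nat.card_eq_fintype_card,
        Fintype.card_of_subtype (Finset.univ.filter fun g : L => T.conjH g θ = θ) fun g => by
          simp only [Finset.mem_filter, Finset.mem_univ, true_and]
          exact hθ.conjH_eq_iff T g]
    · rw [Finset.filter_false_of_mem fun g _ hg => h (hθ'.eq_of_conj T hθ.1 hg).2]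
      simp
  have h1 : ∑ h : T.H, (e (f (h, 1)) : ℂ) * conj (T.nu a' θ' (f (h, 1) : L)) =
      if θ = θ' then (Nat.card T.H : ℂ) else 0 := by
    have hz := T.inner_restrict_zeta θ θ'
    rw [hδ, Chars.inner_def] at hz
    rw [Finset.sum_congr rfl fun h _ => show (e (f (h, 1)) : ℂ) * conj (T.nu a' θ' (f (h, 1) : L)) =
      (T.q : ℂ)⁻¹ * ((θ h : ℂ) * conj (T.zeta θ' (h : L))) from ?_, ← Finset.mul_sum]
    · have hz' : ∑ h : T.H, (θ h : ℂ) * conj (T.zeta θ' (h : L)) =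
          if θ = θ' then (Nat.card T.K : ℂ) else 0 :=
        mul_left_cancel₀ (inv_ne_zero (Nat.cast_ne_zero.mpr Nat.card_pos.ne')) hz
      rw [hz', T.card_K, Nat.cast_mul]
      split_ifs
      · rw [mul_comm, mul_assoc, mul_inv_cancel₀ (Nat.cast_ne_zero.mpr T.prime_q.pos.ne'), mul_one]
      · rw [mul_zero]
    · have hfh : ((f (h, 1) : T.K) : L) = h := mul_one _
      rw [hfh, T.nu_apply_H hθ' a', map_mul, map_inv₀, Complex.conj_natCast,
        show (e (f (h, 1)) : ℂ) = θ h by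
          refine congrArg Units.val
            (((T.exists_ext a hθ.1).choose_spec h h.2 1 T.W₁.one_mem (f (h, 1)).2).trans ?_)
          rw [show a ⟨1, T.W₁.one_mem⟩ = 1 from map_one a, mul_one]]
      ring
  have h2 : ∀ x : T.W₁, x ≠ 1 → ∑ h : T.H, (e (f (h, x)) : ℂ) * conj (T.nu a' θ' (f (h, x) : L)) =
      (a x : ℂ) * conj (a' x : ℂ) * if θ = θ' then (Nat.card T.H : ℂ) else 0 := by
    intro x hx
    have hin := inner_lin θ θ'
    rw [Chars.inner_def, inv_mul_eq_iff_eq_mul₀ (Nat.cast_ne_zero.mpr Nat.card_pos.ne'), mul_ite,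
      mul_one, mul_zero] at hin
    rw [← hin, Finset.mul_sum]
    refine Finset.sum_congr rfl fun h _ => ?_
    rw [show (e (f (h, x)) : ℂ) = ((θ h * a x : ℂˣ) : ℂ) from
        congrArg Units.val ((T.exists_ext a hθ.1).choose_spec h h.2 x x.2 (f (h, x)).2),
      show ((f (h, x) : T.K) : L) = h * x from rfl,
      T.nu_apply_K hθ' a' h.2 x.2 fun e' => hx (Subtype.ext e'), Units.val_mul, map_mul]
    ring
  rw [h1, Finset.sum_congr rfl fun x hx => h2 x (Finset.ne_of_mem_erase hx)]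
  by_cases hθθ : θ = θ'
  · subst hθθ
    simp only [if_true, true_and, ← Finset.sum_mul]
    have hin := inner_lin a a'
    rw [Chars.inner_def, inv_mul_eq_iff_eq_mul₀ (Nat.cast_ne_zero.mpr Nat.card_pos.ne'),
      ← Finset.add_sum_erase _ _ (Finset.mem_univ (1 : T.W₁)), map_one a, map_one a', Units.val_one,
      map_one, one_mul, T.card_W₁] at hin
    set S := ∑ x ∈ Finset.univ.erase (1 : T.W₁), (a x : ℂ) * conj (a' x : ℂ)
    rw [show (Nat.card T.H : ℂ) + S * Nat.card T.H = (1 + S) * Nat.card T.H by ring, hin, T.card_K,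
      Nat.cast_mul]
    have hH : (Nat.card T.H : ℂ) ≠ 0 := Nat.cast_ne_zero.mpr Nat.card_pos.ne'
    have hq : (T.q : ℂ) ≠ 0 := Nat.cast_ne_zero.mpr T.prime_q.pos.ne'
    field_simp
  · simp [hθθ]

theorem inner_zeta_nu {φ : T.H →* ℂˣ} (h : ∀ g, T.conjH g θ ≠ φ) :
    classInner (T.zeta φ) (T.nu a θ) = 0 := by
  classical
  haveI : Fintype T.H := Fintype.ofFinite _
  have e : classInner (T.zeta φ) (T.nu a θ) =
      classInner (fun k => (φ k : ℂ)) (fun k : T.H => T.nu a θ k) :=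
    inner_indFun T.H _ (isClassFunction_of_isCharacter (T.isCharacter_nu hθ a))
  rw [e, show (fun k : T.H => T.nu a θ k) = (T.q : ℂ)⁻¹ • fun k : T.H => T.zeta θ k from
    funext fun k => T.nu_apply_H hθ a k, Chars.inner_smul_right, T.inner_restrict_zeta φ θ,
    Finset.filter_false_of_mem fun g _ => h g]
  simp

theorem sum_nu [Fintype (T.W₁ →* ℂˣ)] : ∑ b : T.W₁ →* ℂˣ, T.nu b θ = T.zeta θ := by
  haveI : IsMulCommutative T.W₁ := by
    haveI := Fact.mk T.prime_q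
    haveI := isCyclic_of_prime_card T.card_W₁
    exact ⟨⟨fun a b => mul_comm' a b⟩⟩
  funext g
  rw [Finset.sum_apply]
  by_cases hgD : g ∈ T.P ⊔ T.U
  · by_cases hgH : g ∈ T.H
    · rw [Finset.sum_congr rfl fun b _ => T.nu_apply_H hθ b ⟨g, hgH⟩, Finset.sum_const,
        Finset.card_univ, nsmul_eq_mul]
      open scoped IsMulCommutative in
      rw [← Nat.card_eq_fintype_card, card_monoidHom_units,
        (commutator_eq_bot_iff_center_eq_top _).mpr CommGroup.center_eq_top, Subgroup.index_bot,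
        T.card_W₁, mul_inv_cancel_left₀ (Nat.cast_ne_zero.mpr T.prime_q.pos.ne')]
    · rw [T.zeta_of_notMem θ hgH, Finset.sum_eq_zero fun b _ => T.nu_apply_D hθ b hgD hgH]
  · obtain ⟨k, x, hx, hx1, y, hy, e⟩ := T.conj_regular hgD
    have hc : ∀ f : L → ℂ, IsClassFunction L f → f g = f (x * y) := fun f hf => by
      rw [← e, hf g k]
    rw [hc _ (isClassFunction_of_isCharacter (T.isCharacter_zeta θ)),
      T.zeta_of_notMem θ (g := x * y) fun hm => hx1 (T.disj_W₂_W₁ hx (by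
        have := (T.P ⊔ T.U).mul_mem (T.H_le_D hm)
          ((T.P ⊔ T.U).inv_mem (mem_sup_left (T.W₂_le hy)))
        rwa [mul_inv_cancel_right] at this)),
      Finset.sum_congr rfl fun b _ => (hc _ (isClassFunction_of_isCharacter
        (T.isCharacter_nu hθ b))).trans (T.nu_regular hθ b hx hx1 hy),
      ← Finset.sum_mul]
    open scoped IsMulCommutative in
    rw [sum_hom_apply (X := T.W₁) (x := ⟨x, hx⟩) (fun e' => hx1 (congrArg Subtype.val e')), zero_mul]

omit hθ in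
/-- For fixed `θ, θ'` with the same `a` the difference is supported on `H ∪ W₁ W₂`. -/
theorem nu_sub_support {θ θ' : T.H →* ℂˣ} (hθ : T.Fixed θ) (hθ' : T.Fixed θ') (a : T.W₁ →* ℂˣ)
    {g : L} (hg : T.nu a θ g - T.nu a θ' g ≠ 0) :
    (g ∈ T.H ∧ g ≠ 1) ∨
      ∃ k : L, ∃ x ∈ T.W₁, x ≠ 1 ∧ ∃ y ∈ T.W₂, y ≠ 1 ∧ k * g * k⁻¹ = x * y := by
  have hc : ∀ {φ : T.H →* ℂˣ}, T.Fixed φ → IsClassFunction L (T.nu a φ) := fun hφ =>
    isClassFunction_of_isCharacter (T.isCharacter_nu hφ a)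
  by_cases hgD : g ∈ T.P ⊔ T.U
  · by_cases hgH : g ∈ T.H
    · refine Or.inl ⟨hgH, ?_⟩
      rintro rfl
      apply hg
      have h1 := T.nu_apply_H hθ a 1
      have h2 := T.nu_apply_H hθ' a 1
      rw [OneMemClass.coe_one] at h1 h2
      rw [h1, h2, T.zeta_one, T.zeta_one, sub_self]
    · exact absurd (by rw [T.nu_apply_D hθ a hgD hgH, T.nu_apply_D hθ' a hgD hgH, sub_self]) hg
  · obtain ⟨k, x, hx, hx1, y, hy, e⟩ := T.conj_regular hgD
    refine Or.inr ⟨k, x, hx, hx1, y, hy, ?_, e⟩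
    rintro rfl
    apply hg
    rw [← hc hθ g k, ← hc hθ' g k, e, T.nu_regular hθ a hx hx1 hy, T.nu_regular hθ' a hx hx1 hy,
      show (⟨1, T.P_le_H (T.W₂_le hy)⟩ : T.H) = 1 from rfl, map_one, map_one, sub_self]

omit hθ in
/-- `zeta φ - zeta θ` is supported on `H` without the identity. -/
theorem zeta_sub_support (φ θ : T.H →* ℂˣ) {g : L} (hg : T.zeta φ g - T.zeta θ g ≠ 0) :
    g ∈ T.H ∧ g ≠ 1 := by
  refine ⟨?_, ?_⟩
  · by_contra h
    exact hg (by rw [T.zeta_of_notMem φ h, T.zeta_of_notMem θ h, sub_self])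
  · rintro rfl
    exact hg (by rw [T.zeta_one, T.zeta_one, sub_self])

end LocalS

end CfsgLib.FT.PF13
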