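import Cfsg.Agent.Lib.FT.PF13.LocalChars

/-!
# Peterfalvi, section 13: existence and orbits of the characters of `H`
-/

set_option autoImplicit false
set_option linter.style.haveILetI false
set_option linter.unusedSectionVars false

namespace CfsgLib.FT.PF13

open _root_.Subgroup Cfsg CfsgLib.Chars

universe u

namespace LocalS

variable {L : Type u} [Group L] [Finite L] (T : LocalS L)

theorem exists_W₁_ne_one : ∃ x ∈ T.W₁, x ≠ 1 :=
  (Subgroup.bot_or_exists_ne_one T.W₁).resolve_left fun e =>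
    T.prime_q.one_lt.ne (by rw [← T.card_W₁, e, Subgroup.card_bot])

/-- A `W₁`-fixed character of `H` extending a given character of `W₂`. -/
theorem exists_fixed (b : T.W₂ →* ℂˣ) :
    ∃ θ : T.H →* ℂˣ, (∀ x ∈ T.W₁, T.conjH x θ = θ) ∧
      ∀ y, ∀ hy : y ∈ T.W₂, θ ⟨y, T.P_le_H (T.W₂_le hy)⟩ = b ⟨y, hy⟩ := by
  classical
  haveI := Fintype.ofFinite T.W₁
  haveI := T.isMulCommutative_P
  have hcop : T.q.Coprime T.p := (Nat.coprime_primes T.prime_q T.prime_p).mpr T.ne.symm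
  obtain ⟨k, -, hk⟩ := Nat.exists_mul_mod_eq_one_of_coprime hcop T.prime_p.one_lt
  let lam : T.P →* ℂˣ := MonoidHom.mk' (fun a => b ⟨T.nm a, T.nm_mem a⟩ ^ k) fun a c => by
    rw [← mul_pow, ← map_mul]
    congr 2
    exact Subtype.ext (by simp)
  obtain ⟨θ, hθ⟩ := exists_hom_sup (A := T.P) (B := T.C) T.C_le_normalizer_P T.disj_C lam 1
    (fun z hz a ha hm => by
      congr 1
      exact Subtype.ext (by
        show z * a * z⁻¹ = a
        rw [T.C_comm_P hz ha, mul_inv_cancel_right]))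
  refine ⟨θ, fun x hx => MonoidHom.ext fun h => ?_, fun y hy => ?_⟩
  · obtain ⟨a, ha, z, hz, e⟩ := T.mem_H_iff.mp h.2
    have hx' := T.W₁.inv_mem hx
    have hz' : x⁻¹ * z * x ∈ T.C := by simpa using T.W₁_conj_mem_C hx' hz
    have ha' : x⁻¹ * a * x ∈ T.P := by simpa using T.normal_P.conj_mem a ha x⁻¹
    have e2 : x⁻¹ * a * x * (x⁻¹ * z * x) = x⁻¹ * (h : L) * x := by rw [← e]; group
    have hh : x⁻¹ * (h : L) * x ∈ T.H := e2 ▸ mul_mem (T.P_le_H ha') (T.C_le_H hz')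
    rw [T.conjH_apply x θ h hh,
      show (⟨x⁻¹ * (h : L) * x, hh⟩ : T.H) = ⟨_, mul_mem (T.P_le_H ha') (T.C_le_H hz')⟩ from
        Subtype.ext e2.symm,
      show h = (⟨a * z, mul_mem (T.P_le_H ha) (T.C_le_H hz)⟩ : T.H) from Subtype.ext e.symm]
    refine (hθ _ ha' _ hz' _).trans (Eq.trans ?_ (hθ _ ha _ hz _).symm)
    show lam ⟨_, ha'⟩ * 1 = lam ⟨a, ha⟩ * 1
    congr 1
    show b ⟨T.nm ⟨_, ha'⟩, _⟩ ^ k = b ⟨T.nm ⟨a, ha⟩, _⟩ ^ k
    congr 2
    refine Subtype.ext (congrArg (fun v : T.P => (v : L)) ?_)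
    rw [← T.nm_conjP hx' ⟨a, ha⟩]
    exact congrArg T.nm (Subtype.ext (by simp [conjP]))
  · rw [show (⟨y, T.P_le_H (T.W₂_le hy)⟩ : T.H) =
      ⟨y * 1, mul_mem (T.P_le_H (T.W₂_le hy)) T.H.one_mem⟩ from Subtype.ext (mul_one y).symm]
    refine (hθ y (T.W₂_le hy) 1 T.C.one_mem _).trans ?_
    show lam ⟨y, _⟩ * 1 = _
    rw [mul_one]
    show b ⟨T.nm ⟨y, T.W₂_le hy⟩, _⟩ ^ k = _
    have hb : (⟨T.nm ⟨y, T.W₂_le hy⟩, T.nm_mem _⟩ : T.W₂) = (⟨y, hy⟩ : T.W₂) ^ T.q :=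
      Subtype.ext (by simp [T.nm_of_mem_W₂ hy])
    have hp : (b ⟨y, hy⟩) ^ T.p = 1 := by
      rw [← map_pow, show (⟨y, hy⟩ : T.W₂) ^ T.p = 1 from by rw [← T.card_W₂]; exact pow_card_eq_one',
        map_one]
    rw [hb, map_pow, ← pow_mul, ← Nat.mod_add_div (T.q * k) T.p, hk, pow_add, pow_one, pow_mul, hp,
      one_pow, mul_one]

/-- The chosen fixed character over `b`. -/
noncomputable def lamB (b : T.W₂ →* ℂˣ) : T.H →* ℂˣ := (T.exists_fixed b).choose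

theorem lamB_W₁ (b : T.W₂ →* ℂˣ) : ∀ x ∈ T.W₁, T.conjH x (T.lamB b) = T.lamB b :=
  (T.exists_fixed b).choose_spec.1

theorem lamB_W₂ (b : T.W₂ →* ℂˣ) {y : L} (hy : y ∈ T.W₂) :
    T.lamB b ⟨y, T.P_le_H (T.W₂_le hy)⟩ = b ⟨y, hy⟩ := (T.exists_fixed b).choose_spec.2 y hy

theorem lamB_inj {b b' : T.W₂ →* ℂˣ} (h : T.lamB b = T.lamB b') : b = b' :=
  MonoidHom.ext fun y => by rw [← T.lamB_W₂ b y.2, h, T.lamB_W₂ b' y.2]

theorem lamB_fixed {b : T.W₂ →* ℂˣ} (hb : b ≠ 1) : T.Fixed (T.lamB b) := by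
  refine ⟨T.lamB_W₁ b, ?_⟩
  by_contra hc
  refine hb (MonoidHom.ext fun y => ?_)
  rw [← T.lamB_W₂ b y.2]
  by_contra hne
  exact hc ⟨y, T.W₂_le y.2, hne⟩

/-- `K` fixes a `W₁`-fixed character, and nothing else does. -/
theorem Fixed.conjH_eq_iff {θ : T.H →* ℂˣ} (hθ : T.Fixed θ) (g : L) :
    T.conjH g θ = θ ↔ g ∈ T.K := by
  constructor
  · intro hg
    obtain ⟨v, hv, k, hk, rfl⟩ := T.exists_mul_K g
    obtain ⟨h, hh, x, hx, rfl⟩ := T.mem_K_iff.mp hk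
    rw [T.conjH_mul, T.conjH_mul, hθ.1 x hx, T.conjH_of_mem hh] at hg
    exact T.K.mul_mem (mem_sup_left (T.C_le_H (hθ.mem_C_of_fix T hv hg))) hk
  · intro hg
    obtain ⟨h, hh, x, hx, rfl⟩ := T.mem_K_iff.mp hg
    rw [T.conjH_mul, hθ.1 x hx, T.conjH_of_mem hh]

/-- Conjugate fixed characters are equal. -/
theorem Fixed.eq_of_conj {θ θ' : T.H →* ℂˣ} (hθ : T.Fixed θ)
    (hθ' : ∀ x ∈ T.W₁, T.conjH x θ' = θ') {g : L} (hg : T.conjH g θ = θ') : g ∈ T.K ∧ θ' = θ := by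
  obtain ⟨v, hv, k, hk, rfl⟩ := T.exists_mul_K g
  rw [T.conjH_mul, (hθ.conjH_eq_iff T k).mpr hk] at hg
  obtain ⟨x, hx, hx1⟩ := T.exists_W₁_ne_one
  have h1 : T.conjH (v⁻¹ * (x * v * x⁻¹)) θ = θ := by
    rw [T.conjH_mul, show x * v * x⁻¹ = x * (v * x⁻¹) by group, T.conjH_mul, T.conjH_mul,
      hθ.1 _ (T.W₁.inv_mem hx), hg, hθ' x hx, ← hg, ← T.conjH_mul, inv_mul_cancel, T.conjH_one]
  have h2 := hθ.mem_C_of_fix T (T.U.mul_mem (T.U.inv_mem hv) (T.W₁_norm x hx v hv)) h1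
  have hvC : v ∈ T.C := by
    refine T.fpf_quot hx hx1 hv ?_
    rwa [T.comm_U v⁻¹ (T.U.inv_mem hv) _ (T.W₁_norm x hx v hv)] at h2
  refine ⟨T.K.mul_mem (mem_sup_left (T.C_le_H hvC)) hk, ?_⟩
  rw [← hg, T.conjH_of_mem (T.C_le_H hvC)]

/-- A regular character when `C_U(P) ≠ 1`. -/
theorem exists_regular (hC : T.C ≠ ⊥) :
    ∃ θ : T.H →* ℂˣ, T.Regular θ ∧ θ ≠ 1 := by
  classical
  haveI : IsMulCommutative T.C := ⟨⟨fun a b => Subtype.ext (T.comm_U a a.2.1 b b.2.1)⟩⟩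
  haveI : IsMulCommutative T.W₂ :=
    ⟨⟨fun a b => Subtype.ext (T.comm_P a (T.W₂_le a.2) b (T.W₂_le b.2))⟩⟩
  have hcC : _root_.commutator T.C ≠ ⊤ := by
    open scoped IsMulCommutative in
    rw [(commutator_eq_bot_iff_center_eq_top _).mpr (CommGroup.center_eq_top)]
    intro e
    haveI : Nontrivial T.C := (Subgroup.nontrivial_iff_ne_bot _).mpr hC
    exact bot_ne_top e
  have hcW : _root_.commutator T.W₂ ≠ ⊤ := by
    open scoped IsMulCommutative in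
    rw [(commutator_eq_bot_iff_center_eq_top _).mpr (CommGroup.center_eq_top)]
    intro e
    haveI : Nontrivial T.W₂ := (Subgroup.nontrivial_iff_ne_bot _).mpr fun e' =>
      T.prime_p.one_lt.ne (by rw [← T.card_W₂, e', Subgroup.card_bot])
    exact bot_ne_top e
  obtain ⟨γ, hγ⟩ := exists_nontrivial_hom hcC
  obtain ⟨b, hb⟩ := exists_nontrivial_hom hcW
  have hlam := T.lamB_fixed hb
  obtain ⟨θ, hθ⟩ : ∃ θ : T.H →* ℂˣ, ∀ a (ha : a ∈ T.P) z (hz : z ∈ T.C) (h : a * z ∈ T.H),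
      θ ⟨a * z, h⟩ = (T.lamB b).comp (Subgroup.inclusion T.P_le_H) ⟨a, ha⟩ * γ ⟨z, hz⟩ :=
    exists_hom_sup (A := T.P) (B := T.C) T.C_le_normalizer_P T.disj_C
    ((T.lamB b).comp (Subgroup.inclusion T.P_le_H)) γ (fun z hz a ha hm => by
      congr 1
      exact Subtype.ext (by
        show z * a * z⁻¹ = a
        rw [T.C_comm_P hz ha, mul_inv_cancel_right]))
  have hP : ∀ a, ∀ ha : a ∈ T.P, θ ⟨a, T.P_le_H ha⟩ = T.lamB b ⟨a, T.P_le_H ha⟩ := by
    intro a ha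
    refine (congrArg θ (Subtype.ext (mul_one a).symm : (⟨a, T.P_le_H ha⟩ : T.H) =
      ⟨a * 1, mul_mem (T.P_le_H ha) T.H.one_mem⟩)).trans ((hθ a ha 1 T.C.one_mem _).trans ?_)
    rw [show γ ⟨1, T.C.one_mem⟩ = 1 from map_one γ, mul_one]
    rfl
  have hCv : ∀ z, ∀ hz : z ∈ T.C, θ ⟨z, T.C_le_H hz⟩ = γ ⟨z, hz⟩ := by
    intro z hz
    refine (congrArg θ (Subtype.ext (one_mul z).symm : (⟨z, T.C_le_H hz⟩ : T.H) =
      ⟨1 * z, mul_mem T.H.one_mem (T.C_le_H hz)⟩)).trans ((hθ 1 T.P.one_mem z hz _).trans ?_)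
    rw [show ((T.lamB b).comp (Subgroup.inclusion T.P_le_H)) ⟨1, T.P.one_mem⟩ = 1 from map_one _,
      one_mul]
  refine ⟨θ, fun g hg => ?_, fun e => hγ (MonoidHom.ext fun z => ?_)⟩
  · by_cases hD : g ∈ T.P ⊔ T.U
    · obtain ⟨a, ha, v, hv, rfl⟩ := T.mem_D_iff.mp hD
      rw [T.conjH_mul] at hg
      have h1 : T.conjH v θ = θ := by
        have h' := T.conjH_of_mem (T.P_le_H ha) (T.conjH v θ)
        rwa [hg, eq_comm] at h'
      refine T.H.mul_mem (T.P_le_H ha) (T.C_le_H (hlam.mem_C_of_fix T hv (MonoidHom.ext fun h => ?_)))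
      obtain ⟨a', ha', z, hz, e⟩ := T.mem_H_iff.mp h.2
      rw [show h = (⟨a', T.P_le_H ha'⟩ : T.H) * ⟨z, T.C_le_H hz⟩ from Subtype.ext e.symm, map_mul,
        map_mul, hlam.eq_one_on_C T z hz, mul_one]
      have h3 : T.conjH v (T.lamB b) ⟨a', T.P_le_H ha'⟩ = T.conjH v θ ⟨a', T.P_le_H ha'⟩ := by
        have hm : v⁻¹ * a' * v ∈ T.P := by simpa using T.normal_P.conj_mem a' ha' v⁻¹
        exact (hP _ hm).symm
      have h4 : T.conjH v (T.lamB b) ⟨z, T.C_le_H hz⟩ = 1 := by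
        refine Eq.trans (congrArg (T.lamB b) (Subtype.ext ?_)) (hlam.eq_one_on_C T z hz)
        show v⁻¹ * z * v = z
        rw [mul_assoc, T.comm_U z hz.1 v hv, inv_mul_cancel_left]
      rw [h3, h4, h1, hP _ ha', mul_one]
    · exfalso
      obtain ⟨h, x, hx, hx1, y, hy, e⟩ := T.conj_regular hD
      have hθ' : T.conjH x (T.conjH h θ) = T.conjH h θ := by
        have h1 : T.conjH (h * g * h⁻¹) (T.conjH h θ) = T.conjH h θ := by
          rw [← T.conjH_mul, inv_mul_cancel_right, T.conjH_mul, hg]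
        rwa [e, T.commute_W₁_W₂ hx hy, T.conjH_mul,
          T.conjH_of_mem (T.P_le_H (T.W₂_le hy))] at h1
      have hinv := T.eq_one_on_C (θ := T.conjH h θ) hx hx1 (fun z hz => by
        conv_lhs => rw [← hθ']
        exact congrArg (T.conjH h θ) (Subtype.ext (by simp [mul_assoc])))
      refine hγ (MonoidHom.ext fun z => ?_)
      rw [MonoidHom.one_apply, ← hCv z z.2]
      have hz' : h * z * h⁻¹ ∈ T.C := by
        obtain ⟨d, hd, x', hx', rfl⟩ := T.exists_decomp h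
        obtain ⟨a, ha, v, hv, rfl⟩ := T.mem_D_iff.mp hd
        have h2 := T.W₁_conj_mem_C hx' z.2
        rwa [show a * v * x' * z * (a * v * x')⁻¹ = a * (v * (x' * z * x'⁻¹) * v⁻¹) * a⁻¹ by group,
          T.conj_C_of_U hv h2, ← T.C_comm_P h2 ha, mul_inv_cancel_right]
      exact (congrArg θ (Subtype.ext (by simp [mul_assoc]))).trans (hinv _ hz')
  · rw [MonoidHom.one_apply, ← hCv z z.2, e, MonoidHom.one_apply]

theorem Regular.inv {θ : T.H →* ℂˣ} (hθ : T.Regular θ) : T.Regular θ⁻¹ := fun g hg =>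
  hθ g (MonoidHom.ext fun h => inv_injective (DFunLike.congr_fun hg h))

/-- A regular character is not conjugate to its inverse. -/
theorem Regular.conjH_ne_inv {θ : T.H →* ℂˣ} (hθ : T.Regular θ) (h1 : θ ≠ 1) (g : L) :
    T.conjH g θ ≠ θ⁻¹ := by
  intro hg
  have h2 : g * g ∈ T.H := hθ _ (by rw [T.conjH_mul, hg, T.conjH_inv_hom, hg]; exact MonoidHom.ext fun _ => inv_inv _)
  obtain ⟨n, hn⟩ := T.odd
  have hg' : g ∈ T.H := by
    have : g = (g * g) ^ (n + 1) := by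
      rw [← sq, ← pow_mul, show 2 * (n + 1) = (2 * n + 1) + 1 by ring, ← hn, pow_succ,
        pow_card_eq_one', one_mul]
    rw [this]
    exact T.H.pow_mem h2 _
  rw [T.conjH_of_mem hg'] at hg
  refine h1 (MonoidHom.ext fun h => ?_)
  have hsq : θ h ^ 2 = 1 := by
    rw [sq]
    nth_rw 2 [hg]
    exact mul_inv_cancel _
  have hpow : θ h ^ Nat.card T.H = 1 := by rw [← map_pow, pow_card_eq_one', map_one]
  obtain ⟨k, hk⟩ := T.odd.of_dvd_nat (Subgroup.card_subgroup_dvd_card T.H)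
  rwa [hk, pow_add, pow_mul, hsq, one_pow, one_mul, pow_one] at hpow

/-- The orbit. -/
noncomputable def orbit (θ : T.H →* ℂˣ) : Finset (T.H →* ℂˣ) := by
  classical
  haveI := Fintype.ofFinite L
  exact Finset.univ.image fun g => T.conjH g θ

theorem mem_orbit {θ φ : T.H →* ℂˣ} : φ ∈ T.orbit θ ↔ ∃ g, T.conjH g θ = φ := by
  simp [orbit]

theorem card_orbit_mul (θ : T.H →* ℂˣ) (X : Subgroup L)
    (hX : ∀ g, T.conjH g θ = θ ↔ g ∈ X) : (T.orbit θ).card * Nat.card X = Nat.card L := by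
  classical
  haveI := Fintype.ofFinite L
  haveI : Fintype X := Fintype.ofFinite X
  rw [Nat.card_eq_fintype_card (α := L), ← Finset.card_univ (α := L),
    Finset.card_eq_sum_card_fiberwise (f := fun g => T.conjH g θ) (t := T.orbit θ)
      (fun g _ => (T.mem_orbit).mpr ⟨g, rfl⟩),
    Finset.sum_congr rfl fun φ hφ => show _ = Nat.card X from ?_, Finset.sum_const, smul_eq_mul]
  obtain ⟨g₀, rfl⟩ := T.mem_orbit.mp hφ
  rw [Nat.card_eq_fintype_card, ← Finset.card_univ]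
  refine (Finset.card_bij (s := (Finset.univ : Finset X)) (fun x _ => g₀ * (x : L)) (fun x _ => ?_)
    (fun a _ b _ e => ?_) fun g hg => ?_).symm
  · rw [Finset.mem_filter, T.conjH_mul, (hX x).mpr x.2]
    exact ⟨Finset.mem_univ _, rfl⟩
  · exact Subtype.ext (mul_left_cancel e)
  · exact ⟨⟨g₀⁻¹ * g, (hX _).mp (T.conjH_eq_of_conjH_eq (Finset.mem_filter.mp hg).2)⟩,
      Finset.mem_univ _, mul_inv_cancel_left _ _⟩

theorem Regular.card_orbit {θ : T.H →* ℂˣ} (hθ : T.Regular θ) :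
    (T.orbit θ).card = T.u * T.q := by
  have h := T.card_orbit_mul θ T.H fun g => ⟨hθ g, fun hg => T.conjH_of_mem hg θ⟩
  rw [T.card_L', mul_assoc, mul_comm (Nat.card T.H)] at h
  exact Nat.eq_of_mul_eq_mul_right Nat.card_pos h

theorem Fixed.card_orbit {θ : T.H →* ℂˣ} (hθ : T.Fixed θ) : (T.orbit θ).card = T.u := by
  have h := T.card_orbit_mul θ T.K (hθ.conjH_eq_iff T)
  rw [T.card_L', T.card_K, show Nat.card T.H * T.u * T.q = T.u * (Nat.card T.H * T.q) by ring] at h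
  exact Nat.eq_of_mul_eq_mul_right (Nat.mul_pos Nat.card_pos T.prime_q.pos) h

theorem Fixed.disjoint_orbit {θ θ' : T.H →* ℂˣ} (hθ : T.Fixed θ) (hθ' : T.Fixed θ') (hne : θ ≠ θ') :
    Disjoint (T.orbit θ) (T.orbit θ') := by
  rw [Finset.disjoint_left]
  intro φ h1 h2
  obtain ⟨g, rfl⟩ := T.mem_orbit.mp h1
  obtain ⟨k, hk⟩ := T.mem_orbit.mp h2
  exact hne (hθ.eq_of_conj T hθ'.1 (g := k⁻¹ * g) (by
    rw [T.conjH_mul, ← hk, ← T.conjH_mul, inv_mul_cancel, T.conjH_one])).2.symm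

/-- Peterfalvi (13.2)(c): `u (p - 1) ≤ p ^ q - 1`. -/
theorem u_mul_le : T.u * (T.p - 1) ≤ T.p ^ T.q - 1 := by
  classical
  haveI := Fintype.ofFinite T.W₁
  haveI := T.isMulCommutative_P
  haveI : IsMulCommutative T.W₂ :=
    ⟨⟨fun a b => Subtype.ext (T.comm_P a (T.W₂_le a.2) b (T.W₂_le b.2))⟩⟩
  haveI := Fintype.ofFinite (T.P →* ℂˣ)
  haveI := Fintype.ofFinite (T.W₂ →* ℂˣ)
  have hcard : ∀ (X : Subgroup L) [IsMulCommutative X] [Fintype (X →* ℂˣ)],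
      Fintype.card (X →* ℂˣ) = Nat.card X := by
    intro X _ _
    rw [← Nat.card_eq_fintype_card, card_monoidHom_units]
    open scoped IsMulCommutative in
    rw [(commutator_eq_bot_iff_center_eq_top _).mpr CommGroup.center_eq_top, Subgroup.index_bot]
  set B := (Finset.univ : Finset (T.W₂ →* ℂˣ)).erase 1
  set S := B.biUnion fun b => T.orbit (T.lamB b)
  have hS : S.card = T.u * (T.p - 1) := by
    rw [Finset.card_biUnion, Finset.sum_congr rfl fun b hb =>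
      (T.lamB_fixed (Finset.ne_of_mem_erase hb)).card_orbit T, Finset.sum_const, smul_eq_mul,
      Finset.card_erase_of_mem (Finset.mem_univ _), Finset.card_univ, hcard, T.card_W₂, mul_comm]
    intro b hb b' hb' hne
    exact (T.lamB_fixed (Finset.ne_of_mem_erase hb)).disjoint_orbit T
      (T.lamB_fixed (Finset.ne_of_mem_erase hb')) fun e => hne (T.lamB_inj e)
  let res : (T.H →* ℂˣ) → (T.P →* ℂˣ) := fun φ => φ.comp (Subgroup.inclusion T.P_le_H)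
  have hone : ∀ φ ∈ S, ∀ z, ∀ hz : z ∈ T.C, φ ⟨z, T.C_le_H hz⟩ = 1 := by
    intro φ hφ z hz
    obtain ⟨b, hb, hφ⟩ := Finset.mem_biUnion.mp hφ
    obtain ⟨g, rfl⟩ := T.mem_orbit.mp hφ
    have hz' : g⁻¹ * z * g ∈ T.C := by
      obtain ⟨d, hd, x', hx', e⟩ := T.exists_decomp g⁻¹
      obtain ⟨a, ha, v, hv, rfl⟩ := T.mem_D_iff.mp hd
      have h2 := T.W₁_conj_mem_C hx' hz
      rw [show g = (a * v * x')⁻¹ by rw [e, inv_inv], inv_inv,
        show a * v * x' * z * (a * v * x')⁻¹ = a * (v * (x' * z * x'⁻¹) * v⁻¹) * a⁻¹ by group,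
        T.conj_C_of_U hv h2, ← T.C_comm_P h2 ha, mul_inv_cancel_right]
      exact h2
    exact (T.lamB_fixed (Finset.ne_of_mem_erase hb)).eq_one_on_C T _ hz'
  have hinj : Set.InjOn res ↑S := by
    intro φ hφ φ' hφ' e
    refine MonoidHom.ext fun h => ?_
    obtain ⟨a, ha, z, hz, e'⟩ := T.mem_H_iff.mp h.2
    rw [show h = (⟨a, T.P_le_H ha⟩ : T.H) * ⟨z, T.C_le_H hz⟩ from Subtype.ext e'.symm, map_mul,
      map_mul, hone φ hφ z hz, hone φ' hφ' z hz]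
    exact congrArg (fun f : T.P →* ℂˣ => f ⟨a, ha⟩ * 1) e
  have hle : (S.image res).card ≤ ((Finset.univ : Finset (T.P →* ℂˣ)).erase 1).card := by
    refine Finset.card_le_card fun f hf => Finset.mem_erase.mpr ⟨?_, Finset.mem_univ _⟩
    obtain ⟨φ, hφ, rfl⟩ := Finset.mem_image.mp hf
    intro e
    obtain ⟨b, hb, hφ⟩ := Finset.mem_biUnion.mp hφ
    obtain ⟨g, rfl⟩ := T.mem_orbit.mp hφ
    obtain ⟨a, ha, hne⟩ := (T.lamB_fixed (Finset.ne_of_mem_erase hb)).2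
    refine hne ?_
    have := DFunLike.congr_fun e ⟨g * a * g⁻¹, T.normal_P.conj_mem a ha g⟩
    exact (congrArg (T.lamB b) (Subtype.ext (by simp [mul_assoc]))).trans this
  rw [Finset.card_image_of_injOn hinj, hS, Finset.card_erase_of_mem (Finset.mem_univ _),
    Finset.card_univ, hcard, T.card_P] at hle
  exact hle

end LocalS

end CfsgLib.FT.PF13
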