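import Mathlib
import Cfsg.Agent.Lib.Coprime.Basic
import Cfsg.Agent.S1496

/-!
# Peterfalvi, section 13: the local configuration inside one maximal subgroup

`L = (P U) W₁` with `P` elementary abelian of order `p ^ q`, `U` abelian and prime-to-`pq`, and
`C_{PU}(x) = W₂` of order `p` for each nontrivial `x` in `W₁` of order `q`.
-/

set_option autoImplicit false
set_option linter.style.haveILetI false
set_option linter.unusedSectionVars false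

namespace CfsgLib.FT.PF13

open _root_.Subgroup

universe u

/-- Homomorphisms on the two factors of a split product glue. -/
theorem exists_hom_sup {X : Type u} [Group X] {M : Type*} [CommGroup M] {A B : Subgroup X}
    (hn : B ≤ normalizer (A : Set X)) (hd : A ⊓ B = ⊥) (f : A →* M) (g : B →* M)
    (hinv : ∀ b (_ : b ∈ B) a (ha : a ∈ A) (h : b * a * b⁻¹ ∈ A),
      f ⟨b * a * b⁻¹, h⟩ = f ⟨a, ha⟩) :
    ∃ F : ↥(A ⊔ B) →* M, ∀ a (ha : a ∈ A) b (hb : b ∈ B) (h : a * b ∈ A ⊔ B),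
      F ⟨a * b, h⟩ = f ⟨a, ha⟩ * g ⟨b, hb⟩ := by
  have hdec : ∀ z : ↥(A ⊔ B), ∃ ab : A × B, (ab.1 : X) * ab.2 = z := by
    intro z
    obtain ⟨b, hb, a, ha, e⟩ := (CfsgLib.Coprime.mem_sup_iff_of_le_normalizer hn).mp
      ((sup_comm A B).le z.2)
    refine ⟨⟨⟨b * a * b⁻¹, (mem_normalizer_iff.mp (hn hb) a).mp ha⟩, ⟨b, hb⟩⟩, ?_⟩
    rw [← e]
    simp
  choose d hd' using hdec
  have huniq : ∀ z : ↥(A ⊔ B), ∀ a (ha : a ∈ A) b (hb : b ∈ B), a * b = (z : X) →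
      d z = (⟨a, ha⟩, ⟨b, hb⟩) := by
    intro z a ha b hb e
    have h := (hd' z).trans e.symm
    have h2 : a⁻¹ * ((d z).1 : X) = b * ((d z).2 : X)⁻¹ := by
      rw [inv_mul_eq_iff_eq_mul, ← mul_assoc, ← h, mul_inv_cancel_right]
    have h3 : a⁻¹ * ((d z).1 : X) ∈ A ⊓ B :=
      ⟨A.mul_mem (A.inv_mem ha) (d z).1.2, h2 ▸ B.mul_mem hb (B.inv_mem (d z).2.2)⟩
    rw [hd, mem_bot] at h3
    have ha' : a = (d z).1 := inv_mul_eq_one.mp h3
    have hb' : b = (d z).2 := by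
      rw [← ha'] at h
      exact (mul_left_cancel h).symm
    exact Prod.ext (Subtype.ext ha'.symm) (Subtype.ext hb'.symm)
  refine ⟨MonoidHom.mk' (fun z => f (d z).1 * g (d z).2) fun z w => ?_, fun a ha b hb h => ?_⟩
  · have hmem : ((d z).2 : X) * (d w).1 * ((d z).2 : X)⁻¹ ∈ A :=
      (mem_normalizer_iff.mp (hn (d z).2.2) _).mp (d w).1.2
    have e : ((d z).1 : X) * ((d z).2 * (d w).1 * ((d z).2 : X)⁻¹) * ((d z).2 * (d w).2) =
        ((z * w : ↥(A ⊔ B)) : X) := by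
      rw [Subgroup.coe_mul, ← hd' z, ← hd' w]
      group
    have hu := huniq (z * w) _ (A.mul_mem (d z).1.2 hmem) _
      (B.mul_mem (d z).2.2 (d w).2.2) e
    rw [hu]
    show f ((d z).1 * ⟨_, hmem⟩) * g ((d z).2 * (d w).2) = _
    rw [map_mul, map_mul, hinv _ (d z).2.2 _ (d w).1.2 hmem]
    exact mul_mul_mul_comm _ _ _ _
  · show f (d ⟨a * b, h⟩).1 * g (d ⟨a * b, h⟩).2 = _
    rw [huniq _ a ha b hb rfl]

/-- The configuration inside a maximal subgroup of type II or III. -/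
structure LocalS (L : Type u) [Group L] where
  P : Subgroup L
  U : Subgroup L
  W₁ : Subgroup L
  W₂ : Subgroup L
  p : ℕ
  q : ℕ
  prime_p : p.Prime
  prime_q : q.Prime
  ne : p ≠ q
  odd : Odd (Nat.card L)
  normal_P : P.Normal
  comm_P : ∀ a ∈ P, ∀ b ∈ P, a * b = b * a
  exp_P : ∀ a ∈ P, a ^ p = 1
  card_P : Nat.card P = p ^ q
  card_W₁ : Nat.card W₁ = q
  card_W₂ : Nat.card W₂ = p
  W₂_le : W₂ ≤ P
  comm_U : ∀ a ∈ U, ∀ b ∈ U, a * b = b * a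
  W₁_norm : ∀ x ∈ W₁, ∀ v ∈ U, x * v * x⁻¹ ∈ U
  disj_U : P ⊓ U = ⊥
  normal_D : (P ⊔ U).Normal
  disj_W₁ : (P ⊔ U) ⊓ W₁ = ⊥
  sup_W₁ : (P ⊔ U) ⊔ W₁ = ⊤
  fix : ∀ x ∈ W₁, x ≠ 1 → (P ⊔ U) ⊓ centralizer ({x} : Set L) = W₂
  p_coprime : ¬ p ∣ Nat.card U
  q_coprime : ¬ q ∣ Nat.card U
  U_act : ¬ U ≤ centralizer (P : Set L)

namespace LocalS

variable {L : Type u} [Group L] (T : LocalS L)

/-- `C_U(P)`. -/
def C : Subgroup L := T.U ⊓ centralizer (T.P : Set L)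

/-- `H = P C_U(P)`. -/
def H : Subgroup L := T.P ⊔ T.C

/-- `K = H W₁`. -/
def K : Subgroup L := T.H ⊔ T.W₁

theorem C_le_U : T.C ≤ T.U := inf_le_left

theorem P_le_H : T.P ≤ T.H := le_sup_left

theorem C_le_H : T.C ≤ T.H := le_sup_right

theorem C_comm_P {z a : L} (hz : z ∈ T.C) (ha : a ∈ T.P) : z * a = a * z :=
  (mem_centralizer_iff.mp hz.2 a ha).symm

theorem U_le_normalizer_P : T.U ≤ normalizer (T.P : Set L) := by
  haveI := T.normal_P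
  rw [normalizer_eq_top]
  exact le_top

theorem C_le_normalizer_P : T.C ≤ normalizer (T.P : Set L) :=
  T.C_le_U.trans T.U_le_normalizer_P

theorem disj_C : T.P ⊓ T.C = ⊥ := le_bot_iff.mp
  ((inf_le_inf_left T.P T.C_le_U).trans T.disj_U.le)

theorem mem_H_iff {h : L} : h ∈ T.H ↔ ∃ a ∈ T.P, ∃ z ∈ T.C, a * z = h := by
  refine ⟨fun hh => ?_, ?_⟩
  · obtain ⟨z, hz, a, ha, rfl⟩ := (CfsgLib.Coprime.mem_sup_iff_of_le_normalizer
      T.C_le_normalizer_P).mp ((sup_comm T.P T.C).le hh)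
    exact ⟨a, ha, z, hz, (T.C_comm_P hz ha).symm⟩
  · rintro ⟨a, ha, z, hz, rfl⟩
    exact mul_mem (T.P_le_H ha) (T.C_le_H hz)

theorem comm_H {g h : L} (hg : g ∈ T.H) (hh : h ∈ T.H) : g * h = h * g := by
  obtain ⟨a, ha, z, hz, rfl⟩ := T.mem_H_iff.mp hg
  obtain ⟨b, hb, y, hy, rfl⟩ := T.mem_H_iff.mp hh
  calc a * z * (b * y) = a * (z * b) * y := by group
    _ = (a * b) * (z * y) := by rw [T.C_comm_P hz hb]; group
    _ = (b * a) * (y * z) := by rw [T.comm_P a ha b hb, T.comm_U z hz.1 y hy.1]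
    _ = b * (y * a) * z := by rw [T.C_comm_P hy ha]; group
    _ = b * y * (a * z) := by group

theorem P_le_D : T.P ≤ T.P ⊔ T.U := le_sup_left

theorem H_le_D : T.H ≤ T.P ⊔ T.U := sup_le le_sup_left (T.C_le_U.trans le_sup_right)

theorem mem_D_iff {d : L} : d ∈ T.P ⊔ T.U ↔ ∃ a ∈ T.P, ∃ v ∈ T.U, a * v = d := by
  refine ⟨fun hd => ?_, ?_⟩
  · obtain ⟨v, hv, a, ha, rfl⟩ := (CfsgLib.Coprime.mem_sup_iff_of_le_normalizer
      T.U_le_normalizer_P).mp ((sup_comm T.P T.U).le hd)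
    exact ⟨v * a * v⁻¹, T.normal_P.conj_mem a ha v, v, hv, by group⟩
  · rintro ⟨a, ha, v, hv, rfl⟩
    exact mul_mem_sup ha hv

/-- Every element is `d x`. -/
theorem exists_decomp (g : L) : ∃ d ∈ T.P ⊔ T.U, ∃ x ∈ T.W₁, d * x = g := by
  haveI := T.normal_D
  have hg : g ∈ (T.P ⊔ T.U) ⊔ T.W₁ := T.sup_W₁ ▸ mem_top g
  rw [← SetLike.mem_coe, Subgroup.normal_mul, Set.mem_mul] at hg
  obtain ⟨d, hd, x, hx, e⟩ := hg
  exact ⟨d, hd, x, hx, e⟩

theorem W₁_conj_mem_C {x z : L} (hx : x ∈ T.W₁) (hz : z ∈ T.C) : x * z * x⁻¹ ∈ T.C := by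
  refine ⟨T.W₁_norm x hx z hz.1, mem_centralizer_iff.mpr fun a ha => ?_⟩
  have hm : x⁻¹ * a * x ∈ T.P := by simpa using T.normal_P.conj_mem a ha x⁻¹
  calc a * (x * z * x⁻¹) = x * ((x⁻¹ * a * x) * z) * x⁻¹ := by group
    _ = x * (z * (x⁻¹ * a * x)) * x⁻¹ := by rw [T.C_comm_P hz hm]
    _ = x * z * x⁻¹ * a := by group

theorem conj_C_of_U {v z : L} (hv : v ∈ T.U) (hz : z ∈ T.C) : v * z * v⁻¹ = z := by
  rw [T.comm_U v hv z hz.1, mul_inv_cancel_right]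

theorem normal_H : T.H.Normal := by
  refine ⟨fun h hh g => ?_⟩
  obtain ⟨a, ha, z, hz, rfl⟩ := T.mem_H_iff.mp hh
  rw [show g * (a * z) * g⁻¹ = (g * a * g⁻¹) * (g * z * g⁻¹) by group]
  refine T.H.mul_mem (T.P_le_H (T.normal_P.conj_mem a ha g)) (T.C_le_H ?_)
  obtain ⟨d, hd, x, hx, rfl⟩ := T.exists_decomp g
  obtain ⟨b, hb, v, hv, rfl⟩ := T.mem_D_iff.mp hd
  have hz' := T.W₁_conj_mem_C hx hz
  have h2 : b * v * (x * z * x⁻¹) * (b * v)⁻¹ = x * z * x⁻¹ := by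
    rw [show b * v * (x * z * x⁻¹) * (b * v)⁻¹ = b * (v * (x * z * x⁻¹) * v⁻¹) * b⁻¹ by group,
      T.conj_C_of_U hv hz', ← T.C_comm_P hz' hb, mul_inv_cancel_right]
  rwa [show b * v * x * z * (b * v * x)⁻¹ = b * v * (x * z * x⁻¹) * (b * v)⁻¹ by group, h2]

theorem card_H : Nat.card T.H = T.p ^ T.q * Nat.card T.C := by
  rw [H, sup_comm, CfsgLib.Coprime.card_sup_of_inf_eq_bot T.C_le_normalizer_P
    (by rw [inf_comm]; exact T.disj_C), T.card_P, mul_comm]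

theorem card_D : Nat.card ↥(T.P ⊔ T.U) = T.p ^ T.q * Nat.card T.U := by
  rw [sup_comm, CfsgLib.Coprime.card_sup_of_inf_eq_bot T.U_le_normalizer_P
    (by rw [inf_comm]; exact T.disj_U), T.card_P, mul_comm]

theorem card_L : Nat.card L = T.p ^ T.q * Nat.card T.U * T.q := by
  haveI := T.normal_D
  rw [← Subgroup.card_top (G := L), ← T.sup_W₁, sup_comm,
    CfsgLib.Coprime.card_sup_of_inf_eq_bot (by rw [normalizer_eq_top]; exact le_top)
      (by rw [inf_comm]; exact T.disj_W₁), T.card_W₁, T.card_D]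
  ring

theorem two_lt_q [Finite L] : 2 < T.q := by
  refine lt_of_le_of_ne T.prime_q.two_le fun e => ?_
  have h := T.odd.of_dvd_nat (Subgroup.card_subgroup_dvd_card T.W₁)
  rw [T.card_W₁, ← e] at h
  exact absurd h (by decide)

theorem two_lt_p [Finite L] : 2 < T.p := by
  refine lt_of_le_of_ne T.prime_p.two_le fun e => ?_
  have h := T.odd.of_dvd_nat (Subgroup.card_subgroup_dvd_card T.W₂)
  rw [T.card_W₂, ← e] at h
  exact absurd h (by decide)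

theorem q_coprime_D : Nat.Coprime T.q (Nat.card ↥(T.P ⊔ T.U)) := by
  rw [T.card_D]
  exact (((Nat.coprime_primes T.prime_q T.prime_p).mpr T.ne.symm).pow_right _).mul_right
    (T.prime_q.coprime_iff_not_dvd.mpr T.q_coprime)

theorem orderOf_W₁ [Finite L] {x : L} (hx : x ∈ T.W₁) (hx1 : x ≠ 1) : orderOf x = T.q :=
  ((Nat.dvd_prime T.prime_q).mp (T.card_W₁ ▸ T.W₁.orderOf_dvd_natCard hx)).resolve_left
    fun h => hx1 (orderOf_eq_one_iff.mp h)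

theorem disj_W₂_W₁ {x : L} (hx : x ∈ T.W₁) (hxd : x ∈ T.P ⊔ T.U) : x = 1 := by
  have h : x ∈ (T.P ⊔ T.U) ⊓ T.W₁ := ⟨hxd, hx⟩
  rwa [T.disj_W₁, mem_bot] at h

theorem commute_W₁_W₂ {x y : L} (hx : x ∈ T.W₁) (hy : y ∈ T.W₂) : x * y = y * x := by
  by_cases hx1 : x = 1
  · rw [hx1, one_mul, mul_one]
  · rw [← T.fix x hx hx1] at hy
    exact (mem_centralizer_singleton_iff.mp hy.2).symm

theorem fpf_U {x v : L} (hx : x ∈ T.W₁) (hx1 : x ≠ 1) (hv : v ∈ T.U) (h : x * v * x⁻¹ = v) :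
    v = 1 := by
  have hc : v * x = x * v := by
    conv_lhs => rw [← h]
    group
  have hm : v ∈ (T.P ⊔ T.U) ⊓ centralizer ({x} : Set L) :=
    ⟨mem_sup_right hv, mem_centralizer_singleton_iff.mpr hc⟩
  rw [T.fix x hx hx1] at hm
  have : v ∈ T.P ⊓ T.U := ⟨T.W₂_le hm, hv⟩
  rwa [T.disj_U, mem_bot] at this

/-- `W₁` acts freely on `U / C`. -/
theorem fpf_quot [Finite L] {x v : L} (hx : x ∈ T.W₁) (hx1 : x ≠ 1) (hv : v ∈ T.U)
    (h : x * v * x⁻¹ * v⁻¹ ∈ T.C) : v ∈ T.C := by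
  let f : T.C → T.C := fun z => ⟨x * z * x⁻¹ * (z : L)⁻¹,
    T.C.mul_mem (T.W₁_conj_mem_C hx z.2) (T.C.inv_mem z.2)⟩
  have key : ∀ a b : L, a ∈ T.U → b ∈ T.U → x * a * x⁻¹ * a⁻¹ = x * b * x⁻¹ * b⁻¹ → a = b := by
    intro a b ha hb e
    refine inv_mul_eq_one.mp (T.fpf_U hx hx1 (T.U.mul_mem (T.U.inv_mem ha) hb) ?_)
    have hxb := T.W₁_norm x hx b hb
    have hxa := T.W₁_norm x hx a ha
    have e2 : x * b * x⁻¹ = x * a * x⁻¹ * (a⁻¹ * b) := by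
      rw [← mul_assoc (x * a * x⁻¹), e, inv_mul_cancel_right]
    calc x * (a⁻¹ * b) * x⁻¹ = (x * a * x⁻¹)⁻¹ * (x * b * x⁻¹) := by group
      _ = a⁻¹ * b := by rw [e2, inv_mul_cancel_left]
  have hinj : Function.Injective f := fun a b e =>
    Subtype.ext (key _ _ a.2.1 b.2.1 (congrArg Subtype.val e))
  obtain ⟨z, hz⟩ := (Finite.injective_iff_surjective.mp hinj) ⟨_, h⟩
  rw [key v z hv z.2.1 (congrArg Subtype.val hz).symm]
  exact z.2

/-- An element outside `P U` is conjugate to `x y` with `1 ≠ x ∈ W₁`, `y ∈ W₂`. -/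
theorem conj_regular [Finite L] {g : L} (hg : g ∉ T.P ⊔ T.U) :
    ∃ h : L, ∃ x ∈ T.W₁, x ≠ 1 ∧ ∃ y ∈ T.W₂, h * g * h⁻¹ = x * y := by
  obtain ⟨d, hd, x, hx, rfl⟩ := T.exists_decomp g
  have hx1 : x ≠ 1 := fun e => hg (by rwa [e, mul_one])
  haveI := T.normal_D
  obtain ⟨h, -, y, hy, hyx, e⟩ := Cfsg.Agent.S1496.result (T.P ⊔ T.U) x
    (by rw [normalizer_eq_top]; exact mem_top x)
    (by rw [T.orderOf_W₁ hx hx1]; exact T.q_coprime_D) d hd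
  refine ⟨h, x, hx, hx1, y, ?_, by rw [e, hyx]⟩
  rw [← T.fix x hx hx1]
  exact ⟨hy, mem_centralizer_singleton_iff.mpr hyx⟩

theorem normalizer_H_W₁ : T.W₁ ≤ normalizer (T.H : Set L) := by
  haveI := T.normal_H
  rw [normalizer_eq_top]
  exact le_top

theorem disj_H_W₁ : T.H ⊓ T.W₁ = ⊥ :=
  le_bot_iff.mp ((inf_le_inf_right _ T.H_le_D).trans T.disj_W₁.le)

theorem mem_K_iff {k : L} : k ∈ T.K ↔ ∃ h ∈ T.H, ∃ x ∈ T.W₁, h * x = k := by
  haveI := T.normal_H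
  rw [K, ← SetLike.mem_coe, Subgroup.normal_mul, Set.mem_mul]
  rfl

theorem card_K : Nat.card T.K = Nat.card T.H * T.q := by
  rw [K, sup_comm, CfsgLib.Coprime.card_sup_of_inf_eq_bot T.normalizer_H_W₁
    (by rw [inf_comm]; exact T.disj_H_W₁), T.card_W₁, mul_comm]

theorem K_inf_D : T.K ⊓ (T.P ⊔ T.U) = T.H := by
  refine le_antisymm ?_ (le_inf le_sup_left T.H_le_D)
  rintro k ⟨hk, hd⟩
  obtain ⟨h, hh, x, hx, rfl⟩ := T.mem_K_iff.mp hk
  have hxd : x ∈ T.P ⊔ T.U := by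
    have := (T.P ⊔ T.U).mul_mem ((T.P ⊔ T.U).inv_mem (T.H_le_D hh)) hd
    rwa [inv_mul_cancel_left] at this
  rw [T.disj_W₂_W₁ hx hxd, mul_one]
  exact hh

/-- `K ∩ K ^ g ⊆ H` outside `K`. -/
theorem mem_K_of_conj [Finite L] {g k : L} (hk : k ∈ T.K) (hkH : k ∉ T.H)
    (h : g * k * g⁻¹ ∈ T.K) : g ∈ T.K := by
  haveI := T.normal_H
  obtain ⟨d, hd, x₀, hx₀, rfl⟩ := T.exists_decomp g
  have hx₀K : x₀ ∈ T.K := mem_sup_right hx₀
  obtain ⟨a, ha, v, hv, rfl⟩ := T.mem_D_iff.mp hd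
  have haK : a ∈ T.K := mem_sup_left (T.P_le_H ha)
  refine T.K.mul_mem (T.K.mul_mem haK (mem_sup_left (T.C_le_H ?_))) hx₀K
  set k' := x₀ * k * x₀⁻¹ with hk'
  have hk'K : k' ∈ T.K := T.K.mul_mem (T.K.mul_mem hx₀K hk) (T.K.inv_mem hx₀K)
  have h' : v * k' * v⁻¹ ∈ T.K := by
    have h2 := T.K.mul_mem (T.K.mul_mem (T.K.inv_mem haK) h) haK
    rwa [show a⁻¹ * (a * v * x₀ * k * (a * v * x₀)⁻¹) * a = v * k' * v⁻¹ by rw [hk']; group] at h2
  obtain ⟨h₁, hh₁, x, hx, e⟩ := T.mem_K_iff.mp hk'K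
  have hx1 : x ≠ 1 := by
    intro e1
    rw [e1, mul_one] at e
    refine hkH ?_
    rw [show k = x₀⁻¹ * k' * x₀⁻¹⁻¹ by rw [hk']; group]
    exact T.normal_H.conj_mem k' (e ▸ hh₁) x₀⁻¹
  have hvd : v * x * v⁻¹ * x⁻¹ ∈ T.H := by
    rw [← T.K_inf_D]
    refine ⟨?_, ?_⟩
    · have h3 : (v * h₁ * v⁻¹)⁻¹ * (v * k' * v⁻¹) ∈ T.K :=
        T.K.mul_mem (T.K.inv_mem (mem_sup_left (T.normal_H.conj_mem h₁ hh₁ v))) h'
      rw [← e, show (v * h₁ * v⁻¹)⁻¹ * (v * (h₁ * x) * v⁻¹) = v * x * v⁻¹ by group] at h3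
      exact T.K.mul_mem h3 (T.K.inv_mem (mem_sup_right hx))
    · rw [show v * x * v⁻¹ * x⁻¹ = v * (x * v⁻¹ * x⁻¹) by group]
      exact mem_sup_right (T.U.mul_mem hv (T.W₁_norm x hx _ (T.U.inv_mem hv)))
  refine T.fpf_quot hx hx1 hv ?_
  have hU : v * x * v⁻¹ * x⁻¹ ∈ T.U := by
    rw [show v * x * v⁻¹ * x⁻¹ = v * (x * v⁻¹ * x⁻¹) by group]
    exact T.U.mul_mem hv (T.W₁_norm x hx _ (T.U.inv_mem hv))
  obtain ⟨b, hb, z, hz, ez⟩ := T.mem_H_iff.mp hvd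
  have hb1 : b = 1 := by
    have : b ∈ T.P ⊓ T.U := ⟨hb, by
      rw [show b = v * x * v⁻¹ * x⁻¹ * z⁻¹ by rw [← ez, mul_inv_cancel_right]]
      exact T.U.mul_mem hU (T.U.inv_mem hz.1)⟩
    rwa [T.disj_U, mem_bot] at this
  rw [hb1, one_mul] at ez
  rw [show x * v * x⁻¹ * v⁻¹ = (v * x * v⁻¹ * x⁻¹)⁻¹ by group, ← ez]
  exact T.C.inv_mem hz

/-- Every element is `v k` with `v ∈ U`, `k ∈ K`. -/
theorem exists_mul_K (g : L) : ∃ v ∈ T.U, ∃ k ∈ T.K, v * k = g := by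
  obtain ⟨d, hd, x, hx, rfl⟩ := T.exists_decomp g
  obtain ⟨a, ha, v, hv, rfl⟩ := T.mem_D_iff.mp hd
  refine ⟨v, hv, v⁻¹ * a * v * x, T.K.mul_mem (mem_sup_left (T.P_le_H ?_)) (mem_sup_right hx),
    by group⟩
  simpa using T.normal_P.conj_mem a ha v⁻¹

theorem C_ne_U : T.C ≠ T.U := fun h => T.U_act fun v hv => (h.ge hv : v ∈ T.C).2

theorem card_fixed_modEq [Finite L] (X : Subgroup L) (hX : ∀ x ∈ T.W₁, ∀ v ∈ X, x * v * x⁻¹ ∈ X)
    (hfix : ∀ x ∈ T.W₁, x ≠ 1 → ∀ v ∈ X, x * v * x⁻¹ = v → v = 1) : Nat.card X % T.q = 1 := by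
  haveI := Fact.mk T.prime_q
  letI : MulAction T.W₁ X :=
    { smul := fun x v => ⟨x * v * (x : L)⁻¹, hX x x.2 v v.2⟩
      one_smul := fun v => Subtype.ext (by show (1 : L) * v * (1 : L)⁻¹ = v; simp)
      mul_smul := fun x y v => Subtype.ext (by
        show (x : L) * y * v * ((x : L) * y)⁻¹ = x * (y * v * (y : L)⁻¹) * (x : L)⁻¹
        group) }
  have hp : IsPGroup T.q T.W₁ := IsPGroup.of_card (n := 1) (by rw [T.card_W₁, pow_one])
  have h := hp.card_modEq_card_fixedPoints X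
  have h1 : MulAction.fixedPoints T.W₁ X = {1} := by
    ext v
    rw [MulAction.mem_fixedPoints, Set.mem_singleton_iff]
    constructor
    · intro hv
      have hne : T.W₁ ≠ ⊥ := fun e => T.prime_q.one_lt.ne (by
        rw [← T.card_W₁, e, Subgroup.card_bot])
      obtain ⟨x, hx, hx1⟩ := (Subgroup.bot_or_exists_ne_one T.W₁).resolve_left hne
      exact Subtype.ext (hfix x hx hx1 v v.2 (congrArg Subtype.val (hv ⟨x, hx⟩)))
    · rintro rfl x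
      exact Subtype.ext (by show (x : L) * 1 * (x : L)⁻¹ = 1; simp)
  rw [h1, Nat.card_eq_fintype_card (α := ({1} : Set X)), Fintype.card_unique] at h
  exact Eq.trans h (Nat.mod_eq_of_lt T.prime_q.one_lt)

theorem card_U_mod [Finite L] : Nat.card T.U % T.q = 1 :=
  T.card_fixed_modEq T.U T.W₁_norm fun _ hx hx1 _ hv => T.fpf_U hx hx1 hv

theorem card_C_mod [Finite L] : Nat.card T.C % T.q = 1 :=
  T.card_fixed_modEq T.C (fun _ hx _ => T.W₁_conj_mem_C hx)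
    fun _ hx hx1 _ hv => T.fpf_U hx hx1 hv.1

/-- The index `u = |U : C|`. -/
noncomputable def u : ℕ := T.C.relIndex T.U

theorem u_mul_card_C : T.u * Nat.card T.C = Nat.card T.U := by
  rw [u, mul_comm, ← Subgroup.relIndex_bot_left, ← Subgroup.relIndex_bot_left,
    Subgroup.relIndex_mul_relIndex _ _ _ bot_le T.C_le_U]

theorem card_L' : Nat.card L = Nat.card T.H * T.u * T.q := by
  rw [T.card_L, T.card_H, ← T.u_mul_card_C]
  ring

theorem u_mod [Finite L] : T.u % T.q = 1 := by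
  have h := T.u_mul_card_C
  have h1 := T.card_U_mod
  rw [← h, Nat.mul_mod, T.card_C_mod, mul_one, Nat.mod_mod] at h1
  exact h1

theorem one_lt_u [Finite L] : 1 < T.u := by
  have h := T.u_mul_card_C
  rcases Nat.lt_or_ge 1 T.u with h1 | h1
  · exact h1
  · exfalso
    have h0 : T.u ≠ 0 := fun e => by
      rw [e, zero_mul] at h
      exact (Nat.card_pos (α := T.U)).ne h
    rw [show T.u = 1 by omega, one_mul] at h
    exact T.C_ne_U (Subgroup.eq_of_le_of_card_ge T.C_le_U h.ge)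

theorem u_odd [Finite L] : Odd T.u :=
  T.odd.of_dvd_nat ((Dvd.intro _ T.u_mul_card_C).trans (Subgroup.card_subgroup_dvd_card _))

end LocalS

end CfsgLib.FT.PF13
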