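import Cfsg.Agent.Lib.FT.PF13.LocalChars
import Cfsg.Agent.Lib.FT.TypeOne.Congr
import Cfsg.Agent.Lib.BlockOrth.Integrality
import Cfsg.Agent.Lib.CharApps.Galois

/-!
# Peterfalvi, section 13: the counting tools

A variance inequality for the Fourier coefficients on an abelian subgroup, sums over the conjugates
of a TI-subset, the mean value bound for nonzero values, and a congruence.
-/

set_option autoImplicit false
set_option linter.style.haveILetI false
set_option linter.unusedSectionVars false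

namespace CfsgLib.FT.PF13

open _root_.Subgroup Cfsg CfsgLib.Chars
open scoped ComplexConjugate

universe u

/-- An integer vector taking different constant values on two disjoint sets `A`, `B`, with `B` at
least as large as `A`, has `|A| (m - |A|) ≤ m ∑ F² - (∑ F)²`. -/
theorem variance_le {ι : Type*} [Fintype ι] (F : ι → ℤ) (A B : Finset ι) (hAB : Disjoint A B)
    (hcard : A.card ≤ B.card) {s t : ℤ} (hA : ∀ i ∈ A, F i = s) (hB : ∀ i ∈ B, F i = t)
    (hst : s ≠ t) :
    (A.card : ℤ) * ((Fintype.card ι : ℤ) - A.card) ≤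
      (Fintype.card ι : ℤ) * ∑ i, F i ^ 2 - (∑ i, F i) ^ 2 := by
  classical
  set n : ℤ := (Fintype.card ι : ℤ) with hn
  set K : Finset ι := Finset.univ.filter fun i => F i ≠ t with hK
  set D : ι → ℤ := fun i => F i - t with hD
  have hshift : n * ∑ i, F i ^ 2 - (∑ i, F i) ^ 2 = n * ∑ i, D i ^ 2 - (∑ i, D i) ^ 2 := by
    simp only [hD, sub_sq, Finset.sum_add_distrib, Finset.sum_sub_distrib, Finset.sum_const,
      Finset.card_univ, nsmul_eq_mul, ← hn, ← Finset.mul_sum, ← Finset.sum_mul]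
    ring
  have hsupp : ∀ i, i ∉ K → D i = 0 := fun i hi => by simpa [hK, hD, sub_eq_zero] using hi
  have h2 : ∑ i, D i ^ 2 = ∑ i ∈ K, D i ^ 2 :=
    (Finset.sum_subset (Finset.subset_univ K) fun i _ hi => by simp [hsupp i hi]).symm
  have h1 : ∑ i, D i = ∑ i ∈ K, D i :=
    (Finset.sum_subset (Finset.subset_univ K) fun i _ hi => hsupp i hi).symm
  have hCS : (∑ i ∈ K, D i) ^ 2 ≤ (K.card : ℤ) * ∑ i ∈ K, D i ^ 2 := sq_sum_le_card_mul_sum_sq
  have hlow : (K.card : ℤ) ≤ ∑ i ∈ K, D i ^ 2 := by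
    rw [Finset.card_eq_sum_ones, Nat.cast_sum]
    refine Finset.sum_le_sum fun i hi => ?_
    have hne : D i ≠ 0 := sub_ne_zero.mpr (Finset.mem_filter.mp hi).2
    rw [Nat.cast_one]
    exact Int.add_one_le_of_lt (pow_two_pos_of_ne_zero hne)
  have hAK : A ⊆ K := fun i hi => Finset.mem_filter.mpr ⟨Finset.mem_univ _, by rw [hA i hi]; exact hst⟩
  have hBK : Disjoint K B := by
    rw [Finset.disjoint_left]
    exact fun i hi hiB => (Finset.mem_filter.mp hi).2 (hB i hiB)
  have hsum : K.card + B.card ≤ Fintype.card ι := by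
    rw [← Finset.card_union_of_disjoint hBK]
    exact Finset.card_le_univ _
  have hka : (A.card : ℤ) ≤ K.card := by exact_mod_cast Finset.card_le_card hAK
  have hkm : (K.card : ℤ) ≤ n - A.card := by
    have : ((K.card + B.card : ℕ) : ℤ) ≤ (Fintype.card ι : ℤ) := by exact_mod_cast hsum
    push_cast at this
    have h' : (A.card : ℤ) ≤ B.card := by exact_mod_cast hcard
    linarith
  rw [hshift, h1, h2]
  nlinarith [mul_le_mul_of_nonneg_left hlow (show (0 : ℤ) ≤ n - K.card by linarith),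
    mul_nonneg (sub_nonneg.mpr hka) (sub_nonneg.mpr hkm)]

section Abelian

variable {H : Type*} [Group H] [Fintype H]

theorem card_hom_of_comm (hH : ∀ a b : H, a * b = b * a) [Fintype (H →* ℂˣ)] :
    Fintype.card (H →* ℂˣ) = Fintype.card H := by
  letI : CommGroup H := { ‹Group H› with mul_comm := hH }
  rw [← Nat.card_eq_fintype_card, card_monoidHom_units, ← Nat.card_eq_fintype_card,
    (commutator_eq_bot_iff_center_eq_top _).mpr CommGroup.center_eq_top, Subgroup.index_bot]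

theorem fourier (hH : ∀ a b : H, a * b = b * a) [Fintype (H →* ℂˣ)] (f : H → ℂ) (h : H) :
    f h = ∑ θ : H →* ℂˣ, classInner f (fun x => (θ x : ℂ)) * (θ h : ℂ) := by
  classical
  letI : CommGroup H := { ‹Group H› with mul_comm := hH }
  have hc : ∀ (θ : H →* ℂˣ) (x : H), conj (θ x : ℂ) = (θ x⁻¹ : ℂ) := fun θ x =>
    (char_inv (isCharacter_of_irr (isIrrCharacter_linear θ)) x).symm
  calc f h = (Nat.card H : ℂ)⁻¹ * ∑ x : H, f x * ∑ θ : H →* ℂˣ, (θ (x⁻¹ * h) : ℂ) := by
        rw [Finset.sum_eq_single h, inv_mul_cancel]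
        · simp only [map_one, Units.val_one, Finset.sum_const, Finset.card_univ, nsmul_one,
            card_hom_of_comm hH, ← Nat.card_eq_fintype_card (α := H)]
          field_simp
        · intro x _ hx
          rw [sum_hom_apply fun e => hx (inv_mul_eq_one.mp e), mul_zero]
        · simp
    _ = _ := by
        simp only [Chars.inner_def, Finset.mul_sum, Finset.sum_mul]
        rw [Finset.sum_comm]
        refine Finset.sum_congr rfl fun θ _ => Finset.sum_congr rfl fun x _ => ?_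
        rw [hc, map_mul, Units.val_mul]
        ring

/-- Parseval away from the identity, in terms of the integral Fourier coefficients. -/
theorem exists_fourier_int (hH : ∀ a b : H, a * b = b * a) [Fintype (H →* ℂˣ)] [DecidableEq H]
    {f : H → ℂ} (hf : IsGeneralizedCharacter H f) :
    ∃ F : (H →* ℂˣ) → ℤ, (∀ θ : H →* ℂˣ, classInner f (fun x => (θ x : ℂ)) = F θ) ∧
      ∑ h ∈ Finset.univ.erase 1, ‖f h‖ ^ 2 =
        (((Fintype.card H : ℤ) * ∑ θ, F θ ^ 2 - (∑ θ, F θ) ^ 2 : ℤ) : ℝ) := by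
  classical
  choose F hF using fun θ : H →* ℂˣ =>
    (isGeneralized_iff_inner.mp hf).2 ⟨_, isIrrCharacter_linear θ⟩
  refine ⟨F, hF, ?_⟩
  have hexp : ∀ h, f h = ∑ θ : H →* ℂˣ, (F θ : ℂ) * (θ h : ℂ) := fun h => by
    rw [fourier hH f h]
    exact Finset.sum_congr rfl fun θ _ => by
      rw [show classInner f (fun x => (θ x : ℂ)) = F θ from hF θ]
  have hnorm : classInner f f = ((∑ θ, F θ ^ 2 : ℤ) : ℂ) := by
    have e : f = ∑ θ : H →* ℂˣ, (F θ : ℂ) • fun x => (θ x : ℂ) := by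
      funext h
      rw [Finset.sum_apply, hexp h]
      rfl
    conv_lhs => arg 2; rw [e]
    rw [inner_sum_right]
    push_cast
    refine Finset.sum_congr rfl fun θ _ => ?_
    rw [Chars.inner_smul_right, show classInner f (fun x => (θ x : ℂ)) = F θ from hF θ,
      map_intCast, sq]
  have h1 : f 1 = ((∑ θ, F θ : ℤ) : ℂ) := by
    rw [hexp 1]
    push_cast
    simp
  have hN : ∑ h : H, ‖f h‖ ^ 2 = (Nat.card H : ℝ) * ((∑ θ, F θ ^ 2 : ℤ) : ℝ) := by
    have h := congrArg Complex.re hnorm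
    rw [inner_self_eq, Complex.ofReal_re, Complex.intCast_re] at h
    rw [← h]
    have hc : (Nat.card H : ℝ) ≠ 0 := Nat.cast_ne_zero.mpr Nat.card_pos.ne'
    field_simp
  rw [Finset.sum_erase_eq_sub (Finset.mem_univ _), hN, h1, Complex.norm_intCast, sq_abs,
    Nat.card_eq_fintype_card]
  push_cast
  ring

end Abelian

variable {G : Type u} [Group G] [Fintype G]

/-- The elements conjugate into `A`. -/
noncomputable def conjSet (A : Finset G) : Finset G := by
  classical
  exact Finset.univ.filter fun g => ∃ x : G, x * g * x⁻¹ ∈ A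

theorem mem_conjSet {A : Finset G} {g : G} : g ∈ conjSet A ↔ ∃ x : G, x * g * x⁻¹ ∈ A := by
  simp [conjSet]

theorem self_mem_conjSet {A : Finset G} {a : G} (ha : a ∈ A) : a ∈ conjSet A :=
  mem_conjSet.mpr ⟨1, by simpa using ha⟩

/-- Sums over the conjugates of a TI-subset. -/
theorem sum_conjSet (L : Subgroup G) (A : Finset G) (hL : ∀ x ∈ L, ∀ a ∈ A, x * a * x⁻¹ ∈ A)
    (hTI : ∀ x : G, ∀ a ∈ A, x * a * x⁻¹ ∈ A → x ∈ L) (f : G → ℝ)
    (hf : ∀ g x : G, f (x * g * x⁻¹) = f g) :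
    (Nat.card L : ℝ) * ∑ g ∈ conjSet A, f g = (Nat.card G : ℝ) * ∑ a ∈ A, f a := by
  classical
  haveI : Fintype L := Fintype.ofFinite _
  have h1 : ∑ z ∈ (Finset.univ : Finset G) ×ˢ A, f (z.1 * z.2 * z.1⁻¹) =
      (Nat.card G : ℝ) * ∑ a ∈ A, f a := by
    rw [Finset.sum_product, Finset.sum_congr rfl fun x _ => Finset.sum_congr rfl fun a _ => hf a x,
      Finset.sum_const, Finset.card_univ, nsmul_eq_mul, Nat.card_eq_fintype_card]
  rw [← h1, Finset.mul_sum,
    ← Finset.sum_fiberwise_of_maps_to (g := fun z : G × G => z.1 * z.2 * z.1⁻¹) (t := conjSet A)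
      (fun z hz => mem_conjSet.mpr ⟨z.1⁻¹, by
        simpa [mul_assoc] using (Finset.mem_product.mp hz).2⟩)]
  refine Finset.sum_congr rfl fun g hg => ?_
  obtain ⟨x, hx⟩ := mem_conjSet.mp hg
  rw [Finset.sum_congr rfl fun z hz => show f (z.1 * z.2 * z.1⁻¹) = f g by
      rw [(Finset.mem_filter.mp hz).2],
    Finset.sum_const, nsmul_eq_mul]
  refine congrArg (fun n : ℕ => (n : ℝ) * f g) ?_
  rw [Nat.card_eq_fintype_card, ← Finset.card_univ]
  refine Finset.card_bij (fun (l : L) _ => (x⁻¹ * (l : G)⁻¹, (l : G) * (x * g * x⁻¹) * (l : G)⁻¹))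
    (fun l _ => ?_) (fun l _ m _ e => ?_) fun z hz => ?_
  · refine Finset.mem_filter.mpr ⟨Finset.mem_product.mpr ⟨Finset.mem_univ _, hL l l.2 _ hx⟩, ?_⟩
    group
  · exact Subtype.ext (inv_injective (mul_left_cancel (Prod.ext_iff.mp e).1))
  · obtain ⟨hz1, hz2⟩ := Finset.mem_filter.mp hz
    have hzA := (Finset.mem_product.mp hz1).2
    have e : z.2 = z.1⁻¹ * g * z.1 := by rw [← hz2]; group
    have hmem : z.1⁻¹ * x⁻¹ * (x * g * x⁻¹) * (z.1⁻¹ * x⁻¹)⁻¹ ∈ A := by
      rw [show z.1⁻¹ * x⁻¹ * (x * g * x⁻¹) * (z.1⁻¹ * x⁻¹)⁻¹ = z.1⁻¹ * g * z.1 by group, ← e]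
      exact hzA
    refine ⟨⟨z.1⁻¹ * x⁻¹, hTI _ _ hx hmem⟩, Finset.mem_univ _, Prod.ext ?_ ?_⟩
    · show x⁻¹ * (z.1⁻¹ * x⁻¹)⁻¹ = z.1
      group
    · show z.1⁻¹ * x⁻¹ * (x * g * x⁻¹) * (z.1⁻¹ * x⁻¹)⁻¹ = z.2
      rw [e]; group

/-- The value of a generalized character at a power is the Galois conjugate of the value. -/
theorem gen_galois_apply {f : G → ℂ} (hf : IsGeneralizedCharacter G f) (σ : ℂ ≃+* ℂ) {k : ℕ}
    (hσ : ∀ z : ℂ, z ^ Nat.card G = 1 → σ z = z ^ k) (g : G) : σ (f g) = f (g ^ k) := by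
  obtain ⟨χ, ψ, h1, h2, rfl⟩ := hf
  rw [Pi.sub_apply, Pi.sub_apply, map_sub, CharApps.galois_apply σ hσ h1 g pow_card_eq_one',
    CharApps.galois_apply σ hσ h2 g pow_card_eq_one']

/-- A generalized character without zeros on a set closed under the powers prime to `|G|` has
squared absolute value at least one on average there. -/
theorem card_le_sum_normSq {f : G → ℂ} (hf : IsGeneralizedCharacter G f) (E : Finset G)
    (hne : ∀ g ∈ E, f g ≠ 0)
    (hcl : ∀ k : ℕ, k.Coprime (Nat.card G) → ∀ g ∈ E, g ^ k ∈ E) :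
    (E.card : ℝ) ≤ ∑ g ∈ E, ‖f g‖ ^ 2 := by
  classical
  haveI : NeZero (Nat.card G) := ⟨Nat.card_pos.ne'⟩
  obtain ⟨χ, ψ, hc, hd, hfe⟩ := id hf
  have hfix : ∀ (k : ℕ) (σ : ℂ ≃+* ℂ), k.Coprime (Nat.card G) →
      (∀ z : ℂ, z ^ Nat.card G = 1 → σ z = z ^ k) → σ (∏ g ∈ E, f g) = ∏ g ∈ E, f g := by
    intro k σ hk hσ
    rw [map_prod, Finset.prod_congr rfl fun g _ => gen_galois_apply hf σ hσ g]
    have hinj : Function.Injective fun g : G => g ^ k := (powCoprime hk.symm).injective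
    have himg : E.image (fun g => g ^ k) = E := Finset.eq_of_subset_of_card_le
      (Finset.image_subset_iff.mpr fun g hg => hcl k hk g hg)
      (le_of_eq (Finset.card_image_of_injective _ hinj).symm)
    conv_rhs => rw [← himg]
    exact (Finset.prod_image fun a _ b _ e => hinj e).symm
  obtain ⟨m, hm⟩ := CharApps.exists_int_of_rat (x := ∏ g ∈ E, f g)
    (IsIntegral.prod _ fun g _ => by
      rw [hfe, Pi.sub_apply]
      exact (char_isIntegral hc g).sub (char_isIntegral hd g))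
    (CharApps.exists_rat_of_fixed (prod_mem fun g _ => by
      rw [hfe, Pi.sub_apply]
      exact sub_mem (CharApps.char_mem_cyclo hc g pow_card_eq_one')
        (CharApps.char_mem_cyclo hd g pow_card_eq_one')) hfix)
  have hm0 : m ≠ 0 := by
    rintro rfl
    rw [Int.cast_zero] at hm
    exact Finset.prod_ne_zero_iff.mpr hne hm.symm
  refine CharApps.card_le_sum_of_one_le_prod E (fun g _ => by positivity) ?_
  rw [Finset.prod_pow, ← norm_prod, ← hm, Complex.norm_intCast, sq_abs]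
  exact_mod_cast Int.add_one_le_of_lt (pow_two_pos_of_ne_zero hm0)

/-- A value congruent to a root of unity is not zero. -/
theorem value_ne_zero_of_congr {ℓ : ℕ} [Fact ℓ.Prime] {f : G → ℂ}
    (hf : IsGeneralizedCharacter G f) {x y : G} (hxy : Commute x y)
    (hx : ∃ k, orderOf x = ℓ ^ k) (hy : ¬ ℓ ∣ orderOf y) {n : ℕ} (hn : n ≠ 0)
    (h : f (x * y) ^ n = 1) : f y ≠ 0 := by
  intro h0
  obtain ⟨M, hM, hℓM⟩ := BlockOrth.exists_maximal_above ℓ
  haveI : M.IsPrime := hM.isPrime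
  have h1 := TypeOne.memLocalIdeal_gen_sub (M := M) hℓM hf (x * y)
  rw [BlockOrth.pPrimePart_mul hxy hx hy, h0, sub_zero] at h1
  obtain ⟨k, rfl⟩ := Nat.exists_eq_succ_of_ne_zero hn
  refine Blocks.not_memLocalIdeal_one (M := M) ?_
  rw [← h, pow_succ]
  exact Blocks.MemLocalIdeal.mul_left' (Subring.pow_mem _ (TypeOne.gen_mem_loc hf _) k) h1

end CfsgLib.FT.PF13
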