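import Cfsg.Agent.Lib.FT.PF13.LocalNu
import Cfsg.Agent.Lib.FT.PF13.Grid
import Cfsg.Agent.Lib.FT.PF13.Tools
import Cfsg.Agent.Lib.CharsMore.CyclicTI
import Cfsg.Agent.Lib.CharsMore.CoherenceBasic

/-!
# Peterfalvi, section 13: one side of the pair and the images of the fixed differences

A maximal subgroup `S` with the configuration `LocalS` inside a group `G`, the TI-set formed by
`H` without the identity and the conjugates of the regular elements of `W₁ W₂`, and the images under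
induction of the differences `ν a b - ν a b'`.
-/

set_option autoImplicit false
set_option linter.style.haveILetI false
set_option linter.unusedSectionVars false

namespace CfsgLib.FT.PF13

open _root_.Subgroup Cfsg CfsgLib.Chars CfsgLib.CharsMore
open scoped ComplexConjugate

universe u

/-- Bessel's inequality with integral coefficients, and the case of equality. -/
theorem bessel {G : Type*} [Group G] [Fintype G] {ι : Type*} [DecidableEq ι] (s : Finset ι)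
    (e : ι → G → ℂ) (he : ∀ i ∈ s, ∀ j ∈ s, classInner (e i) (e j) = if i = j then 1 else 0)
    (f : G → ℂ) (c : ι → ℤ) (hc : ∀ i ∈ s, classInner f (e i) = c i) {n : ℤ}
    (hn : classInner f f = n) :
    ∑ i ∈ s, c i ^ 2 ≤ n ∧ (∑ i ∈ s, c i ^ 2 = n → f = ∑ i ∈ s, (c i : ℂ) • e i) := by
  set g : G → ℂ := f - ∑ i ∈ s, (c i : ℂ) • e i with hg
  have h1 : classInner f (∑ i ∈ s, (c i : ℂ) • e i) = ((∑ i ∈ s, c i ^ 2 : ℤ) : ℂ) := by
    rw [inner_sum_right]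
    push_cast
    exact Finset.sum_congr rfl fun i hi => by
      rw [Chars.inner_smul_right, hc i hi, map_intCast, sq]
  have h2 : classInner (∑ i ∈ s, (c i : ℂ) • e i) f = ((∑ i ∈ s, c i ^ 2 : ℤ) : ℂ) := by
    rw [← inner_conj, h1, map_intCast]
  have h3 : classInner (∑ i ∈ s, (c i : ℂ) • e i) (∑ i ∈ s, (c i : ℂ) • e i) =
      ((∑ i ∈ s, c i ^ 2 : ℤ) : ℂ) := by
    rw [inner_sum_left]
    push_cast
    refine Finset.sum_congr rfl fun i hi => ?_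
    rw [Chars.inner_smul_left, inner_sum_right, Finset.sum_eq_single_of_mem i hi fun j hj hji => by
      rw [Chars.inner_smul_right, he i hi j hj, if_neg (Ne.symm hji), mul_zero]]
    rw [Chars.inner_smul_right, he i hi i hi, if_pos rfl, map_intCast, mul_one, sq]
  have hgg : classInner g g = ((n - ∑ i ∈ s, c i ^ 2 : ℤ) : ℂ) := by
    rw [hg, Chars.inner_sub_left, Chars.inner_sub_right, Chars.inner_sub_right, hn, h1, h2, h3]
    push_cast
    ring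
  refine ⟨?_, fun h => ?_⟩
  · have := inner_self_re_nonneg g
    rw [hgg, Complex.intCast_re] at this
    exact sub_nonneg.mp (by exact_mod_cast this)
  · rw [h, sub_self, Int.cast_zero, inner_self_eq_zero_iff] at hgg
    exact sub_eq_zero.mp hgg

theorem isGeneralized_sub {X : Type*} [Group X] {φ ψ : X → ℂ} (hφ : IsGeneralizedCharacter X φ)
    (hψ : IsGeneralizedCharacter X ψ) : IsGeneralizedCharacter X (φ - ψ) :=
  mem_genChar.mp ((genChar X).sub_mem (mem_genChar.mpr hφ) (mem_genChar.mpr hψ))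

theorem inner_int {X : Type*} [Group X] [Fintype X] {φ ψ : X → ℂ}
    (hφ : IsGeneralizedCharacter X φ) (hψ : IsGeneralizedCharacter X ψ) :
    ∃ z : ℤ, classInner φ ψ = z :=
  inner_gen_int (mem_genChar.mpr hφ) (mem_genChar.mpr hψ)

theorem gen_inv_apply {X : Type*} [Group X] [Finite X] {φ : X → ℂ}
    (hφ : IsGeneralizedCharacter X φ) (x : X) : φ x⁻¹ = conj (φ x) := by
  obtain ⟨a, b, ha, hb, rfl⟩ := hφ
  rw [Pi.sub_apply, Pi.sub_apply, map_sub, char_inv ha, char_inv hb]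

namespace LocalS

variable {L : Type u} [Group L] [Fintype L] (T : LocalS L)

theorem inner_nu_one {θ : T.H →* ℂˣ} (hθ : T.Fixed θ) (a : T.W₁ →* ℂˣ) :
    classInner (T.nu a θ) (fun _ => (1 : ℂ)) = 0 := by
  classical
  haveI : Fintype T.K := Fintype.ofFinite _
  have hone : IsClassFunction L fun _ => (1 : ℂ) := fun _ _ => rfl
  rw [nu, dif_pos hθ.1, inner_indFun T.K _ hone]
  have h := inner_lin (T.exists_ext a hθ.1).choose 1
  rw [show (fun k : T.K => ((1 : T.K →* ℂˣ) k : ℂ)) = fun _ => 1 from rfl] at h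
  rw [h, if_neg]
  intro e
  obtain ⟨z, hz, hne⟩ := hθ.2
  refine hne ?_
  have hk : z * 1 ∈ T.K := by rw [mul_one]; exact mem_sup_left (T.P_le_H hz)
  have := (T.exists_ext a hθ.1).choose_spec z (T.P_le_H hz) 1 T.W₁.one_mem hk
  rw [e, MonoidHom.one_apply, show a ⟨1, T.W₁.one_mem⟩ = 1 from map_one a, mul_one] at this
  exact this.symm

/-- A power prime to `q` of a regular element is not the identity. -/
theorem reg_pow_ne {x y : L} (hx : x ∈ T.W₁) (hx1 : x ≠ 1) (hy : y ∈ T.W₂) {m : ℕ}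
    (hm : T.q.Coprime m) : (x * y) ^ m ≠ 1 := by
  intro h
  rw [(show Commute x y from T.commute_W₁_W₂ hx hy).mul_pow, mul_eq_one_iff_eq_inv] at h
  have h1 : x ^ m = 1 := T.disj_W₂_W₁ (T.W₁.pow_mem hx m)
    (h ▸ (T.P ⊔ T.U).inv_mem ((T.P ⊔ T.U).pow_mem (mem_sup_left (T.W₂_le hy)) m))
  have h2 : T.q ∣ m := T.orderOf_W₁ hx hx1 ▸ orderOf_dvd_of_pow_eq_one h1
  exact T.prime_q.one_lt.ne' (Nat.dvd_one.mp (hm ▸ Nat.dvd_gcd dvd_rfl h2))

theorem q_coprime_H : T.q.Coprime (Nat.card T.H) :=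
  T.q_coprime_D.coprime_dvd_right (Subgroup.card_dvd_of_le T.H_le_D)

theorem reg_notMem_H {x y : L} (hx : x ∈ T.W₁) (hx1 : x ≠ 1) (hy : y ∈ T.W₂) : x * y ∉ T.H :=
  fun h => T.reg_pow_ne hx hx1 hy T.q_coprime_H
    (congrArg Subtype.val (pow_card_eq_one' (x := (⟨x * y, h⟩ : T.H))))

end LocalS

/-- One of the two maximal subgroups, seen inside `G`. -/
structure Side {G : Type u} [Group G] (S W₁ W₂ : Subgroup G) where
  loc : LocalS S
  map_W₁ : loc.W₁.map S.subtype = W₁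
  map_W₂ : loc.W₂.map S.subtype = W₂
  ti : ∀ (g : G) (h : S), h ∈ loc.H → h ≠ 1 → ∀ hm : g * h * g⁻¹ ∈ S,
    (⟨g * h * g⁻¹, hm⟩ : S) ∈ loc.H → g ∈ S
  selfNorm : IsSelfNormalizingCyclic W₁ W₂

namespace Side

variable {G : Type u} [Group G] [Fintype G] {S W₁ W₂ : Subgroup G} (D : Side S W₁ W₂)

theorem W₁_le (D : Side S W₁ W₂) : W₁ ≤ S := D.map_W₁ ▸ Subgroup.map_subtype_le _

theorem W₂_le (D : Side S W₁ W₂) : W₂ ≤ S := D.map_W₂ ▸ Subgroup.map_subtype_le _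

theorem mem_W₁_loc {x : G} (hx : x ∈ W₁) (hS : x ∈ S) : (⟨x, hS⟩ : S) ∈ D.loc.W₁ := by
  rw [← D.map_W₁] at hx
  obtain ⟨z, hz, e⟩ := hx
  rwa [show (⟨x, hS⟩ : S) = z from Subtype.ext e.symm]

theorem mem_W₂_loc {x : G} (hx : x ∈ W₂) (hS : x ∈ S) : (⟨x, hS⟩ : S) ∈ D.loc.W₂ := by
  rw [← D.map_W₂] at hx
  obtain ⟨z, hz, e⟩ := hx
  rwa [show (⟨x, hS⟩ : S) = z from Subtype.ext e.symm]

theorem coe_mem_W₁ {x : S} (hx : x ∈ D.loc.W₁) : (x : G) ∈ W₁ :=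
  D.map_W₁ ▸ mem_map_of_mem S.subtype hx

theorem coe_mem_W₂ {x : S} (hx : x ∈ D.loc.W₂) : (x : G) ∈ W₂ :=
  D.map_W₂ ▸ mem_map_of_mem S.subtype hx

/-- The identification of the two copies of `W₁`. -/
noncomputable def eW₁ : D.loc.W₁ ≃* W₁ :=
  (D.loc.W₁.equivMapOfInjective S.subtype S.subtype_injective).trans
    (MulEquiv.subgroupCongr D.map_W₁)

/-- The identification of the two copies of `W₂`. -/
noncomputable def eW₂ : D.loc.W₂ ≃* W₂ :=
  (D.loc.W₂.equivMapOfInjective S.subtype S.subtype_injective).trans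
    (MulEquiv.subgroupCongr D.map_W₂)

theorem eW₁_apply (x : D.loc.W₁) : (D.eW₁ x : G) = ((x : S) : G) := rfl

theorem eW₂_apply (x : D.loc.W₂) : (D.eW₂ x : G) = ((x : S) : G) := rfl

/-- A character of `W₁` read in `S`. -/
noncomputable def res₁ (a : W₁ →* ℂˣ) : D.loc.W₁ →* ℂˣ := a.comp D.eW₁.toMonoidHom

/-- A character of `W₂` read in `S`. -/
noncomputable def res₂ (b : W₂ →* ℂˣ) : D.loc.W₂ →* ℂˣ := b.comp D.eW₂.toMonoidHom

theorem res₁_bijective : Function.Bijective D.res₁ :=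
  ⟨fun a a' h => MonoidHom.ext fun x => by
    simpa [res₁] using DFunLike.congr_fun h (D.eW₁.symm x),
   fun c => ⟨c.comp D.eW₁.symm.toMonoidHom, MonoidHom.ext fun x => by simp [res₁]⟩⟩

theorem res₂_inj {b b' : W₂ →* ℂˣ} (h : D.res₂ b = D.res₂ b') : b = b' :=
  MonoidHom.ext fun x => by simpa [res₂] using DFunLike.congr_fun h (D.eW₂.symm x)

theorem res₂_ne_one {b : W₂ →* ℂˣ} (hb : b ≠ 1) : D.res₂ b ≠ 1 :=
  fun h => hb (D.res₂_inj (h.trans (MonoidHom.ext fun _ => rfl)))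

theorem res₁_apply (a : W₁ →* ℂˣ) {x : G} (hx : x ∈ W₁) (hS : x ∈ S) :
    D.res₁ a ⟨⟨x, hS⟩, D.mem_W₁_loc hx hS⟩ = a ⟨x, hx⟩ :=
  congrArg a (Subtype.ext rfl)

theorem res₂_apply (b : W₂ →* ℂˣ) {x : G} (hx : x ∈ W₂) (hS : x ∈ S) :
    D.res₂ b ⟨⟨x, hS⟩, D.mem_W₂_loc hx hS⟩ = b ⟨x, hx⟩ :=
  congrArg b (Subtype.ext rfl)

theorem card_W₁ : Nat.card W₁ = D.loc.q :=
  (Nat.card_congr D.eW₁.toEquiv).symm.trans D.loc.card_W₁

theorem card_W₂ : Nat.card W₂ = D.loc.p :=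
  (Nat.card_congr D.eW₂.toEquiv).symm.trans D.loc.card_W₂

theorem card_hom_W₁ (D : Side S W₁ W₂) [Fintype (W₁ →* ℂˣ)] :
    Fintype.card (W₁ →* ℂˣ) = D.loc.q := by
  classical
  haveI : Fintype W₁ := Fintype.ofFinite _
  haveI := Fact.mk D.loc.prime_q
  haveI := isCyclic_of_prime_card D.card_W₁
  rw [card_hom_of_comm fun a b => mul_comm' a b, ← Nat.card_eq_fintype_card, D.card_W₁]

/-- The fixed character of `H` over `b`. -/
noncomputable def lam (b : W₂ →* ℂˣ) : D.loc.H →* ℂˣ := D.loc.lamB (D.res₂ b)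

theorem lam_fixed {b : W₂ →* ℂˣ} (hb : b ≠ 1) : D.loc.Fixed (D.lam b) :=
  D.loc.lamB_fixed (D.res₂_ne_one hb)

theorem lam_ne {b b' : W₂ →* ℂˣ} (h : b ≠ b') : D.lam b ≠ D.lam b' :=
  fun e => h (D.res₂_inj (D.loc.lamB_inj e))

/-- The elements of `H` other than `1` and the conjugates of the regular elements of `W₁ W₂`. -/
def A : Set G :=
  {g | ∃ hg : g ∈ S, ((⟨g, hg⟩ : S) ∈ D.loc.H ∧ g ≠ 1) ∨
    ∃ k : S, ∃ x ∈ D.loc.W₁, x ≠ 1 ∧ ∃ y ∈ D.loc.W₂, y ≠ 1 ∧ k * ⟨g, hg⟩ * k⁻¹ = x * y}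

variable [Fintype S]

theorem one_notMem_A : (1 : G) ∉ D.A := by
  rintro ⟨hg, ⟨-, h⟩ | ⟨k, x, hx, hx1, y, hy, -, e⟩⟩
  · exact h rfl
  · refine D.loc.reg_notMem_H hx hx1 hy ?_
    rw [← e, show (⟨1, hg⟩ : S) = 1 from rfl, mul_one, mul_inv_cancel]
    exact D.loc.H.one_mem

theorem regular_mem {x y : S} (hx : x ∈ D.loc.W₁) (hx1 : x ≠ 1) (hy : y ∈ D.loc.W₂) (hy1 : y ≠ 1) :
    ((x * y : S) : G) ∈ D.A :=
  ⟨(x * y).2, Or.inr ⟨1, x, hx, hx1, y, hy, hy1, by rw [inv_one, one_mul, mul_one]⟩⟩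

theorem mem_regularPart {x y : S} (hx : x ∈ D.loc.W₁) (hx1 : x ≠ 1) (hy : y ∈ D.loc.W₂)
    (hy1 : y ≠ 1) : ((x * y : S) : G) ∈ regularPart W₁ W₂ := by
  have hx' := D.coe_mem_W₁ hx
  have hy' := D.coe_mem_W₂ hy
  refine ⟨mul_mem_sup hx' hy', ?_⟩
  rintro (h | h)
  · have h' : (y : G) ∈ W₁ ⊓ W₂ :=
      ⟨by simpa using W₁.mul_mem (W₁.inv_mem hx') h, hy'⟩
    rw [D.selfNorm.2.2.1, mem_bot] at h'
    exact hy1 (Subtype.ext h')
  · have h' : (x : G) ∈ W₁ ⊓ W₂ :=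
      ⟨hx', by simpa using W₂.mul_mem h (W₂.inv_mem hy')⟩
    rw [D.selfNorm.2.2.1, mem_bot] at h'
    exact hx1 (Subtype.ext h')

theorem conj_H_ne_regular (g : G) {h x y k : S} (hh : h ∈ D.loc.H) (hx : x ∈ D.loc.W₁)
    (hx1 : x ≠ 1) (hy : y ∈ D.loc.W₂) (hm : g * (h : G) * g⁻¹ ∈ S) :
    k * (⟨g * (h : G) * g⁻¹, hm⟩ : S) * k⁻¹ ≠ x * y := by
  intro e
  refine D.loc.reg_pow_ne hx hx1 hy D.loc.q_coprime_H (Subtype.ext ?_)
  have hh' : h ^ Nat.card D.loc.H = 1 :=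
    congrArg Subtype.val (pow_card_eq_one' (x := (⟨h, hh⟩ : D.loc.H)))
  rw [← e, conj_pow, Subgroup.coe_mul, Subgroup.coe_mul, Subgroup.coe_inv, SubgroupClass.coe_pow,
    conj_pow, ← SubgroupClass.coe_pow, hh', OneMemClass.coe_one]
  simp

/-- `A` is a TI-set. -/
theorem A_TI (g : G) (hg : g ∉ S) (t : G) (ht : t ∈ D.A) (ht' : g * t * g⁻¹ ∈ D.A) : t = 1 := by
  exfalso
  obtain ⟨hS, ⟨hH, h1⟩ | ⟨k, x, hx, hx1, y, hy, hy1, e⟩⟩ := ht
  · obtain ⟨hS', ⟨hH', -⟩ | ⟨k', x', hx', hx1', y', hy', -, e'⟩⟩ := ht'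
    · exact hg (D.ti g ⟨t, hS⟩ hH (fun h => h1 (congrArg Subtype.val h)) hS' hH')
    · exact D.conj_H_ne_regular g hH hx' hx1' hy' hS' e'
  · obtain ⟨hS', ⟨hH', -⟩ | ⟨k', x', hx', hx1', y', hy', hy1', e'⟩⟩ := ht'
    · have hm : g⁻¹ * (g * t * g⁻¹) * g⁻¹⁻¹ ∈ S := by simpa [mul_assoc] using hS
      refine D.conj_H_ne_regular g⁻¹ hH' hx hx1 hy hm (k := k) ?_
      rw [← e]
      congr 2
      exact Subtype.ext (by simp [mul_assoc])
    · have h2 : (k' : G) * g * (k : G)⁻¹ ∈ W₁ ⊔ W₂ := by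
        by_contra hc
        refine regularPart_TI D.selfNorm _ hc _ (D.mem_regularPart hx hx1 hy hy1) ?_
        convert D.mem_regularPart hx' hx1' hy' hy1' using 1
        rw [← e, ← e']
        simp only [Subgroup.coe_mul, Subgroup.coe_inv]
        group
      refine hg ?_
      have h3 : (k' : G)⁻¹ * ((k' : G) * g * (k : G)⁻¹) * k ∈ S :=
        S.mul_mem (S.mul_mem (S.inv_mem k'.2) (sup_le D.W₁_le D.W₂_le h2)) k.2
      simpa [mul_assoc] using h3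

theorem ind_apply {ψ : S → ℂ} (hψ : IsClassFunction S ψ) (hA : ∀ s : S, (s : G) ∉ D.A → ψ s = 0)
    (s : S) (hs : (s : G) ∈ D.A) : indFun S ψ (s : G) = ψ s :=
  indFun_TI_apply D.A S D.A_TI hψ hA s hs fun h => D.one_notMem_A (by simpa [h] using hs)

theorem inner_ind {ψ φ : S → ℂ} (hφ : IsClassFunction S φ)
    (hψA : ∀ s : S, (s : G) ∉ D.A → ψ s = 0) (hφA : ∀ s : S, (s : G) ∉ D.A → φ s = 0) :
    classInner (indFun S ψ) (indFun S φ) = classInner ψ φ :=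
  inner_indFun_TI D.A S D.A_TI hφ hψA hφA (hψA 1 (by simpa using D.one_notMem_A))

/-- `ν a b` in `S`. -/
noncomputable def nu (a : W₁ →* ℂˣ) (b : W₂ →* ℂˣ) : S → ℂ := D.loc.nu (D.res₁ a) (D.lam b)

theorem gen_nu (a : W₁ →* ℂˣ) {b : W₂ →* ℂˣ} (hb : b ≠ 1) :
    IsGeneralizedCharacter S (D.nu a b) :=
  mem_genChar.mp (genChar_of_isCharacter (D.loc.isCharacter_nu (D.lam_fixed hb) _))

theorem nu_sub_vanish (a : W₁ →* ℂˣ) {b b' : W₂ →* ℂˣ} (hb : b ≠ 1) (hb' : b' ≠ 1) (s : S)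
    (hs : (s : G) ∉ D.A) : (D.nu a b - D.nu a b') s = 0 := by
  by_contra h
  refine hs ⟨s.2, ?_⟩
  rcases D.loc.nu_sub_support (D.lam_fixed hb) (D.lam_fixed hb') (D.res₁ a) h with ⟨h1, h2⟩ | h'
  · exact Or.inl ⟨h1, fun e => h2 (Subtype.ext e)⟩
  · exact Or.inr h'

variable {η : (W₁ →* ℂˣ) → (W₂ →* ℂˣ) → G → ℂ}

/-- Peterfalvi (13.3): `(ν a b - ν a b')^G = η a b - η a b'`. -/
theorem ind_nu_sub (hη : Grid W₁ W₂ η) (a : W₁ →* ℂˣ) {b b' : W₂ →* ℂˣ} (hb : b ≠ 1)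
    (hb' : b' ≠ 1) (hne : b ≠ b') :
    indFun S (D.nu a b - D.nu a b') = η a b - η a b' := by
  classical
  haveI : Fintype (W₁ →* ℂˣ) := Fintype.ofFinite _
  haveI : Fintype (W₂ →* ℂˣ) := Fintype.ofFinite _
  set δ := D.nu a b - D.nu a b' with hδ
  set Δ := indFun S δ with hΔ
  have hgδ : IsGeneralizedCharacter S δ := isGeneralized_sub (D.gen_nu a hb) (D.gen_nu a hb')
  have hgΔ : IsGeneralizedCharacter G Δ := isGeneralized_indFun S hgδ
  have hA : ∀ s : S, (s : G) ∉ D.A → δ s = 0 := D.nu_sub_vanish a hb hb'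
  have hvan : ∀ x y, x ∈ W₁ → y ∈ W₂ → x ≠ 1 → y ≠ 1 → (Δ - (η a b - η a b')) (x * y) = 0 := by
    intro x y hx hy hx1 hy1
    have hxS := D.W₁_le hx
    have hyS := D.W₂_le hy
    have hx' := D.mem_W₁_loc hx hxS
    have hy' := D.mem_W₂_loc hy hyS
    have hx1' : (⟨x, hxS⟩ : S) ≠ 1 := fun e => hx1 (congrArg Subtype.val e)
    have hy1' : (⟨y, hyS⟩ : S) ≠ 1 := fun e => hy1 (congrArg Subtype.val e)
    have hv : Δ (x * y) = δ (⟨x, hxS⟩ * ⟨y, hyS⟩) :=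
      D.ind_apply (isClassFunction_of_isGeneralized hgδ) hA _ (D.regular_mem hx' hx1' hy' hy1')
    have hval : ∀ c : W₂ →* ℂˣ, c ≠ 1 →
        D.nu a c (⟨x, hxS⟩ * ⟨y, hyS⟩) = (a ⟨x, hx⟩ : ℂ) * (c ⟨y, hy⟩ : ℂ) := by
      intro c hc
      rw [nu, D.loc.nu_regular (D.lam_fixed hc) _ hx' hx1' hy', D.res₁_apply a hx hxS,
        show D.lam c ⟨⟨y, hyS⟩, D.loc.P_le_H (D.loc.W₂_le hy')⟩ = D.res₂ c ⟨⟨y, hyS⟩, hy'⟩ from
          D.loc.lamB_W₂ _ hy', D.res₂_apply c hy hyS]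
    simp only [Pi.sub_apply, hv, hδ, hval b hb, hval b' hb', hη.eq_on a b x y hx hy hx1 hy1,
      hη.eq_on a b' x y hx hy hx1 hy1, sub_self]
  have hrow := hη.additive _ (isClassFunction_of_isGeneralized
    (isGeneralized_sub hgΔ (isGeneralized_sub (hη.gen a b) (hη.gen a b')))) hvan
  choose B hB using fun i j => inner_int hgΔ (hη.gen i j)
  let ε : (W₁ →* ℂˣ) → (W₂ →* ℂˣ) → ℤ := fun i j =>
    (if a = i ∧ b = j then 1 else 0) - if a = i ∧ b' = j then 1 else 0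
  have hin : ∀ i j, classInner (Δ - (η a b - η a b')) (η i j) = ((B i j - ε i j : ℤ) : ℂ) := by
    intro i j
    rw [Chars.inner_sub_left, Chars.inner_sub_left, hB, hη.orth, hη.orth]
    simp only [ε]
    push_cast
    rfl
  have hadd : ∀ i j, B i j - ε i j + (B 1 1 - ε 1 1) = B i 1 - ε i 1 + (B 1 j - ε 1 j) := by
    intro i j
    have h := hrow i j
    rw [hin, hin, hin, hin] at h
    exact_mod_cast h
  have h11 : B 1 1 = 0 := by
    have h := hB 1 1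
    have hone : IsClassFunction G fun _ => (1 : ℂ) := fun _ _ => rfl
    rw [hη.map_one, hΔ, inner_indFun S δ hone,
      hδ, Chars.inner_sub_left, nu, nu, D.loc.inner_nu_one (D.lam_fixed hb),
      D.loc.inner_nu_one (D.lam_fixed hb'), sub_zero] at h
    exact_mod_cast h.symm
  have hnorm : classInner Δ Δ = ((2 : ℤ) : ℂ) := by
    rw [hΔ, D.inner_ind (isClassFunction_of_isGeneralized hgδ) hA hA, hδ]
    simp only [Chars.inner_sub_left, Chars.inner_sub_right, nu,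
      D.loc.inner_nu (D.lam_fixed hb) _ (D.lam_fixed hb') _,
      D.loc.inner_nu (D.lam_fixed hb) _ (D.lam_fixed hb) _,
      D.loc.inner_nu (D.lam_fixed hb') _ (D.lam_fixed hb') _,
      D.loc.inner_nu (D.lam_fixed hb') _ (D.lam_fixed hb) _, D.lam_ne hne, D.lam_ne (Ne.symm hne),
      false_and, true_and, if_true, if_false]
    norm_num
  have horth : ∀ (s : Finset ((W₁ →* ℂˣ) × (W₂ →* ℂˣ))), ∀ i ∈ s, ∀ j ∈ s,
      classInner (η i.1 i.2) (η j.1 j.2) = if i = j then 1 else 0 := fun s i _ j _ => by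
    rw [hη.orth]
    exact if_congr Prod.ext_iff.symm rfl rfl
  obtain ⟨x1, hx1, x2, hx2, h12⟩ : ∃ x1, x1 ≠ a ∧ ∃ x2, x2 ≠ a ∧ x1 ≠ x2 := by
    have hc : 1 < ((Finset.univ : Finset (W₁ →* ℂˣ)).erase a).card := by
      rw [Finset.card_erase_of_mem (Finset.mem_univ _), Finset.card_univ, D.card_hom_W₁]
      have := D.loc.two_lt_q
      omega
    obtain ⟨x, hx, y, hy, hxy⟩ := Finset.one_lt_card.mp hc
    exact ⟨x, Finset.ne_of_mem_erase hx, y, Finset.ne_of_mem_erase hy, hxy⟩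
  have hle := (bessel (({a, x1, x2} : Finset _) ×ˢ ({1, b, b'} : Finset _)) (fun i => η i.1 i.2)
    (horth _) Δ (fun i => B i.1 i.2) (fun i _ => hB i.1 i.2) hnorm).1
  rw [Finset.sum_product, Finset.sum_insert (by simp [Ne.symm hx1, Ne.symm hx2]),
    Finset.sum_pair h12] at hle
  simp only [Finset.sum_insert (show (1 : W₂ →* ℂˣ) ∉ ({b, b'} : Finset _) by
      simp [Ne.symm hb, Ne.symm hb']),
    Finset.sum_pair hne] at hle
  have e1 : ∀ i, ε i 1 = 0 := fun i => by simp [ε, hb, hb']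
  obtain ⟨c, hc⟩ : ∃ c, c = B 1 b - ε 1 b := ⟨_, rfl⟩
  obtain ⟨d, hd⟩ : ∃ d, d = B 1 b' - ε 1 b' := ⟨_, rfl⟩
  have eb : ∀ i, B i b = B i 1 + c + ε i b := fun i => by
    have := hadd i b
    rw [e1 i, e1 1, h11, ← hc] at this
    linarith
  have eb' : ∀ i, B i b' = B i 1 + d + ε i b' := fun i => by
    have := hadd i b'
    rw [e1 i, e1 1, h11, ← hd] at this
    linarith
  have eab : ε a b = 1 ∧ ε a b' = -1 := by simp [ε, hne, Ne.symm hne]
  have e0 : ∀ i, i ≠ a → ε i b = 0 ∧ ε i b' = 0 := fun i hi => by simp [ε, Ne.symm hi]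
  rw [eb a, eb x1, eb x2, eb' a, eb' x1, eb' x2, eab.1, eab.2, (e0 x1 hx1).1, (e0 x1 hx1).2,
    (e0 x2 hx2).1, (e0 x2 hx2).2] at hle
  simp only [add_zero] at hle
  set r := B a 1
  set r₁ := B x1 1
  set r₂ := B x2 1
  have hkey : ∀ u v : ℤ, (u ≠ 0 ∨ v ≠ 0) → ∀ w, 1 ≤ w ^ 2 + (w + u) ^ 2 + (w + v) ^ 2 := by
    intro u v huv w
    rcases eq_or_ne w 0 with rfl | hw
    · rcases huv with h | h <;>
        nlinarith [Int.add_one_le_of_lt (pow_two_pos_of_ne_zero h), sq_nonneg u, sq_nonneg v]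
    · nlinarith [Int.add_one_le_of_lt (pow_two_pos_of_ne_zero hw), sq_nonneg (w + u),
        sq_nonneg (w + v)]
  have hcd : c = 0 ∧ d = 0 := by
    by_contra hcd
    have h' : c ≠ 0 ∨ d ≠ 0 := by
      by_contra h''
      push Not at h''
      exact hcd h''
    have k1 := hkey c d h' r₁
    have k2 := hkey c d h' r₂
    have z1 : r = 0 := by nlinarith [sq_nonneg (r + c + 1), sq_nonneg (r + d - 1), sq_nonneg r]
    have z2 : c + 1 = 0 := by
      nlinarith [sq_nonneg (r + c + 1), sq_nonneg (r + d - 1), sq_nonneg r]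
    have z3 : d - 1 = 0 := by
      nlinarith [sq_nonneg (r + c + 1), sq_nonneg (r + d - 1), sq_nonneg r]
    rw [show c = -1 by linarith, show d = 1 by linarith] at hle
    nlinarith [sq_nonneg r₁, sq_nonneg r₂, sq_nonneg r]
  obtain ⟨hc0, hd0⟩ := hcd
  have hr0 : r = 0 := by
    rw [hc0, hd0] at hle
    nlinarith [sq_nonneg r₁, sq_nonneg r₂, sq_nonneg r]
  have hb1 : B a b = 1 := by rw [eb, eab.1]; omega
  have hb1' : B a b' = -1 := by rw [eb', eab.2]; omega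
  have hfin := (bessel ({(a, b), (a, b')} : Finset _) (fun i => η i.1 i.2)
    (horth _) Δ (fun i => B i.1 i.2) (fun i _ => hB i.1 i.2) hnorm).2
  rw [Finset.sum_pair (by simp [hne]), Finset.sum_pair (by simp [hne])] at hfin
  have h := hfin (by rw [hb1, hb1']; norm_num)
  rw [h, hb1, hb1']
  simp [sub_eq_add_neg]

/-- The sum of the previous identity over `a`. -/
theorem ind_zeta_sub [Fintype (W₁ →* ℂˣ)] (hη : Grid W₁ W₂ η) {b b' : W₂ →* ℂˣ} (hb : b ≠ 1)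
    (hb' : b' ≠ 1) (hne : b ≠ b') :
    indFun S (D.loc.zeta (D.lam b) - D.loc.zeta (D.lam b')) =
      ∑ a : W₁ →* ℂˣ, (η a b - η a b') := by
  classical
  haveI : Fintype (D.loc.W₁ →* ℂˣ) := Fintype.ofFinite _
  rw [← D.loc.sum_nu (D.lam_fixed hb), ← D.loc.sum_nu (D.lam_fixed hb'), ← Finset.sum_sub_distrib,
    ← Fintype.sum_bijective D.res₁ D.res₁_bijective (fun a => D.nu a b - D.nu a b') _ fun _ => rfl,
    indFun_sum]
  exact Finset.sum_congr rfl fun a _ => D.ind_nu_sub hη a hb hb' hne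

end Side

end CfsgLib.FT.PF13
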